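import Cfsg.Agent.Lib.MinDeg.Tools
import Cfsg.Agent.Lib.ClassMax.Orth

/-! Counting vectors, torus elements, passage to central quotients. -/

set_option autoImplicit false
set_option linter.unusedSectionVars false
set_option linter.unusedSimpArgs false
set_option linter.unusedVariables false

namespace H20.MD

open Module H28 H97
open scoped Classical

universe u v

section Comb

variable {F V : Type*} [Field F] [AddCommGroup V] [Module F V] {σ : F →+* F}
  {P : PQ F V σ} {d f : V} [FiniteDimensional F V]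

theorem Pair.B_comb (h : Pair P d f) (a b a' b' : F) (w w' : Wp P d f) :
    P.B (a • d + b • f + w) (a' • d + b' • f + w') = σ a * b' + P.ε * σ b * a' + P.B w w' := by
  simp [B_smul_left, h.dd, h.ff, h.hdf, h.fd, W_d, W_f, W_d', W_f']
  ring

theorem q_comb' {w : V} (h : Pair P d f) (hd : P.B d w = 0) (hf : P.B f w = 0) (a b : F) :
    P.q (a • d + b • f + w) - (σ a * b + P.q w) ∈ P.Λ := by
  have h1 := P.q_add (a • d + b • f) w
  have h2 := P.q_add (a • d) (b • f)
  have h3 := P.q_smul_mem h.hd a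
  have h4 := P.q_smul_mem h.hf b
  have := P.Λ.add_mem (P.Λ.add_mem h1 h2) (P.Λ.add_mem h3 h4)
  convert this using 1
  simp [B_smul_left, hd, hf, h.hdf]
  ring

theorem Pair.q_comb (h : Pair P d f) (a b : F) (w : Wp P d f) :
    P.q (a • d + b • f + w) - (σ a * b + P.q w) ∈ P.Λ := q_comb' h (W_d w) (W_f w) a b

theorem Pair.decomp' (h : Pair P d f) (x : V) : ∃ (a b : F) (w : Wp P d f), x = a • d + b • f + w :=
  ⟨_, _, h.decomp x⟩

theorem Pair.le_ext (h : Pair P d f) {g g' : V ≃ₗ[F] V} (h1 : g d = g' d) (h2 : g f = g' f)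
    (h3 : ∀ w : Wp P d f, g w = g' w) : g = g' := by
  ext x
  obtain ⟨a, b, w, rfl⟩ := h.decomp' x
  simp [h1, h2, h3]

theorem Pair.EG_ext (h : Pair P d f) {g g' : EG P} (h1 : g.1 d = g'.1 d) (h2 : g.1 f = g'.1 f)
    (h3 : ∀ w : Wp P d f, g.1 w = g'.1 w) : g = g' := Subtype.ext (h.le_ext h1 h2 h3)

theorem Pair.exists_isom (hP : P.B.SeparatingLeft) {d' f' : V} (h : Pair P d f) (h' : Pair P d' f')
    (φ : Wp P d f →ₗ[F] V) (h1 : ∀ w, P.B d' (φ w) = 0) (h2 : ∀ w, P.B f' (φ w) = 0)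
    (hB : ∀ w w', P.B (φ w) (φ w') = P.B w w') (hq : ∀ w, P.q (φ w) - P.q w ∈ P.Λ) :
    ∃ g ∈ P.Isom, g d = d' ∧ g f = f' ∧ ∀ w : Wp P d f, g w = φ w := by
  let L : (F × F × Wp P d f) →ₗ[F] V :=
    { toFun := fun x => x.1 • d' + x.2.1 • f' + φ x.2.2
      map_add' := fun x y => by simp only [Prod.fst_add, Prod.snd_add, map_add]; module
      map_smul' := fun c x => by
        simp only [Prod.smul_fst, Prod.smul_snd, map_smul, RingHom.id_apply, smul_eq_mul]
        module }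
  have hL : ∀ (a b : F) (w : Wp P d f), (L ∘ₗ h.equiv.symm.toLinearMap) (a • d + b • f + w) =
      a • d' + b • f' + φ w := fun a b w => by
    have : h.equiv.symm (a • d + b • f + w) = (a, b, w) := h.equiv.symm_apply_eq.2 rfl
    rw [LinearMap.comp_apply, LinearEquiv.coe_coe, this]
    rfl
  obtain ⟨g, hg, e⟩ := P.exists_isom_of_linear hP (L ∘ₗ h.equiv.symm.toLinearMap) (fun x y => by
      obtain ⟨a, b, w, rfl⟩ := h.decomp' x
      obtain ⟨a', b', w', rfl⟩ := h.decomp' y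
      rw [hL, hL, h.B_comb, ← hB]
      exact h'.B_comb a b a' b' ⟨φ w, h1 w, h2 w⟩ ⟨φ w', h1 w', h2 w'⟩) (fun x => by
      obtain ⟨a, b, w, rfl⟩ := h.decomp' x
      rw [hL]
      have := P.Λ.add_mem (P.Λ.sub_mem (q_comb' h' (h1 w) (h2 w) a b) (h.q_comb a b w)) (hq w)
      convert this using 1
      ring)
  refine ⟨g, hg, ?_, ?_, fun w => ?_⟩
  · simpa [← e] using hL 1 0 0
  · simpa [← e] using hL 0 1 0
  · simpa [← e] using hL 0 0 w

theorem Pair.smul (h : Pair P d f) {a : F} (ha : a ≠ 0) : Pair P (a • d) ((σ a)⁻¹ • f) :=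
  ⟨P.q_smul_mem h.hd _, P.q_smul_mem h.hf _, by simp [B_smul_left, h.hdf, sigma_ne ha]⟩

theorem Pair.exists_tor_isom (hP : P.B.SeparatingLeft) (h : Pair P d f) {a : F} (ha : a ≠ 0) :
    ∃ g ∈ P.Isom, g d = a • d ∧ g f = (σ a)⁻¹ • f ∧ ∀ w : Wp P d f, g w = w :=
  h.exists_isom hP (h.smul ha) (Wp P d f).subtype (fun w => by simp [B_smul_left, W_d])
    (fun w => by simp [B_smul_left, W_f]) (fun _ _ => rfl) (fun w => by simp)

theorem Pair.exists_swap_isom (hP : P.B.SeparatingLeft) (h : Pair P d f) :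
    ∃ g ∈ P.Isom, g d = f ∧ g f = P.ε • d ∧ ∀ w : Wp P d f, g w = w :=
  h.exists_isom hP h.symm (Wp P d f).subtype (fun w => by simp [W_f])
    (fun w => by simp [B_smul_left, W_d]) (fun _ _ => rfl) (fun w => by simp)

theorem inv_apply_of_eq {g : V ≃ₗ[F] V} {x y : V} (h : g x = y) : g⁻¹ y = x := by
  rw [← h, le_inv_apply_apply]

/-- Torus elements with norm scalars lie in `EG`. -/
theorem Pair.exists_tor {k : ℕ} (hK : IsoK P k) (hP : P.B.SeparatingLeft) (hn : k + 2 ≤ finrank F V)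
    (h : Pair P d f) {a : F} (ha : a ≠ 0) :
    ∃ g : EG P, Lev d f g (σ a * a) ∧ ∀ w : Wp P d f, g.1 w = w := by
  obtain ⟨t, ht, t1, t2, t3⟩ := h.exists_tor_isom hP ha
  obtain ⟨s, hs, s1, s2, s3⟩ := h.exists_swap_isom hP
  have hσ := sigma_ne (σ := σ) ha
  have s4 : s⁻¹ d = P.ε • f := inv_apply_of_eq (by rw [map_smul, s2, smul_smul, P.εε, one_smul])
  have s5 : s⁻¹ f = d := inv_apply_of_eq s1
  have t4 : t⁻¹ d = a⁻¹ • d := inv_apply_of_eq (by
    rw [map_smul, t1, smul_smul, inv_mul_cancel₀ ha, one_smul])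
  have t5 : t⁻¹ f = σ a • f := inv_apply_of_eq (by
    rw [map_smul, t2, smul_smul, mul_inv_cancel₀ hσ, one_smul])
  refine ⟨⟨t * s * t⁻¹ * s⁻¹, hK.commutator_mem_EG hP hn ht hs⟩,
    ⟨mul_ne_zero hσ ha, ?_, ?_⟩, fun w => ?_⟩
  · simp only [le_mul_apply, s4, map_smul, t5, s2, t1, smul_smul]
    congr 1
    linear_combination (σ a * a) * P.εε
  · simp only [le_mul_apply, s5, map_smul, t4, s1, t2, smul_smul, map_mul, P.σσ, mul_inv]
  · simp only [le_mul_apply, inv_apply_of_eq (s3 w), inv_apply_of_eq (t3 w), s3, t3]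

theorem Lev.comm_of_triv {g k : EG P} {a b : F} (h : Pair P d f) (hg : Lev d f g a)
    (hw : ∀ w : Wp P d f, g.1 w = w) (hk : Lev d f k b) : g * k = k * g := by
  refine h.EG_ext ?_ ?_ fun w => ?_
  · simp only [EG_mul_apply, hg.gd, hk.gd, map_smul, smul_smul, mul_comm]
  · simp only [EG_mul_apply, hg.gf, hk.gf, map_smul, smul_smul, mul_comm]
  · rw [EG_mul_apply, EG_mul_apply, hw, hw ⟨_, hk.mem_W w⟩]

theorem Lev.fpf_of_triv {g : EG P} {a : F} (hg : Lev d f g a) (hw : ∀ w : Wp P d f, g.1 w = w)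
    (h1 : σ a ≠ 1) (h2 : ∀ l ∈ P.Λ, σ a * a * l = l → l = 0) (x : Heis P d f) (hx : hg.cj x = x) :
    x = 1 := by
  have e1 : σ a • (x.w : V) = x.w := by rw [← hw x.w, ← hg.cj_w, hx, hw]
  have e2 : σ a * a * x.c = x.c := by rw [← hg.cj_c, hx]
  have e3 : x.w = 0 := by
    have : (σ a - 1) • (x.w : V) = 0 := by rw [sub_smul, e1, one_smul, sub_self]
    exact Subtype.ext ((smul_eq_zero.1 this).resolve_left (sub_ne_zero.2 h1))
  have e4 := x.valid
  rw [e3] at e4
  exact Heis.ext e3 (h2 _ (by simpa using P.Λ.add_mem e4 P.q_zero) e2)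

theorem finrank_span_pair_le (x y : V) : finrank F (Submodule.span F ({x, y} : Set V)) ≤ 2 := by
  rw [Submodule.span_insert]
  have := finrank_sup_le' (F ∙ x) (F ∙ y)
  have := finrank_span_singleton_le (F := F) x
  have := finrank_span_singleton_le (F := F) y
  omega

/-- Transitivity on hyperbolic pairs. -/
theorem Pair.exists_EG {k : ℕ} (hK : IsoK P k) (hP : P.B.SeparatingLeft) (hn : k + 2 ≤ finrank F V)
    {d' f' : V} (h : Pair P d f) (h' : Pair P d' f') : ∃ g : EG P, g.1 d = d' ∧ g.1 f = f' := by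
  obtain ⟨g₁, hg₁, e₁⟩ := hK.exists_EG_apply_eq hP (by omega) h.d_ne h'.d_ne (P.Λ.sub_mem h.hd h'.hd)
  have h1 : P.B d' (g₁ f) = 1 := by rw [← e₁, (EG_le_isom hg₁).1, h.hdf]
  obtain ⟨g₂, hg₂, -, e₂, e₃⟩ := (xle_EG h'.hd).exists_apply_eq h'.hd (x := g₁ f) (y := f')
    (P.Λ.sub_mem (isom_q (EG_le_isom hg₁) h.hf) h'.hf) (by rw [h1, h'.hdf]) (by simp [h1])
  refine ⟨⟨g₂ * g₁, (EG P).mul_mem hg₂ hg₁⟩, ?_, e₂⟩
  change g₂ (g₁ d) = d'
  rw [e₁, e₃ _ h'.dd (P.eq_zero_symm (by simp [h1, h'.hdf]))]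

theorem Pair.exists_lev {k : ℕ} (hK : IsoK P k) (hP : P.B.SeparatingLeft) (hn : k + 2 ≤ finrank F V)
    (h : Pair P d f) {a : F} (ha : a ≠ 0) : ∃ g : EG P, Lev d f g a := by
  obtain ⟨g, h1, h2⟩ := h.exists_EG hK hP hn (h.smul ha)
  exact ⟨g, ha, h1, h2⟩

/-- The orbits of the Levi factor on vectors. -/
theorem Pair.exists_levAut {k : ℕ} (hK : IsoK P k) (hP : P.B.SeparatingLeft)
    (hn : k + 4 ≤ finrank F V) (h : Pair P d f) {y y' : Wp P d f} (hy : y ≠ 0) (hy' : y' ≠ 0) {a : F}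
    (ha : a ≠ 0) (hq : P.q y' - σ a * a * P.q y ∈ P.Λ) : ∃ γ ∈ LevAut P d f, γ y = y' := by
  obtain ⟨g, hg⟩ := h.exists_lev hK hP (by omega) (inv_ne_zero ha)
  have h1 := h.finrank_W
  obtain ⟨γ, hγ, e⟩ := (isoK_Pw hK d f).exists_EG_apply_eq (h.nd hP) (by omega) (x := hg.rho y)
    (y := y') (by simpa using hy) hy' (by
      rw [Pw_q, Pw_q, Pw_Λ, hg.rho_apply, inv_inv]
      have := P.Λ.sub_mem (P.Λ.add_mem (P.q_smul a (g.1 y)) (P.norm_mem a _ (EG_q g y))) hq
      convert this using 1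
      ring)
  exact ⟨γ * hg.rho, (LevAut P d f).mul_mem (EG_le_LevAut hγ) hg.rho_mem, e⟩

theorem exists_smul_EG {k : ℕ} (hK : IsoK P k) (hP : P.B.SeparatingLeft)
    (hn : k + 2 ≤ finrank F V) {v y : V} (hv : v ≠ 0) (hy : y ≠ 0) {a : F}
    (ha : a ≠ 0) (hq : P.q y - σ a * a * P.q v ∈ P.Λ) :
    ∃ a : F, a ≠ 0 ∧ ∃ γ ∈ EG P, y = a • γ v := by
  obtain ⟨γ, hγ, e⟩ := hK.exists_EG_apply_eq hP hn (smul_ne_zero ha hv) hy (by
    have := P.Λ.sub_mem (P.q_smul a v) hq
    convert this using 1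
    ring)
  exact ⟨a, ha, γ, hγ, by rw [← e, map_smul]⟩

theorem mem_sup_of_eu_aux {r w x : V} {c : F} (h : eu P r w c x = x) (hrx : P.B r x ≠ 0) :
    w ∈ F ∙ r := by
  have h2 : P.ε * P.B r x ≠ 0 := mul_ne_zero P.ε_ne_zero hrx
  rw [eu_apply] at h
  refine Submodule.mem_span_singleton.2 ⟨(P.ε * P.B r x)⁻¹ * (P.B w x - P.ε * c * P.B r x), ?_⟩
  apply smul_right_injective V h2
  simp only [smul_smul, mul_inv_cancel_left₀ h2]
  linear_combination (norm := module) h

theorem center_smul {k : ℕ} (hK : IsoK P k) (hP : P.B.SeparatingLeft) (hn : k + 2 ≤ finrank F V)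
    (h4 : 4 ≤ finrank F V) {z : EG P} (hz : z ∈ Subgroup.center (EG P)) (v : V) : z.1 v ∈ F ∙ v := by
  by_contra hx
  obtain ⟨r, hr, hrv, hrx⟩ := hK.exists_sing_perp hP hn hx
  have h1 := finrank_le_perp (P := P) (Submodule.span F ({r, v} : Set V))
  have h2 := finrank_span_pair_le (F := F) r v
  have h3 := finrank_span_singleton_le (F := F) r
  obtain ⟨w, hw, hwr⟩ : ∃ w ∈ perp P (Submodule.span F ({r, v} : Set V)), w ∉ F ∙ r := by
    by_contra h
    push Not at h
    have := Submodule.finrank_mono (show perp P (Submodule.span F ({r, v} : Set V)) ≤ F ∙ r from h)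
    omega
  rw [mem_perp_span] at hw
  have h5 := Subgroup.mem_center_iff.1 hz (euG hr (hw r (by simp)) (c := P.q w) (by simp))
  have h6 := congrArg (fun g : EG P => g.1 v) h5
  simp only [EG_mul_apply, euG_apply] at h6
  rw [eu_fix _ hrv (P.eq_zero_symm (hw v (by simp)))] at h6
  have := mem_sup_of_eu_aux h6 hrx
  exact hwr this

end Comb

section Cnt

variable {F : Type u} [Field F] [Finite F] {σ : F →+* F}

/-- The number of vectors with a given value of the form. -/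
noncomputable def cnt {V : Type*} [AddCommGroup V] [Module F V] (P : PQ F V σ) (c : F) : ℕ :=
  Nat.card {x : V // P.q x - c ∈ P.Λ}

theorem cnt_def {V : Type*} [AddCommGroup V] [Module F V] (P : PQ F V σ) (c : F) :
    cnt P c = Nat.card {x : V // P.q x - c ∈ P.Λ} := rfl

theorem cnt_pair {V : Type*} [AddCommGroup V] [Module F V] [FiniteDimensional F V] [Finite V]
    {P : PQ F V σ} {d f : V} (h : Pair P d f) (c : F) :
    cnt P c = Nat.card F * cnt (Pw P d f) c +
      (Nat.card F - 1) * (Nat.card P.Λ * Nat.card (Wp P d f)) := by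
  have h0 : Nat.card {a : F // a ≠ 0} = Nat.card F - 1 := by
    have := Fintype.ofFinite F
    simp [Fintype.card_subtype_compl]
  rw [cnt_def, cnt_def, ← h0, ← Nat.card_prod, ← Nat.card_prod, ← Nat.card_prod, ← Nat.card_sum]
  symm
  have key : ∀ (a b : F) (w : Wp P d f), P.q (a • d + b • f + w) - c ∈ P.Λ ↔
      σ a * b + P.q w - c ∈ P.Λ := fun a b w => by
    have h1 := h.q_comb a b w
    constructor
    · intro h2
      convert P.Λ.sub_mem h2 h1 using 1
      ring
    · intro h2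
      convert P.Λ.add_mem h2 h1 using 1
      ring
  refine Nat.card_eq_of_bijective (Sum.elim
    (fun x => ⟨(0 : F) • d + x.1 • f + x.2.1, (key _ _ _).2 (by simpa using x.2.2)⟩)
    (fun x => ⟨x.1.1 • d + ((σ x.1.1)⁻¹ * (x.2.1 + c - P.q x.2.2)) • f + x.2.2, (key _ _ _).2 (by
      rw [mul_inv_cancel_left₀ (sigma_ne x.1.2)]
      simpa using x.2.1.2)⟩)) ⟨?_, ?_⟩
  · have inj : ∀ {a b a' b' : F} {w w' : Wp P d f}, a • d + b • f + (w : V) = a' • d + b' • f + w' →
        a = a' ∧ b = b' ∧ w = w' := fun {a b a' b' w w'} e => by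
      have : (a, b, w) = (a', b', w') := h.equiv.injective e
      simpa using this
    rintro (⟨b, w⟩ | ⟨a, l, w⟩) (⟨b', w'⟩ | ⟨a', l', w'⟩) e <;>
      obtain ⟨h1, h2, h3⟩ := inj (congrArg Subtype.val e)
    · simp only at h2 h3
      rw [h2, Subtype.ext h3]
    · exact absurd h1.symm a'.2
    · exact absurd h1 a.2
    · simp only at h1 h2 h3
      obtain rfl : a = a' := Subtype.ext h1
      subst h3
      have := mul_left_cancel₀ (inv_ne_zero (sigma_ne a.2)) h2
      obtain rfl : l = l' := Subtype.ext (by linear_combination this)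
      rfl
  · rintro ⟨x, hx⟩
    obtain ⟨a, b, w, rfl⟩ := h.decomp' x
    have h1 := (key _ _ _).1 hx
    by_cases ha : a = 0
    · subst ha
      exact ⟨.inl (b, ⟨w, by simpa using h1⟩), rfl⟩
    · refine ⟨.inr (⟨a, ha⟩, ⟨_, h1⟩, w), Subtype.ext ?_⟩
      have : (σ a)⁻¹ * (σ a * b + P.q w - c + c - P.q w) = b := by
        field_simp [sigma_ne ha]
        ring
      simp only [Sum.elim_inr, this]

theorem Pair.card_W {V : Type*} [AddCommGroup V] [Module F V] [FiniteDimensional F V] [Finite V]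
    {P : PQ F V σ} {d f : V} (h : Pair P d f) : Nat.card V = Nat.card F ^ 2 * Nat.card (Wp P d f) := by
  rw [card_space (F := F), card_submodule, ← h.finrank_W, pow_add, mul_comm]

/-- Totally singular subspaces. -/
def TS {V : Type*} [AddCommGroup V] [Module F V] (P : PQ F V σ) (U : Submodule F V) : Prop :=
  (∀ u ∈ U, P.q u ∈ P.Λ) ∧ ∀ u ∈ U, ∀ u' ∈ U, P.B u u' = 0

theorem exists_TS {V : Type*} [AddCommGroup V] [Module F V] [FiniteDimensional F V] {P : PQ F V σ}
    {k : ℕ} (hK : IsoK P k) (j : ℕ) (hj : 2 * j + k ≤ finrank F V + 2) :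
    ∃ U : Submodule F V, TS P U ∧ j ≤ finrank F U := by
  induction j with
  | zero => exact ⟨⊥, ⟨fun u hu => by rw [(Submodule.mem_bot F).1 hu]; exact P.q_zero,
      fun u hu _ _ => by simp [(Submodule.mem_bot F).1 hu]⟩, Nat.zero_le _⟩
  | succ j ih =>
    obtain ⟨U, hU, hj'⟩ := ih (by omega)
    by_cases h : j + 1 ≤ finrank F U
    · exact ⟨U, hU, h⟩
    have h1 := finrank_le_perp (P := P) U
    obtain ⟨x, hx, hxU, hq⟩ := hK.exists_notMem (perp P U) U (by omega)
    have hx' := mem_perp.1 hx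
    have hx'' := mem_perp'.1 hx
    refine ⟨U ⊔ F ∙ x, ⟨?_, ?_⟩, ?_⟩
    · intro u hu
      obtain ⟨u, hu1, _, h2, rfl⟩ := Submodule.mem_sup.1 hu
      obtain ⟨a, rfl⟩ := Submodule.mem_span_singleton.1 h2
      exact sing_add (hU.1 u hu1) (P.q_smul_mem hq a) (by simp [hx' u hu1])
    · intro u hu u' hu'
      obtain ⟨u, hu1, _, h2, rfl⟩ := Submodule.mem_sup.1 hu
      obtain ⟨a, rfl⟩ := Submodule.mem_span_singleton.1 h2
      obtain ⟨u', hu2, _, h2, rfl⟩ := Submodule.mem_sup.1 hu'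
      obtain ⟨a', rfl⟩ := Submodule.mem_span_singleton.1 h2
      simp [hU.2 u hu1 u' hu2, hx' u hu1, hx'' u' hu2, P.self_eq_zero hq]
    · have := Submodule.finrank_lt_finrank_of_lt (show U < U ⊔ F ∙ x from
        lt_of_le_of_ne le_sup_left fun e => hxU (e ▸ Submodule.mem_sup_right
          (Submodule.mem_span_singleton_self x)))
      omega

theorem TS.exists_pair {V : Type*} [AddCommGroup V] [Module F V] [FiniteDimensional F V]
    {P : PQ F V σ} (hP : P.B.SeparatingLeft) {U : Submodule F V} (hU : TS P U) {j : ℕ}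
    (hj : j + 1 ≤ finrank F U) : ∃ d f, ∃ _ : Pair P d f, ∃ U' : Submodule F (Wp P d f),
      TS (Pw P d f) U' ∧ j ≤ finrank F U' := by
  obtain ⟨d, hd, hd0⟩ := exists_ne_zero_mem (X := U) (by omega)
  obtain ⟨f, h⟩ := H20.MD.exists_pair hP (hU.1 d hd) hd0
  refine ⟨d, f, h, U.comap (Wp P d f).subtype, ⟨fun u hu => hU.1 _ hu,
    fun u hu u' hu' => hU.2 _ hu _ hu'⟩, ?_⟩
  have h1 := finrank_inf_ker U (P.B f)
  have h2 : U ⊓ LinearMap.ker (P.B f) = (U.comap (Wp P d f).subtype).map (Wp P d f).subtype := by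
    rw [Submodule.map_comap_subtype, inf_comm (Wp P d f)]
    exact le_antisymm (fun x hx => ⟨hx.1, hU.2 d hd x hx.1, hx.2⟩) fun x hx => ⟨hx.1, hx.2.2⟩
  rw [h2, Submodule.finrank_map_subtype_eq] at h1
  omega

theorem cnt_ge (j : ℕ) : ∀ {V : Type v} [AddCommGroup V] [Module F V] [FiniteDimensional F V]
    [Finite V] {P : PQ F V σ} (_ : P.B.SeparatingLeft) {U : Submodule F V} (_ : TS P U)
    (_ : j ≤ finrank F U) (c : F),
    Nat.card F ^ j * (Nat.card P.Λ * Nat.card V) + (if c ∈ P.Λ then Nat.card F ^ (2 * j + 1) else 0) ≤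
      cnt P c * Nat.card F ^ (j + 1) + Nat.card P.Λ * Nat.card V := by
  induction j with
  | zero =>
    intro V _ _ _ _ P hP U hU hj c
    split_ifs with hc
    · have : 0 < cnt P c := by
        have : Nonempty {x : V // P.q x - c ∈ P.Λ} := ⟨⟨0, P.Λ.sub_mem P.q_zero hc⟩⟩
        exact Nat.card_pos
      simp only [pow_zero, one_mul, mul_zero, zero_add, pow_one]
      nlinarith
    · simp
  | succ j ih =>
    intro V _ _ _ _ P hP U hU hj c
    obtain ⟨d, f, h, U', hU', hj'⟩ := hU.exists_pair hP hj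
    have h1 := ih (h.nd hP) hU' hj' c
    rw [cnt_pair h, h.card_W]
    rw [Pw_Λ] at h1
    obtain ⟨q, hq⟩ : ∃ q, Nat.card F = q + 1 := ⟨_, (Nat.succ_pred_eq_of_pos Nat.card_pos).symm⟩
    rw [hq] at h1 ⊢
    have h2 := Nat.mul_le_mul_left ((q + 1) ^ 2) h1
    simp only [Nat.add_sub_cancel]
    split_ifs at h2 ⊢ with hc
    · calc _ = (q + 1) ^ 2 * ((q + 1) ^ j * (Nat.card P.Λ * Nat.card (Wp P d f)) + (q + 1) ^ (2 * j + 1))
            + q * (q + 1) ^ (j + 2) * (Nat.card P.Λ * Nat.card (Wp P d f)) := by ring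
        _ ≤ _ := Nat.add_le_add_right h2 _
        _ = _ := by ring
    · calc _ = (q + 1) ^ 2 * ((q + 1) ^ j * (Nat.card P.Λ * Nat.card (Wp P d f)) + 0)
            + q * (q + 1) ^ (j + 2) * (Nat.card P.Λ * Nat.card (Wp P d f)) := by ring
        _ ≤ _ := Nat.add_le_add_right h2 _
        _ = _ := by ring

end Cnt

section Quot

theorem quot_of_equiv {G K : Type*} [Group G] [Group K] (e : G ≃* K) (N : ℕ)
    (h1 : ∀ H : Subgroup K, H ≠ ⊤ → N ≤ H.index)
    (h2 : ∃ H : Subgroup K, Subgroup.center K ≤ H ∧ H.index = N) :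
    (∀ H : Subgroup (G ⧸ Subgroup.center G), H ≠ ⊤ → N ≤ H.index) ∧
      ∃ H : Subgroup (G ⧸ Subgroup.center G), H.index = N := by
  let π : K →* G ⧸ Subgroup.center G := (QuotientGroup.mk' _).comp e.symm.toMonoidHom
  have hπ : Function.Surjective π := (QuotientGroup.mk'_surjective _).comp e.symm.surjective
  constructor
  · intro H hH
    rw [← H.index_comap_of_surjective hπ]
    exact h1 _ fun h => hH (Subgroup.comap_injective hπ (by rw [h, Subgroup.comap_top]))
  · obtain ⟨H, hc, rfl⟩ := h2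
    refine ⟨H.map π, Subgroup.index_map_eq H hπ fun k hk => hc ?_⟩
    have h3 : e.symm k ∈ Subgroup.center G := (QuotientGroup.eq_one_iff _).1 hk
    rw [Subgroup.mem_center_iff] at h3 ⊢
    intro g
    apply e.symm.injective
    rw [map_mul, map_mul, h3]

variable {F V : Type*} [Field F] [AddCommGroup V] [Module F V] {σ : F →+* F}
  {P : PQ F V σ} [FiniteDimensional F V]

theorem not_le_St_quot {H : Subgroup (EG P)} (hH : H ≠ ⊤) (ω : EG P ⧸ H) : ¬ EG P ≤ St P ω := by
  obtain ⟨g, rfl⟩ := QuotientGroup.mk_surjective ω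
  have h1 : ¬ EG P ≤ St P ((1 : EG P) : EG P ⧸ H) := fun h => hH (eq_top_iff.2 fun k _ => by
    have := coe_mem_St.1 (h k.2)
    rw [← MulAction.mem_stabilizer_iff, MulAction.stabilizer_quotient] at this
    exact this)
  simpa using not_le_St_smul h1 g

instance finite_EG [Finite V] : Finite (EG P) :=
  Finite.of_injective (fun g : EG P => (g.1 : V → V)) fun _ _ e => EG_ext (congrFun e)

/-- The isomorphism between a subgroup of the linear group and the corresponding matrix group. -/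
noncomputable def pullEquiv {ι : Type} [Fintype ι] [DecidableEq ι] {F : Type*} [Field F]
    (M : Subgroup ((ι → F) ≃ₗ[F] (ι → F))) : pull M ≃* M :=
  { toFun := fun g => ⟨toLE ι F g.1, mem_pull.1 g.2⟩
    invFun := fun g => ⟨(toLE ι F).symm g.1, mem_pull.2 (by simpa using g.2)⟩
    left_inv := fun g => by simp
    right_inv := fun g => by simp
    map_mul' := fun g h => Subtype.ext (map_mul _ _ _) }

end Quot

theorem force_eq_count : True := by
  have := @cnt.eq_1.{0,0}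
  have := @cnt.eq_def.{0,0}
  have := @TS.eq_1.{0,0}
  have := @TS.eq_def.{0,0}
  have := @pullEquiv.eq_1.{0}
  have := @pullEquiv.eq_def.{0}
  trivial

end H20.MD
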