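import Cfsg.Agent.Base
import Cfsg.Agent.Lib.ClassMax.C1
import Cfsg.Agent.Lib.Forms.Perp

/-! Annihilators of additive subgroups of a finite formed space. -/

set_option autoImplicit false
set_option linter.unusedSectionVars false

namespace H20.MD

open Module H28 H97

theorem card_ann {A B : Type*} [AddCommGroup A] [Finite A] (χ : B → AddChar A ℂ)
    (hχ : Function.Bijective χ) (X : AddSubgroup A) :
    Nat.card {b // ∀ x ∈ X, χ b x = 1} * Nat.card X = Nat.card A := by
  classical
  have := Fintype.ofFinite A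
  have e1 : {b // ∀ x ∈ X, χ b x = 1} ≃ {φ : AddChar A ℂ // ∀ x ∈ X, φ x = 1} :=
    (Equiv.ofBijective χ hχ).subtypeEquiv fun _ => Iff.rfl
  let r : AddChar (A ⧸ X) ℂ → {φ : AddChar A ℂ // ∀ x ∈ X, φ x = 1} := fun φ =>
    ⟨φ.compAddMonoidHom (QuotientAddGroup.mk' X), fun x hx => by
      rw [AddChar.compAddMonoidHom_apply, QuotientAddGroup.mk'_apply,
        (QuotientAddGroup.eq_zero_iff x).2 hx, AddChar.map_zero_eq_one]⟩
  have hr : Function.Bijective r := by
    constructor
    · intro φ φ' h
      ext a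
      obtain ⟨a, rfl⟩ := QuotientAddGroup.mk_surjective a
      exact DFunLike.congr_fun (congrArg Subtype.val h) a
    · rintro ⟨φ, hφ⟩
      refine ⟨⟨fun a => Quotient.liftOn' a φ fun a b hab => ?_, ?_, ?_⟩, ?_⟩
      · have h1 := hφ _ (QuotientAddGroup.leftRel_apply.1 hab)
        have : b = a + (-a + b) := by abel
        rw [this, AddChar.map_add_eq_mul, h1, mul_one]
      · exact φ.map_zero_eq_one
      · intro a b
        obtain ⟨a, rfl⟩ := QuotientAddGroup.mk_surjective a
        obtain ⟨b, rfl⟩ := QuotientAddGroup.mk_surjective b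
        exact φ.map_add_eq_mul a b
      · exact Subtype.ext (AddChar.ext _ _ fun _ => rfl)
  have := Fintype.ofFinite (A ⧸ X)
  rw [Nat.card_congr e1, ← Nat.card_eq_of_bijective r hr, Nat.card_eq_fintype_card, AddChar.card_eq,
    ← Nat.card_eq_fintype_card, AddSubgroup.card_eq_card_quotient_mul_card_addSubgroup X]

theorem exists_psi (F : Type*) [Field F] [Finite F] : ∃ ψ : AddChar F ℂ, ψ ≠ 1 := by
  obtain ⟨ψ, h⟩ := (AddChar.exists_apply_ne_zero (α := F) (a := 1)).2 one_ne_zero
  exact ⟨ψ, fun e => h (by rw [e]; rfl)⟩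

/-- A fixed non-trivial additive character. -/
noncomputable def psi (F : Type*) [Field F] [Finite F] : AddChar F ℂ := (exists_psi F).choose

variable {F : Type*} [Field F] [Finite F]

theorem psi_ne_one : psi F ≠ 1 := (exists_psi F).choose_spec

theorem eq_zero_of_psi {a : F} (h : ∀ t, psi F (t * a) = 1) : a = 0 := by
  by_contra ha
  apply psi_ne_one (F := F)
  ext t
  have := h (t * a⁻¹)
  rwa [inv_mul_cancel_right₀ ha] at this

theorem exists_eq_psi (χ : AddChar F ℂ) : ∃ κ : F, ∀ t, χ t = psi F (κ * t) := by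
  classical
  have := Fintype.ofFinite F
  have hi := AddChar.to_mulShift_inj_of_isPrimitive (AddChar.IsPrimitive.of_ne_one (psi_ne_one (F := F)))
  have hb : Function.Bijective (psi F).mulShift :=
    (Fintype.bijective_iff_injective_and_card _).2 ⟨hi, by rw [AddChar.card_eq]⟩
  obtain ⟨κ, hκ⟩ := hb.2 χ
  exact ⟨κ, fun t => by rw [← hκ, AddChar.mulShift_apply]⟩

/-- An additive subgroup is separated from an element outside by a multiple of `psi`. -/
theorem exists_psi_sep (Z : AddSubgroup F) {l : F} (hl : l ∉ Z) :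
    ∃ κ : F, (∀ z ∈ Z, psi F (κ * z) = 1) ∧ psi F (κ * l) ≠ 1 := by
  obtain ⟨φ, hφ⟩ := (AddChar.exists_apply_ne_zero (α := F ⧸ Z) (a := (l : F ⧸ Z))).2
    (fun h => hl ((QuotientAddGroup.eq_zero_iff l).1 h))
  obtain ⟨κ, hκ⟩ := exists_eq_psi (φ.compAddMonoidHom (QuotientAddGroup.mk' Z))
  refine ⟨κ, fun z hz => ?_, by rwa [← hκ]⟩
  rw [← hκ, AddChar.compAddMonoidHom_apply, QuotientAddGroup.mk'_apply,
    (QuotientAddGroup.eq_zero_iff z).2 hz, AddChar.map_zero_eq_one]

variable {W : Type*} [AddCommGroup W] [Module F W] {σ : F →+* F} (P : PQ F W σ)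

/-- The right annihilator. -/
def annR (X : AddSubgroup W) : AddSubgroup W where
  carrier := {y | ∀ x ∈ X, psi F (P.B x y) = 1}
  zero_mem' x _ := by simp
  add_mem' {a b} ha hb x hx := by rw [map_add, AddChar.map_add_eq_mul, ha x hx, hb x hx, mul_one]
  neg_mem' {a} ha x hx := by rw [map_neg, AddChar.map_neg_eq_inv, ha x hx, inv_one]

/-- The left annihilator. -/
def annL (Y : AddSubgroup W) : AddSubgroup W where
  carrier := {x | ∀ y ∈ Y, psi F (P.B x y) = 1}
  zero_mem' x _ := by simp
  add_mem' {a b} ha hb x hx := by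
    rw [map_add, LinearMap.add_apply, AddChar.map_add_eq_mul, ha x hx, hb x hx, mul_one]
  neg_mem' {a} ha x hx := by
    rw [map_neg, LinearMap.neg_apply, AddChar.map_neg_eq_inv, ha x hx, inv_one]

variable {P}

theorem mem_annR {X : AddSubgroup W} {y : W} : y ∈ annR P X ↔ ∀ x ∈ X, psi F (P.B x y) = 1 := Iff.rfl

theorem mem_annL {Y : AddSubgroup W} {x : W} : x ∈ annL P Y ↔ ∀ y ∈ Y, psi F (P.B x y) = 1 := Iff.rfl

theorem force_eq_dual : True := by
  have := @psi.eq_1.{0}
  have := @psi.eq_def.{0}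
  have := @annR.eq_1.{0,0}
  have := @annR.eq_def.{0,0}
  have := @annL.eq_1.{0,0}
  have := @annL.eq_def.{0,0}
  trivial

variable [Finite W]

theorem card_annR (hP : P.B.SeparatingLeft) (X : AddSubgroup W) :
    Nat.card (annR P X) * Nat.card X = Nat.card W := by
  classical
  have := Fintype.ofFinite W
  let χ : W → AddChar W ℂ := fun y => ⟨fun x => psi F (P.B x y), by simp, fun a b => by
    rw [map_add, LinearMap.add_apply, AddChar.map_add_eq_mul]⟩
  have hi : Function.Injective χ := by
    intro y y' h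
    refine sub_eq_zero.1 (hP _ fun x => P.eq_zero_symm (eq_zero_of_psi fun t => ?_))
    have h1 : psi F (P.B (σ t • x) y) = psi F (P.B (σ t • x) y') := DFunLike.congr_fun h _
    rw [B_smul_left, B_smul_left, P.σσ] at h1
    rw [map_sub, mul_sub, AddChar.map_sub_eq_div, h1, div_self]
    exact (AddChar.val_isUnit _ _).ne_zero
  exact card_ann χ ((Fintype.bijective_iff_injective_and_card _).2 ⟨hi, by rw [AddChar.card_eq]⟩) X

theorem card_annL (hP : P.B.SeparatingLeft) (Y : AddSubgroup W) :
    Nat.card (annL P Y) * Nat.card Y = Nat.card W := by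
  classical
  have := Fintype.ofFinite W
  let χ : W → AddChar W ℂ := fun x => ⟨fun y => psi F (P.B x y), by simp, fun a b => by
    rw [map_add, AddChar.map_add_eq_mul]⟩
  have hi : Function.Injective χ := by
    intro x x' h
    refine sub_eq_zero.1 (hP _ fun y => eq_zero_of_psi fun t => ?_)
    have h1 : psi F (P.B x (t • y)) = psi F (P.B x' (t • y)) := DFunLike.congr_fun h _
    rw [LinearMap.map_smul, LinearMap.map_smul, smul_eq_mul, smul_eq_mul] at h1
    rw [map_sub, LinearMap.sub_apply, mul_sub, AddChar.map_sub_eq_div, h1, div_self]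
    exact (AddChar.val_isUnit _ _).ne_zero
  exact card_ann χ ((Fintype.bijective_iff_injective_and_card _).2 ⟨hi, by rw [AddChar.card_eq]⟩) Y

theorem annL_annR (hP : P.B.SeparatingLeft) (X : AddSubgroup W) : annL P (annR P X) = X := by
  symm
  refine AddSubgroup.eq_of_le_of_card_ge (fun x hx y hy => hy x hx) (le_of_eq ?_)
  have h1 := card_annR hP X
  have h2 := card_annL hP (annR P X)
  have h3 : 0 < Nat.card (annR P X) := Nat.card_pos
  apply Nat.eq_of_mul_eq_mul_right h3
  rw [h2, mul_comm, h1]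

theorem mem_of_annR (hP : P.B.SeparatingLeft) {X : AddSubgroup W} {x : W}
    (h : ∀ y ∈ annR P X, P.B x y = 0) : x ∈ X := by
  rw [← annL_annR hP X]
  intro y hy
  rw [h y hy, AddChar.map_zero_eq_one]

theorem annR_eq_top_iff (hP : P.B.SeparatingLeft) {X : AddSubgroup W} : annR P X = ⊤ ↔ X = ⊥ := by
  constructor
  · intro h
    have h1 := card_annR hP X
    rw [h, AddSubgroup.card_top] at h1
    have h3 : 0 < Nat.card W := Nat.card_pos
    exact AddSubgroup.card_eq_one.1 (by nlinarith)
  · rintro rfl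
    rw [eq_top_iff]
    intro y _ x hx
    rw [AddSubgroup.mem_bot.1 hx]
    simp

theorem annR_eq_bot_iff (hP : P.B.SeparatingLeft) {X : AddSubgroup W} : annR P X = ⊥ ↔ X = ⊤ := by
  constructor
  · intro h
    rw [eq_top_iff]
    intro x _
    refine mem_of_annR hP fun y hy => ?_
    rw [h, AddSubgroup.mem_bot] at hy
    simp [hy]
  · rintro rfl
    have h1 := card_annR hP (⊤ : AddSubgroup W)
    rw [AddSubgroup.card_top] at h1
    have h3 : 0 < Nat.card W := Nat.card_pos
    exact AddSubgroup.card_eq_one.1 (by nlinarith)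

omit [Finite W] in
/-- If all multiples of `x` lie in `X` then the annihilator is perpendicular to `x`. -/
theorem B_eq_zero_of_smul_mem {X : AddSubgroup W} {x y : W} (hx : ∀ a : F, a • x ∈ X)
    (hy : y ∈ annR P X) : P.B x y = 0 :=
  eq_zero_of_psi fun t => by
    have := hy _ (hx (σ t))
    rwa [B_smul_left, P.σσ] at this

omit [Finite W] in
theorem B_eq_zero_of_smul_mem' {X : AddSubgroup W} {x y : W} (hx : x ∈ X)
    (hy : ∀ a : F, a • y ∈ annR P X) : P.B x y = 0 :=
  eq_zero_of_psi fun t => by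
    have := hy t _ hx
    rwa [map_smul, smul_eq_mul] at this

end H20.MD
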