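import Cfsg.Agent.Lib.MinDeg.Heis

/-! A subgroup meeting each `X_d` trivially or in a hyperplane stabilises a point. -/

set_option autoImplicit false
set_option linter.unusedSectionVars false

namespace H20.MD

open Module H28 H97

variable {F V : Type*} [Field F] [AddCommGroup V] [Module F V] {σ : F →+* F}
  (P : PQ F V σ) [FiniteDimensional F V] (H : Subgroup (V ≃ₗ[F] V))

/-- `H` contains the centraliser of `y` in `X_e`. -/
def XRel (e y : V) : Prop :=
  ∀ w c, P.B e w = 0 → P.B y w = 0 → c - P.q w ∈ P.Λ → Has H (eu P e w c)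

/-- `H` contains a hyperplane of `X_e`. -/
def TT (e : V) : Prop := ∃ y, P.B e y = 0 ∧ XRel P H e y

/-- `H` meets `X_e` trivially. -/
def Reg (e : V) : Prop :=
  ∀ w c, P.B e w = 0 → c - P.q w ∈ P.Λ → Has H (eu P e w c) → ∀ x, eu P e w c x = x

/-- There are enough elements moving a point to an opposite one. -/
def Rich : Prop := ∀ e s y y' : V, Pair P e s → ∃ w c, c ≠ 0 ∧ c - P.q w ∈ P.Λ ∧
  P.B e w = 0 ∧ P.B s w = 0 ∧ P.B y w = 0 ∧ P.B y' w = 0

/-- Every singular point is regular or of hyperplane type. -/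
def Dich : Prop := ∀ d, P.q d ∈ P.Λ → d ≠ 0 → ¬ Reg P H d → TT P H d

theorem force_eq_fin : True := by
  have := @XRel.eq_1.{0,0}
  have := @XRel.eq_def.{0,0}
  have := @TT.eq_1.{0,0}
  have := @TT.eq_def.{0,0}
  have := @Reg.eq_1.{0,0}
  have := @Reg.eq_def.{0,0}
  have := @Rich.eq_1.{0,0}
  have := @Rich.eq_def.{0,0}
  have := @Dich.eq_1.{0,0}
  have := @Dich.eq_def.{0,0}
  trivial

variable {P H}

theorem eu_swap (u y x : V) : eu P u y 0 x = eu P y (-(P.ε • u)) 0 x := by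
  have h := P.εε
  simp only [eu_apply, map_neg, LinearMap.neg_apply, B_smul_left, P.σε, smul_neg, smul_smul]
  have : P.ε * P.B y x * P.ε = P.B y x := by linear_combination (P.B y x) * h
  rw [this]
  module

theorem zero_valid {w : V} (hw : P.q w ∈ P.Λ) : 0 - P.q w ∈ P.Λ := by simpa using P.Λ.neg_mem hw

theorem valid_zero {l : F} (hl : l ∈ P.Λ) : l - P.q 0 ∈ P.Λ := P.Λ.sub_mem hl P.q_zero

theorem has_swap {u y : V} (h : Has H (eu P u y 0)) : Has H (eu P y (-(P.ε • u)) 0) :=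
  h.congr (eu_swap u y)

theorem has_swap' {u y : V} (h : ∀ a : F, Has H (eu P u (a • y) 0)) (b : F) :
    Has H (eu P y (b • u) 0) := by
  refine (h (-(P.ε * σ b))).congr fun x => ?_
  have h := P.εε
  simp only [eu_apply, B_smul_left, map_neg, map_mul, P.σε, P.σσ, smul_smul]
  have : P.ε * P.B u x * -(P.ε * σ b) = -(σ b * P.B u x) := by
    linear_combination (-(σ b * P.B u x)) * h
  rw [this]
  module

theorem mem_span_of_eu_eq (hP : P.B.SeparatingLeft) {d w : V} {c : F} (hd : d ≠ 0)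
    (h : ∀ x, eu P d w c x = x) : w ∈ F ∙ d := by
  obtain ⟨x, hx⟩ : ∃ x, P.B d x ≠ 0 := by
    by_contra h
    push Not at h
    exact hd (hP d h)
  have h1 := h x
  rw [eu_apply] at h1
  have h2 : P.ε * P.B d x ≠ 0 := mul_ne_zero P.ε_ne_zero hx
  refine Submodule.mem_span_singleton.2 ⟨(P.ε * P.B d x)⁻¹ * (P.B w x - P.ε * c * P.B d x), ?_⟩
  apply smul_right_injective V h2
  simp only [smul_smul, mul_inv_cancel_left₀ h2]
  linear_combination (norm := module) h1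

theorem not_reg_of_has (hP : P.B.SeparatingLeft) {d w : V} {c : F} (hd : d ≠ 0) (hw : P.B d w = 0)
    (hc : c - P.q w ∈ P.Λ) (h : Has H (eu P d w c)) (hwd : w ∉ F ∙ d) : ¬ Reg P H d :=
  fun hr => hwd (mem_span_of_eu_eq hP hd (hr w c hw hc h))

theorem eq_zero_of_eu_eq (hP : P.B.SeparatingLeft) {d : V} {l : F} (hd : d ≠ 0)
    (h : ∀ x, eu P d 0 l x = x) : l = 0 := by
  obtain ⟨x, hx⟩ : ∃ x, P.B d x ≠ 0 := by
    by_contra h
    push Not at h
    exact hd (hP d h)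
  have h1 := h x
  simp only [eu_apply, map_zero, LinearMap.zero_apply, zero_sub, smul_zero, sub_zero, add_eq_left,
    smul_eq_zero, neg_eq_zero, mul_eq_zero, P.ε_ne_zero, hx, hd, false_or, or_false] at h1
  exact h1

theorem XRel.smul {e y : V} (h : XRel P H e y) (a : F) : XRel P H (a • e) y := by
  by_cases ha : a = 0
  · subst ha
    intro w c _ _ _
    exact has_id.congr fun x => by rw [zero_smul, eu_zero_left]
  intro w c hw hy hc
  have hσ : σ a ≠ 0 := by simpa using ha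
  rw [B_smul_left, mul_eq_zero] at hw
  refine (h (σ a • w) (σ a * a * c) (by simp [hw.resolve_left hσ]) (by simp [hy])
    (valid_smul' a hc)).congr fun x => (eu_smul a e w c x).symm

theorem XRel.of_smul {e y : V} {a : F} (ha : a ≠ 0) (h : XRel P H (a • e) y) : XRel P H e y := by
  have := h.smul a⁻¹
  rwa [smul_smul, inv_mul_cancel₀ ha, one_smul] at this

theorem XRel.add_smul {e y : V} (h : XRel P H e y) (a : F) : XRel P H e (y + a • e) := by
  intro w c hw hy hc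
  refine h w c hw ?_ hc
  simpa [B_smul_left, hw] using hy

theorem XRel.apply {e y : V} (h : XRel P H e y) {g : V ≃ₗ[F] V} (hg : g ∈ H) (hg' : g ∈ P.Isom) :
    XRel P H (g e) (g y) := by
  intro w c hw hy hc
  have := has_eu_conj (h (g⁻¹ w) c (by rw [← hg'.1, le_apply_inv, hw])
    (by rw [← hg'.1, le_apply_inv, hy]) (isom_valid (P.Isom.inv_mem hg') hc)) hg hg'
  rwa [le_apply_inv] at this

theorem XRel.xle {e : V} (h : XRel P H e 0) : XLe P H e := fun w c hw hc => h w c hw (by simp) hc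

theorem xrel_of_xle {e : V} (h : XLe P H e) (y : V) : XRel P H e y := fun w c hw _ hc => h w c hw hc

theorem TT.smul {e : V} (h : TT P H e) (a : F) : TT P H (a • e) := by
  obtain ⟨y, h1, h2⟩ := h
  exact ⟨y, by rw [B_smul_left, h1, mul_zero], h2.smul a⟩

theorem tt_of_xle {e : V} (h : XLe P H e) : TT P H e := ⟨0, by simp, xrel_of_xle h 0⟩

theorem TT.has_cen {e : V} (h : TT P H e) {l : F} (hl : l ∈ P.Λ) : Has H (eu P e 0 l) := by
  obtain ⟨y, -, h⟩ := h
  exact h 0 l (by simp) (by simp) (valid_zero hl)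

theorem XRel.exists_apply_eq {d y x x' : V} (h : XRel P H d y) (hd : P.q d ∈ P.Λ)
    (hdy : P.B d y = 0) (hq : P.q x - P.q x' ∈ P.Λ) (hB : P.B d x = P.B d x') (h0 : P.B d x ≠ 0)
    (hy : P.B y x = P.B y x') : ∃ g ∈ H, g ∈ P.Isom ∧ g x = x' ∧ g y = y := by
  obtain ⟨a, c, h1, h2, h3⟩ := exists_eu_apply_eq hd hq hB h0
  have h4 : P.B y (a • (x - x')) = 0 := by simp [hy]
  obtain ⟨g, hg, e⟩ := h _ c h1 h4 h2
  exact ⟨g, hg, (has_eu_isom hd h1 h2).mem e, by rw [e, h3], by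
    rw [e, eu_fix c hdy (P.eq_zero_symm h4)]⟩

theorem XRel.of_ne {d e u y : V} (hd : P.q d ∈ P.Λ) (he : P.q e ∈ P.Λ) (hu : P.q u ∈ P.Λ)
    (h1 : XRel P H d y) (h2 : XRel P H e y) (hdy : P.B d y = 0) (hye : P.B y e = 0)
    (hyu : P.B y u = 0) (hde : P.B d e ≠ 0) (hdu : P.B d u ≠ 0) : XRel P H u y := by
  have h3 : P.B d ((P.B d u * (P.B d e)⁻¹) • e) = P.B d u := by simp [hde]
  obtain ⟨g, hg, hg', h4, h5⟩ := h1.exists_apply_eq hd hdy
    (P.Λ.sub_mem (P.q_smul_mem he (P.B d u * (P.B d e)⁻¹)) hu) h3 (by rw [h3]; exact hdu)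
    (by simp [hye, hyu])
  rw [← h4, ← h5]
  exact (h2.smul _).apply hg hg'

theorem xle_of_parts {d : V} (hd : P.q d ∈ P.Λ) (hZ : ∀ l ∈ P.Λ, Has H (eu P d 0 l))
    (hX : ∀ w, P.B d w = 0 → ∃ c, c - P.q w ∈ P.Λ ∧ Has H (eu P d w c)) : XLe P H d := by
  intro w c hw hc
  obtain ⟨c', hc', h⟩ := hX w hw
  exact has_eu_valid hd hw h (hZ _ (by simpa using P.Λ.sub_mem hc hc'))

theorem exists_not_mem_span {s : V} (h : ¬ H ≤ stab (F ∙ s)) : ∃ g ∈ H, g s ∉ F ∙ s := by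
  by_contra h1
  push Not at h1
  refine h fun g hg => mem_stab_of_maps fun v hv => ?_
  obtain ⟨a, rfl⟩ := Submodule.mem_span_singleton.1 hv
  rw [map_smul]
  exact Submodule.smul_mem _ _ (h1 g hg)

theorem not_mem_span_symm {x y : V} (hy : y ≠ 0) (hx : x ≠ 0) (h : x ∉ F ∙ y) : y ∉ F ∙ x := by
  intro h1
  obtain ⟨a, rfl⟩ := Submodule.mem_span_singleton.1 h1
  have ha : a ≠ 0 := fun e => hy (by simp [e])
  exact h (Submodule.mem_span_singleton.2 ⟨a⁻¹, by simp [smul_smul, ha]⟩)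

/-- A point of hyperplane type opposite to a point with `X_s ≤ H`. -/
theorem EG_le_of_tt (hP : P.B.SeparatingLeft) (hR : Rich P) {s d : V}
    (hs : P.q s ∈ P.Λ) (hd : P.q d ∈ P.Λ) (h1 : XLe P H s) (h2 : TT P H d) (hds : P.B d s ≠ 0) :
    EG P ≤ H := by
  obtain ⟨y, -, hy⟩ := h2
  obtain ⟨w, c, hc0, hc, hw1, hw2, hw3, -⟩ := hR d _ y y (pair_of_ne hd hs hds)
  have hw4 : P.B s w = 0 := by simpa [B_smul_left, hds] using hw2
  obtain ⟨g, hg, e⟩ := hy w c hw1 hw3 hc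
  have hg' := (has_eu_isom hd hw1 hc).mem e
  refine EG_le_of_xle hP hs (isom_q hg' hs) h1 (h1.apply hg hg') ?_
  rw [e, eu_apply]
  simp [P.self_eq_zero hs, hw4, P.eq_zero_symm hw4, P.ε_ne_zero, hc0, hds, B_ne_zero_symm hds]

/-- Two points with `X_s ≤ H`. -/
theorem exists_bad_of_xle {k : ℕ} (hK : IsoK P k) (hP : P.B.SeparatingLeft) (hn : k + 2 ≤ finrank F V)
    (hH : H ≤ P.Isom) (hne : ¬ EG P ≤ H) {s : V} (hs : P.q s ∈ P.Λ) (hs0 : s ≠ 0)
    (h1 : XLe P H s) (hst : ¬ H ≤ stab (F ∙ s)) :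
    ∃ s' d, P.q s' ∈ P.Λ ∧ s' ∉ F ∙ s ∧ P.B s s' = 0 ∧ XLe P H s' ∧ P.q d ∈ P.Λ ∧ P.B d s' = 0 ∧
      P.B d s ≠ 0 ∧ s' ∉ F ∙ d := by
  obtain ⟨g, hg, hgs⟩ := exists_not_mem_span hst
  have h2 := h1.apply hg (hH hg)
  have h3 := isom_q (hH hg) hs
  have h4 : P.B s (g s) = 0 := by
    by_contra h
    exact hne (EG_le_of_xle hP hs h3 h1 h2 h)
  have h5 : g s ≠ 0 := fun e => hgs (e ▸ Submodule.zero_mem _)
  obtain ⟨d, hd, hd1, hd2⟩ := hK.exists_sing_perp hP hn (not_mem_span_symm hs0 h5 hgs)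
  refine ⟨g s, d, h3, hgs, h4, h2, hd, hd1, hd2, fun h => ?_⟩
  obtain ⟨a, ha⟩ := Submodule.mem_span_singleton.1 h
  have ha0 : a ≠ 0 := fun e => h5 (by rw [← ha, e, zero_smul])
  rw [← ha, map_smul, smul_eq_mul, mul_eq_zero] at h4
  exact B_ne_zero_symm hd2 (h4.resolve_left ha0)

theorem has_of_xle {s d : V} (h : XLe P H s) (hd : P.q d ∈ P.Λ) (hds : P.B d s = 0) (b : F) :
    Has H (eu P d (b • s) 0) :=
  has_swap' (fun a => h _ _ (by simp [P.eq_zero_symm hds]) (zero_valid (P.q_smul_mem hd a))) b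

theorem le_stab_of_xle {k : ℕ} (hK : IsoK P k) (hP : P.B.SeparatingLeft) (hn : k + 2 ≤ finrank F V)
    (hH : H ≤ P.Isom) (hR : Rich P) (hD : Dich P H) (hne : ¬ EG P ≤ H) {s : V} (hs : P.q s ∈ P.Λ)
    (hs0 : s ≠ 0) (h1 : XLe P H s) : H ≤ stab (F ∙ s) := by
  by_contra hst
  obtain ⟨s', d, hs', -, -, h2, hd, hd1, hd2, hd3⟩ := exists_bad_of_xle hK hP hn hH hne hs hs0 h1 hst
  have hd0 : d ≠ 0 := fun e => hd2 (by simp [e])
  have h3 := has_of_xle h2 hd hd1 1
  rw [one_smul] at h3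
  exact hne (EG_le_of_tt hP hR hs hd h1 (hD d hd hd0 (not_reg_of_has hP hd0 hd1 (zero_valid hs') h3 hd3))
    hd2)

/-- Opposite points of hyperplane type have the same hyperplane. -/
theorem exists_common (hR : Rich P) {e s : V} (he : P.q e ∈ P.Λ) (hs : P.q s ∈ P.Λ)
    (h1 : TT P H e) (h2 : TT P H s) (hes : P.B e s ≠ 0) :
    ∃ y, P.B y e = 0 ∧ P.B y s = 0 ∧ XRel P H e y ∧ XRel P H s y := by
  obtain ⟨y₀, hy₀, h1⟩ := h1
  obtain ⟨y', -, h2⟩ := h2
  have hse := B_ne_zero_symm hes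
  have hee := P.self_eq_zero he
  have hss := P.self_eq_zero hs
  obtain ⟨y, hy1, hy2, h1⟩ : ∃ y, P.B e y = 0 ∧ P.B s y = 0 ∧ XRel P H e y :=
    ⟨y₀ + (-(P.B s y₀ * (P.B s e)⁻¹)) • e, by simp [hy₀, hee], by simp [hse], h1.add_smul _⟩
  have hy1' := P.eq_zero_symm hy1
  have hy2' := P.eq_zero_symm hy2
  obtain ⟨w, c, hc0, hc, hw1, hw2, hw3, hw4⟩ := hR e _ y y' (pair_of_ne he hs hes)
  have hw5 : P.B s w = 0 := by simpa [B_smul_left, hes] using hw2
  obtain ⟨g, hg, eg⟩ := h2 w c hw5 hw4 hc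
  have hg' := (has_eu_isom hs hw5 hc).mem eg
  have h3 : P.B e (g e) ≠ 0 := by
    rw [eg, eu_apply]
    simp [hee, hw1, P.eq_zero_symm hw1, P.ε_ne_zero, hc0, hes, hse]
  have h4 : P.B e (g e) = P.B e ((P.B e (g e) * (P.B e s)⁻¹) • s) := by simp [hes]
  have h5 : g y = y := by rw [eg, eu_fix c hy2 (P.eq_zero_symm hw3)]
  obtain ⟨k, hk, hk', k1, k2⟩ := h1.exists_apply_eq he hy1
    (P.Λ.sub_mem (isom_q hg' he) (P.q_smul_mem hs _)) h4 h3 (by
      rw [map_smul, hy2', smul_zero, ← h5, hg'.1, hy1'])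
  refine ⟨y, hy1', hy2', h1, ?_⟩
  have h6 := (h1.apply hg hg').apply hk hk'
  rw [k1, h5, k2] at h6
  exact h6.of_smul (mul_ne_zero h3 (inv_ne_zero hes))

theorem xrel_all (hP : P.B.SeparatingLeft) {e s y : V} (he : P.q e ∈ P.Λ) (hs : P.q s ∈ P.Λ)
    (hes : P.B e s ≠ 0) (hye : P.B y e = 0) (hys : P.B y s = 0) (h1 : XRel P H e y)
    (h2 : XRel P H s y) {u : V} (hu : P.q u ∈ P.Λ) (hyu : P.B y u = 0) (huy : u ∉ F ∙ y) :
    XRel P H u y := by
  have hey := P.eq_zero_symm hye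
  have hsy := P.eq_zero_symm hys
  by_cases heu : P.B e u = 0
  swap
  · exact XRel.of_ne he hs hu h1 h2 hey hys hyu hes heu
  by_cases hsu : P.B s u = 0
  swap
  · exact XRel.of_ne hs he hu h2 h1 hsy hye hyu (B_ne_zero_symm hes) hsu
  have hee := P.self_eq_zero he
  have hss := P.self_eq_zero hs
  have hH : u ∉ Submodule.span F {e, s, y} := by
    intro h
    obtain ⟨a, b, c, rfl⟩ := Submodule.mem_span_triple.1 h
    simp only [map_add, map_smul, smul_eq_mul, hee, hss, hey, hsy, mul_zero, zero_add, add_zero,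
      mul_eq_zero] at heu hsu
    rw [heu.resolve_right hes, hsu.resolve_right (B_ne_zero_symm hes)] at huy
    exact huy (Submodule.mem_span_singleton.2 ⟨c, by simp⟩)
  obtain ⟨v, hv, hvu⟩ := exists_orth_of_notMem P.σσ P.B hP _ hH
  have hve := P.eq_zero_symm (hv e (Submodule.subset_span (by simp)))
  have hvy := P.eq_zero_symm (hv y (Submodule.subset_span (by simp)))
  obtain ⟨a, t, h3, h4⟩ := P.exists_hyp_pair (y := s + v) he (by simpa [hve] using hes)
  have ha : a ≠ 0 := by rintro rfl; simp [hee] at h4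
  have h5 : P.B y (a • (s + v) + t • e) = 0 := by simp [hys, hvy, hye]
  have h6 := XRel.of_ne he hs h3 h1 h2 hey hys h5 hes (by rw [h4]; exact one_ne_zero)
  refine XRel.of_ne h3 he hu h6 h1 (P.eq_zero_symm h5) hye hyu
    (B_ne_zero_symm (by rw [h4]; exact one_ne_zero)) ?_
  simp [B_smul_left, hsu, heu, hvu, ha]

/-- If `H` contains the centraliser of the singular vector `y` in enough `X_u`, then it covers
`X_y` modulo its centre. -/
theorem has_of_xrel_sing {e s y : V} (he : P.q e ∈ P.Λ) (hs : P.q s ∈ P.Λ) (hy : P.q y ∈ P.Λ)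
    (hes : P.B e s ≠ 0) (hye : P.B y e = 0) (hys : P.B y s = 0)
    (h : ∀ u, P.q u ∈ P.Λ → P.B y u = 0 → u ∉ F ∙ y → ∀ b : F, Has H (eu P y (b • u) 0))
    (v : V) (hv : P.B y v = 0) : ∃ c, c - P.q v ∈ P.Λ ∧ Has H (eu P y v c) := by
  have hey := P.eq_zero_symm hye
  have hsy := P.eq_zero_symm hys
  have hee := P.self_eq_zero he
  have hn : ∀ {z u : V}, P.B z y = 0 → P.B z u ≠ 0 → u ∉ F ∙ y := fun {z u} h1 h2 h3 => by
    obtain ⟨a, rfl⟩ := Submodule.mem_span_singleton.1 h3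
    exact h2 (by simp [h1])
  have key : ∀ v, P.B y v = 0 → P.B e v ≠ 0 → ∃ c, c - P.q v ∈ P.Λ ∧ Has H (eu P y v c) := by
    intro v hv hev
    obtain ⟨a, t, h3, h4⟩ := P.exists_hyp_pair he hev
    have ha : a ≠ 0 := by rintro rfl; simp [hee] at h4
    have h5 : P.B y (a • v + t • e) = 0 := by simp [hv, hye]
    have h6 := h _ h3 h5 (hn hey (by rw [h4]; exact one_ne_zero)) a⁻¹
    have h7 := h e he hye (hn hsy (B_ne_zero_symm hes)) (-(a⁻¹ * t))
    have h8 := has_eu_add hy (by simp [hv, hye]) (by simp [hye]) h6 h7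
    have h9 := valid_add (zero_valid (P.q_smul_mem h3 a⁻¹)) (zero_valid (P.q_smul_mem he (-(a⁻¹ * t))))
    have e1 : a⁻¹ • (a • v + t • e) + -(a⁻¹ * t) • e = v := by
      rw [smul_add, smul_smul, inv_mul_cancel₀ ha]; module
    rw [e1] at h8 h9
    exact ⟨_, h9, h8⟩
  by_cases hev : P.B e v = 0
  swap
  · exact key v hv hev
  obtain ⟨c, hc, h1⟩ := key (v + s) (by simp [hv, hys]) (by simpa [hev] using hes)
  obtain ⟨c', hc', h2⟩ := key (-s) (by simp [hys]) (by simpa using hes)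
  have h3 := has_eu_add hy (by simp [hv, hys]) (by simp [hys]) h1 h2
  have h4 := valid_add hc hc'
  rw [add_neg_cancel_right] at h3 h4
  exact ⟨_, h4, h3⟩

theorem xle_of_two (hP : P.B.SeparatingLeft) {u y y' : V} (hu : P.q u ∈ P.Λ) (h1 : XRel P H u y)
    (h2 : XRel P H u y') (hy : y' ∉ Submodule.span F {u, y}) : XLe P H u := by
  obtain ⟨z, hz, hzy⟩ := exists_orth_of_notMem P.σσ P.B hP _ hy
  have hzu := P.eq_zero_symm (hz u (Submodule.subset_span (by simp)))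
  have hzy' := P.eq_zero_symm (hz y (Submodule.subset_span (by simp)))
  have h3 : P.B y' z ≠ 0 := B_ne_zero_symm (by rw [hzy]; exact one_ne_zero)
  refine xle_of_parts hu (fun l hl => h1 0 l (by simp) (by simp) (valid_zero hl)) fun w hw => ?_
  set t := P.B y' w * (P.B y' z)⁻¹ with ht
  have h4 := h1 (t • z) (P.q (t • z)) (by simp [hzu]) (by simp [hzy']) (by simp)
  have h5 := h2 (w - t • z) (P.q (w - t • z)) (by simp [hzu, hw]) (by simp [ht, h3]) (by simp)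
  have h6 := has_eu_add hu (by simp [hzu]) (by simp [hzu, hw]) h4 h5
  have h7 := valid_add (P := P) (w := t • z) (w' := w - t • z) (c := P.q (t • z)) (c' := P.q (w - t • z))
    (by simp) (by simp)
  rw [add_sub_cancel] at h6 h7
  exact ⟨_, h7, h6⟩

/-- The main result. -/
theorem exists_le_stab {k : ℕ} (hK : IsoK P k) (hP : P.B.SeparatingLeft) (hn : k + 2 ≤ finrank F V)
    (hH : H ≤ P.Isom) (hR : Rich P) (hD : Dich P H)
    (hU : ∀ y y', P.q y ∉ P.Λ → ∃ u, P.q u ∈ P.Λ ∧ P.B y u = 0 ∧ P.B y' u = 0 ∧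
      u ∉ Submodule.span F {y, y'})
    (hne : ¬ EG P ≤ H) {e s : V} (he : P.q e ∈ P.Λ) (hs : P.q s ∈ P.Λ)
    (h1 : TT P H e) (h2 : TT P H s) (hes : P.B e s ≠ 0) : ∃ v, v ≠ 0 ∧ H ≤ stab (F ∙ v) := by
  obtain ⟨y, hye, hys, h3, h4⟩ := exists_common hR he hs h1 h2 hes
  by_cases hy0 : y = 0
  · subst hy0
    exact absurd (EG_le_of_xle hP he hs h3.xle h4.xle hes) hne
  have hall := fun u => xrel_all (H := H) hP he hs hes hye hys h3 h4 (u := u)
  by_cases hy : P.q y ∈ P.Λ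
  · refine ⟨y, hy0, le_stab_of_xle hK hP hn hH hR hD hne hy hy0 ?_⟩
    have hyy := P.self_eq_zero hy
    have h5 : ∀ u, P.q u ∈ P.Λ → P.B y u = 0 → u ∉ F ∙ y → ∀ b : F, Has H (eu P y (b • u) 0) :=
      fun u hu hyu huy => has_swap' fun a => hall u hu hyu huy _ _ (by simp [P.eq_zero_symm hyu])
        (by simp [hyy]) (zero_valid (P.q_smul_mem hy a))
    have h6 : e ∉ F ∙ y := fun h => by
      obtain ⟨a, rfl⟩ := Submodule.mem_span_singleton.1 h
      exact hes (by simp [B_smul_left, hys])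
    have h7 := h5 e he hye h6 1
    rw [one_smul] at h7
    have h8 := hD y hy hy0 (not_reg_of_has hP hy0 hye (zero_valid he) h7 h6)
    exact xle_of_parts hy (fun l hl => h8.has_cen hl) (has_of_xrel_sing he hs hy hes hye hys h5)
  by_cases hst : H ≤ stab (F ∙ y)
  · exact ⟨y, hy0, hst⟩
  obtain ⟨g, hg, hgy⟩ := exists_not_mem_span hst
  obtain ⟨u, hu, hu1, hu2, hu3⟩ := hU y (g y) hy
  have hu0 : u ≠ 0 := fun e => hu3 (e ▸ Submodule.zero_mem _)
  refine ⟨u, hu0, le_stab_of_xle hK hP hn hH hR hD hne hu hu0 (xle_of_two hP hu (y := y) (y' := g y)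
    (hall u hu hu1 fun h => hu3 (Submodule.span_mono (by simp) h)) ?_ ?_)⟩
  · have h5 := (hall (g⁻¹ u) (isom_q (P.Isom.inv_mem (hH hg)) hu)
      (by rw [← (hH hg).1, le_apply_inv, hu2]) fun h => by
        obtain ⟨a, ha⟩ := Submodule.mem_span_singleton.1 h
        refine hu3 (Submodule.mem_span_pair.2 ⟨0, a, ?_⟩)
        rw [zero_smul, zero_add, ← map_smul, ha, le_apply_inv]).apply hg (hH hg)
    rwa [le_apply_inv] at h5
  · intro h
    obtain ⟨a, b, hab⟩ := Submodule.mem_span_pair.1 h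
    have ha : a ≠ 0 := by
      rintro rfl
      exact hgy (Submodule.mem_span_singleton.2 ⟨b, by simpa using hab⟩)
    refine hu3 (Submodule.mem_span_pair.2 ⟨-(a⁻¹ * b), a⁻¹, ?_⟩)
    rw [← hab, smul_add, smul_smul, inv_mul_cancel₀ ha]
    module

theorem exists_sing_perp_two {k : ℕ} (hK : IsoK P k) (hn : k + 4 ≤ finrank F V) (y y' : V) :
    ∃ u, P.q u ∈ P.Λ ∧ P.B y u = 0 ∧ P.B y' u = 0 ∧ u ∉ Submodule.span F {y, y'} := by
  have h1 : finrank F (Submodule.span F ({y, y'} : Set V)) ≤ 2 := by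
    rw [Submodule.span_insert]
    have := finrank_sup_le' (F ∙ y) (F ∙ y')
    have := finrank_span_singleton_le (F := F) y
    have := finrank_span_singleton_le (F := F) y'
    omega
  have h2 := finrank_le_perp (P := P) (Submodule.span F ({y, y'} : Set V))
  obtain ⟨u, hu, hu1, hu2⟩ := hK.exists_notMem (perp P (Submodule.span F {y, y'}))
    (Submodule.span F {y, y'}) (by omega)
  rw [mem_perp_span] at hu
  exact ⟨u, hu2, hu y (by simp), hu y' (by simp), hu1⟩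

theorem exists_opp_of_tt {k : ℕ} (hK : IsoK P k) (hP : P.B.SeparatingLeft) (hn : k + 4 ≤ finrank F V)
    (hD : Dich P H) {e : V} (he : P.q e ∈ P.Λ) (he0 : e ≠ 0) (h : TT P H e) :
    ∃ r s, P.q r ∈ P.Λ ∧ P.q s ∈ P.Λ ∧ TT P H r ∧ TT P H s ∧ P.B r s ≠ 0 := by
  obtain ⟨y, -, h⟩ := h
  have h1 : finrank F (Submodule.span F ({e, y} : Set V)) ≤ 2 := by
    rw [Submodule.span_insert]
    have := finrank_sup_le' (F ∙ e) (F ∙ y)
    have := finrank_span_singleton_le (F := F) e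
    have := finrank_span_singleton_le (F := F) y
    omega
  obtain ⟨r, s, hr, hs, hrs, hr1, hs1⟩ := hK.exists_pair hP (Submodule.span F {e, y}) (by omega)
  rw [mem_perp_span] at hr1 hs1
  have key : ∀ r s, P.q r ∈ P.Λ → P.B r s ≠ 0 → (∀ u ∈ ({e, y} : Set V), P.B u r = 0) →
      P.B e s = 0 → TT P H r := by
    intro r s hr hrs hr1 hs1
    have hr0 : r ≠ 0 := fun e => hrs (by simp [e])
    have h2 := has_swap' (fun a => h (a • r) 0 (by simp [hr1 e (by simp)]) (by simp [hr1 y (by simp)])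
      (zero_valid (P.q_smul_mem hr a))) 1
    rw [one_smul] at h2
    refine hD r hr hr0 (not_reg_of_has hP hr0 (P.eq_zero_symm (hr1 e (by simp))) (zero_valid he) h2
      fun h3 => ?_)
    obtain ⟨a, rfl⟩ := Submodule.mem_span_singleton.1 h3
    rw [B_smul_left, mul_eq_zero] at hs1
    have : a = 0 := by simpa using hs1.resolve_right hrs
    exact he0 (by simp [this])
  have h2 : P.B r s ≠ 0 := by rw [hrs]; exact one_ne_zero
  exact ⟨r, s, hr, hs, key r s hr h2 hr1 (hs1 e (by simp)),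
    key s r hs (B_ne_zero_symm h2) hs1 (hr1 e (by simp)), h2⟩

theorem exists_le_stab' {k : ℕ} (hK : IsoK P k) (hP : P.B.SeparatingLeft) (hn : k + 4 ≤ finrank F V)
    (hH : H ≤ P.Isom) (hR : Rich P) (hD : Dich P H) (hne : ¬ EG P ≤ H) {e : V} (he : P.q e ∈ P.Λ)
    (he0 : e ≠ 0) (h : ¬ Reg P H e) : ∃ v, v ≠ 0 ∧ H ≤ stab (F ∙ v) := by
  obtain ⟨r, s, hr, hs, h1, h2, hrs⟩ := exists_opp_of_tt hK hP hn hD he he0 (hD e he he0 h)
  exact exists_le_stab hK hP (by omega) hH hR hD (fun y y' _ => exists_sing_perp_two hK hn y y') hne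
    hr hs h1 h2 hrs

section Link

variable {d f : V}

/-- Reduction of elements of `X_d` to parameters in `W`. -/
theorem Pair.exists_W (h : Pair P d f) {w : V} {c : F} (hw : P.B d w = 0) (hc : c - P.q w ∈ P.Λ) :
    ∃ (w' : Wp P d f) (c' a : F), w = w' + a • d ∧ c' - P.q w' ∈ P.Λ ∧
      ∀ x, eu P d w c x = eu P d w' c' x := by
  obtain ⟨w', hw'⟩ := h.decomp w
  rw [hw, zero_smul, add_zero, add_comm] at hw'
  set a := P.ε * P.B f w
  refine ⟨w', c + a - P.ε * σ a, a, hw', ?_, fun x => by rw [hw', eu_add_smul]⟩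
  have h1 := q_add_sing (P := P) (x := (w' : V)) (P.q_smul_mem h.hd a) (by simp [W_d'])
  rw [← hw'] at h1
  have := P.Λ.add_mem (P.Λ.add_mem hc h1) (P.sub_mem a)
  convert this using 1
  ring

theorem Pair.reg_iff (h : Pair P d f) : Reg P H d ↔ XS h H = ⊥ ∧ ZS h.hd H = ⊥ := by
  constructor
  · intro hr
    refine ⟨eq_bot_iff.2 ?_, eq_bot_iff.2 ?_⟩
    · rintro w ⟨c, hc, hw⟩
      have := hr w c (W_d w) hc hw f
      exact (h.eu_inj (w' := 0) (c' := 0) (by simpa [eu_zero] using this)).1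
    · rintro l ⟨hl, hw⟩
      have := hr 0 l (by simp) (valid_zero hl) hw f
      exact (h.eu_inj (w := 0) (w' := 0) (c' := 0) (by simpa [eu_zero] using this)).2
  · rintro ⟨h1, h2⟩ w c hw hc hh x
    obtain ⟨w', c', a, -, hc', e⟩ := h.exists_W hw hc
    have h3 : w' ∈ XS h H := ⟨c', hc', hh.congr e⟩
    rw [h1, AddSubgroup.mem_bot] at h3
    subst h3
    have h4 : c' ∈ ZS h.hd H := ⟨by simpa using P.Λ.add_mem hc' P.q_zero, hh.congr e⟩
    rw [h2, AddSubgroup.mem_bot] at h4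
    rw [e, h4]
    exact eu_zero d x

theorem Pair.xrel_of (h : Pair P d f) (hZ : ZS h.hd H = P.Λ) {y : Wp P d f}
    (hX : ∀ w : Wp P d f, P.B y w = 0 → w ∈ XS h H) : XRel P H d y := by
  intro w c hw hy hc
  obtain ⟨w', c', a, e1, hc', e⟩ := h.exists_W hw hc
  obtain ⟨c'', hc'', h1⟩ := hX w' (by simpa [e1, W_d'] using hy)
  refine (has_eu_valid h.hd (W_d w') h1 ?_).congr fun x => (e x).symm
  have : c' - c'' ∈ ZS h.hd H := by rw [hZ]; simpa using P.Λ.sub_mem hc' hc''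
  exact this.2

theorem Pair.tt_of [Finite F] [Finite V] (hP : P.B.SeparatingLeft) (h : Pair P d f)
    (hZ : ZS h.hd H = P.Λ) {y : Wp P d f} (hY : ∀ v ∈ YS h H, v ∈ F ∙ y) : TT P H d := by
  refine ⟨y, W_d y, h.xrel_of hZ fun w hw => mem_of_annR (h.nd hP) fun v hv => ?_⟩
  obtain ⟨a, rfl⟩ := Submodule.mem_span_singleton.1 (hY v hv)
  rw [map_smul, Pw_B, P.eq_zero_symm hw, smul_zero]

theorem Pair.xle_iff (h : Pair P d f) : XLe P H d ↔ XS h H = ⊤ ∧ ZS h.hd H = P.Λ := by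
  constructor
  · intro hx
    exact ⟨eq_top_iff.2 fun w _ => ⟨P.q w, by simp, hx _ _ (W_d w) (by simp)⟩,
      le_antisymm (ZS_le _ _) fun l hl => ⟨hl, hx _ _ (by simp) (valid_zero hl)⟩⟩
  · rintro ⟨h1, h2⟩
    exact (h.xrel_of h2 (y := 0) fun w _ => by rw [h1]; trivial).xle

theorem Pair.mem_XS_of_has (h : Pair P d f) {w : Wp P d f} {a c : F}
    (hc : c - P.q (w + a • d) ∈ P.Λ) (hh : Has H (eu P d (w + a • d) c)) : w ∈ XS h H := by
  obtain ⟨w', c', a', e1, hc', e⟩ := h.exists_W (w := w + a • d) (by simp [W_d, h.dd]) hc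
  have : w = w' := by
    have h1 : (a - a') • d + ((w - w' : Wp P d f) : V) = 0 := by
      rw [Submodule.coe_sub]
      linear_combination (norm := module) e1
    exact sub_eq_zero.1 (h.smul_d_add_eq_zero h1).2
  exact this ▸ ⟨c', hc', hh.congr e⟩

end Link

end H20.MD
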