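import Cfsg.Agent.Lib.MinDeg.Dual

/-! The unipotent radical of the stabiliser of a singular point acting on a set: stabilisers,
their annihilators and orbit lengths. -/

set_option autoImplicit false
set_option linter.unusedSectionVars false

namespace H20.MD

open Module H28 H97
open scoped Classical

variable {F V : Type*} [Field F] [AddCommGroup V] [Module F V] {σ : F →+* F}

/-- A hyperbolic pair. -/
structure Pair (P : PQ F V σ) (d f : V) : Prop where
  hd : P.q d ∈ P.Λ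
  hf : P.q f ∈ P.Λ
  hdf : P.B d f = 1

/-- The perpendicular space of `d` and `f`. -/
def Wp (P : PQ F V σ) (d f : V) : Submodule F V where
  carrier := {x | P.B d x = 0 ∧ P.B f x = 0}
  zero_mem' := by simp
  add_mem' {x y} hx hy := by simp [hx.1, hx.2, hy.1, hy.2]
  smul_mem' c x hx := by simp [hx.1, hx.2]

/-- The restriction of the form to `Wp`. -/
abbrev Pw (P : PQ F V σ) (d f : V) : PQ F (Wp P d f) σ := P.comap (Wp P d f).subtype

variable {P : PQ F V σ} {d f : V} [FiniteDimensional F V]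

theorem mem_Wp {x : V} : x ∈ Wp P d f ↔ P.B d x = 0 ∧ P.B f x = 0 := Iff.rfl

theorem Pw_B (x y : Wp P d f) : (Pw P d f).B x y = P.B x y := rfl
theorem Pw_q (x : Wp P d f) : (Pw P d f).q x = P.q x := rfl
theorem Pw_Λ : (Pw P d f).Λ = P.Λ := rfl
theorem Pw_ε : (Pw P d f).ε = P.ε := rfl

theorem W_d (x : Wp P d f) : P.B d x = 0 := x.2.1
theorem W_f (x : Wp P d f) : P.B f x = 0 := x.2.2
theorem W_d' (x : Wp P d f) : P.B x d = 0 := P.eq_zero_symm x.2.1
theorem W_f' (x : Wp P d f) : P.B x f = 0 := P.eq_zero_symm x.2.2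

theorem coe_eu (r w x : Wp P d f) (c : F) : (eu (Pw P d f) r w c x : V) = eu P r w c x := by
  simp only [eu_apply, Submodule.coe_add, Submodule.coe_sub, Submodule.coe_smul]
  rfl

theorem exists_pair_of_ne {d x : V} (hd : P.q d ∈ P.Λ) (hx : P.B d x ≠ 0) :
    ∃ a s : F, Pair P d (a • x + s • d) := by
  obtain ⟨a, s, h1, h2⟩ := P.exists_hyp_pair hd hx
  exact ⟨a, s, hd, h1, h2⟩

theorem pair_of_ne {d e : V} (hd : P.q d ∈ P.Λ) (he : P.q e ∈ P.Λ) (hx : P.B d e ≠ 0) :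
    Pair P d ((P.B d e)⁻¹ • e) :=
  ⟨hd, P.q_smul_mem he _, by simp [hx]⟩

theorem exists_pair (hP : P.B.SeparatingLeft) {d : V} (hd : P.q d ∈ P.Λ) (h0 : d ≠ 0) :
    ∃ f, Pair P d f := by
  obtain ⟨x, hx⟩ : ∃ x, P.B d x ≠ 0 := by
    by_contra h
    push Not at h
    exact h0 (hP d h)
  obtain ⟨a, s, h⟩ := exists_pair_of_ne hd hx
  exact ⟨_, h⟩

namespace Pair

theorem dd (h : Pair P d f) : P.B d d = 0 := P.self_eq_zero h.hd
theorem ff (h : Pair P d f) : P.B f f = 0 := P.self_eq_zero h.hf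
theorem fd (h : Pair P d f) : P.B f d = P.ε := by rw [P.symm, h.hdf, map_one, mul_one]
theorem d_ne (h : Pair P d f) : d ≠ 0 := fun e => by simpa [e] using h.hdf
theorem f_ne (h : Pair P d f) : f ≠ 0 := fun e => by simpa [e] using h.hdf

theorem symm (h : Pair P d f) : Pair P f (P.ε • d) :=
  ⟨h.hf, P.q_smul_mem h.hd _, by rw [map_smul, h.fd, smul_eq_mul, P.εε]⟩

theorem decomp (h : Pair P d f) (x : V) :
    ∃ w : Wp P d f, x = (P.ε * P.B f x) • d + P.B d x • f + (w : V) :=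
  ⟨⟨_, pair_proj h.hd h.hf h.hdf x⟩, by simp⟩

theorem nd (h : Pair P d f) (hP : P.B.SeparatingLeft) : (Pw P d f).B.SeparatingLeft := by
  intro x hx
  refine Subtype.ext (hP _ fun y => ?_)
  obtain ⟨w, hw⟩ := h.decomp y
  have := hx w
  rw [Pw_B] at this
  rw [hw]
  simp [W_d' x, W_f' x, this]

theorem B_d_comb (h : Pair P d f) (a b : F) (w : Wp P d f) : P.B d (a • d + b • f + w) = b := by
  simp [h.dd, h.hdf, W_d]

theorem B_f_comb (h : Pair P d f) (a b : F) (w : Wp P d f) : P.B f (a • d + b • f + w) = P.ε * a := by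
  simp [h.ff, h.fd, W_f, mul_comm]

/-- The decomposition of the space along a hyperbolic pair. -/
noncomputable def equiv (h : Pair P d f) : (F × F × Wp P d f) ≃ₗ[F] V :=
  LinearEquiv.ofBijective
    ({ toFun := fun x => x.1 • d + x.2.1 • f + (x.2.2 : V)
       map_add' := fun x y => by simp only [Prod.fst_add, Prod.snd_add, Submodule.coe_add]; module
       map_smul' := fun c x => by
        simp only [Prod.smul_fst, Prod.smul_snd, Submodule.coe_smul, RingHom.id_apply, smul_eq_mul]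
        module } : (F × F × Wp P d f) →ₗ[F] V)
    ⟨by
      rw [injective_iff_map_eq_zero]
      rintro ⟨a, b, w⟩ e
      have e' : a • d + b • f + (w : V) = 0 := e
      have h1 := h.B_d_comb a b w
      have h2 := h.B_f_comb a b w
      rw [e', map_zero] at h1 h2
      have h3 : a = 0 := (mul_eq_zero.1 h2.symm).resolve_left P.ε_ne_zero
      rw [h3, ← h1] at e' ⊢
      simp only [zero_smul, zero_add, ZeroMemClass.coe_eq_zero] at e'
      rw [e']; rfl,
    fun x => by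
      obtain ⟨w, hw⟩ := h.decomp x
      exact ⟨(_, _, w), hw.symm⟩⟩

theorem equiv_apply (h : Pair P d f) (x : F × F × Wp P d f) :
    h.equiv x = x.1 • d + x.2.1 • f + (x.2.2 : V) := rfl

theorem finrank_W (h : Pair P d f) :
    finrank F (Wp P d f) + 2 = finrank F V := by
  rw [← h.equiv.finrank_eq, finrank_prod, finrank_prod, finrank_self]
  omega

theorem smul_d_add_eq_zero (h : Pair P d f) {a : F} {w : Wp P d f} (e : a • d + (w : V) = 0) :
    a = 0 ∧ w = 0 := by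
  have : h.equiv (a, 0, w) = 0 := by rw [equiv_apply]; simpa using e
  rw [map_eq_zero_iff _ h.equiv.injective] at this
  exact ⟨congrArg Prod.fst this, congrArg (fun x => x.2.2) this⟩

theorem eu_f (h : Pair P d f) (w : Wp P d f) (c : F) :
    eu P d w c f = f - (P.ε * c) • d - P.ε • (w : V) := by
  rw [eu_apply, h.hdf, W_f']
  module

theorem eu_inj (h : Pair P d f) {w w' : Wp P d f} {c c' : F}
    (e : eu P d w c f = eu P d w' c' f) : w = w' ∧ c = c' := by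
  rw [h.eu_f, h.eu_f] at e
  have e1 : (P.ε * (c - c')) • d + ((P.ε • (w - w') : Wp P d f) : V) = 0 := by
    simp only [Submodule.coe_smul, Submodule.coe_sub]
    linear_combination (norm := module) -e
  obtain ⟨h1, h2⟩ := h.smul_d_add_eq_zero e1
  exact ⟨sub_eq_zero.1 ((smul_eq_zero.1 h2).resolve_left P.ε_ne_zero),
    sub_eq_zero.1 ((mul_eq_zero.1 h1).resolve_left P.ε_ne_zero)⟩

end Pair

theorem isoK_Pw {k : ℕ} (h : IsoK P k) (d f : V) : IsoK (Pw P d f) k := by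
  intro X hX
  obtain ⟨x, hx, h0, hq⟩ := h (X.map (Wp P d f).subtype)
    (by rwa [Submodule.finrank_map_subtype_eq])
  obtain ⟨y, hy, rfl⟩ := hx
  exact ⟨y, hy, fun e => h0 (by rw [e]; rfl), hq⟩

/-- The element of `EG P` given by `eu`. -/
noncomputable def euG {d w : V} {c : F} (hd : P.q d ∈ P.Λ) (hw : P.B d w = 0)
    (hc : c - P.q w ∈ P.Λ) : EG P :=
  ⟨(has_eu_EG hd hw hc).choose, (has_eu_EG hd hw hc).choose_spec.1⟩

theorem euG_apply {d w : V} {c : F} (hd : P.q d ∈ P.Λ) (hw : P.B d w = 0)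
    (hc : c - P.q w ∈ P.Λ) (x : V) : (euG hd hw hc).1 x = eu P d w c x :=
  (has_eu_EG hd hw hc).choose_spec.2 x

theorem EG_ext {g h : EG P} (e : ∀ x, g.1 x = h.1 x) : g = h := Subtype.ext (LinearEquiv.ext e)

theorem EG_mul_apply (g h : EG P) (x : V) : (g * h).1 x = g.1 (h.1 x) := rfl
theorem EG_apply_inv (g : EG P) (x : V) : g.1 ((g⁻¹).1 x) = x := g.1.apply_symm_apply x
theorem EG_inv_apply (g : EG P) (x : V) : (g⁻¹).1 (g.1 x) = x := g.1.symm_apply_apply x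
theorem EG_B (g : EG P) (x y : V) : P.B (g.1 x) (g.1 y) = P.B x y := (EG_le_isom g.2).1 x y
theorem EG_q (g : EG P) (x : V) : P.q (g.1 x) - P.q x ∈ P.Λ := (EG_le_isom g.2).2 x

/-- The abstract unipotent radical. -/
@[ext] structure Heis (P : PQ F V σ) (d f : V) where
  w : Wp P d f
  c : F
  valid : c - P.q w ∈ P.Λ

instance : Group (Heis P d f) where
  mul x y := ⟨x.w + y.w, x.c + y.c + P.B x.w y.w, valid_add x.valid y.valid⟩
  one := ⟨0, 0, by simpa using P.Λ.neg_mem P.q_zero⟩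
  inv x := ⟨-x.w, P.B x.w x.w - x.c, valid_neg x.valid⟩
  mul_assoc x y z := by
    refine Heis.ext (add_assoc _ _ _) ?_
    change x.c + y.c + P.B x.w y.w + z.c + P.B (x.w + y.w : V) z.w =
      x.c + (y.c + z.c + P.B y.w z.w) + P.B x.w (y.w + z.w : V)
    simp only [map_add, LinearMap.add_apply]
    ring
  one_mul x := by
    refine Heis.ext (zero_add _) ?_
    change 0 + x.c + P.B ((0 : Wp P d f) : V) x.w = x.c
    simp
  mul_one x := by
    refine Heis.ext (add_zero _) ?_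
    change x.c + 0 + P.B x.w ((0 : Wp P d f) : V) = x.c
    simp
  inv_mul_cancel x := by
    refine Heis.ext (neg_add_cancel _) ?_
    change P.B x.w x.w - x.c + x.c + P.B (-x.w : V) x.w = 0
    simp

theorem Heis.mul_w (x y : Heis P d f) : (x * y).w = x.w + y.w := rfl
theorem Heis.mul_c (x y : Heis P d f) : (x * y).c = x.c + y.c + P.B x.w y.w := rfl
theorem Heis.one_w : (1 : Heis P d f).w = 0 := rfl
theorem Heis.one_c : (1 : Heis P d f).c = 0 := rfl
theorem Heis.inv_w (x : Heis P d f) : (x⁻¹).w = -x.w := rfl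
theorem Heis.inv_c (x : Heis P d f) : (x⁻¹).c = P.B x.w x.w - x.c := rfl

/-- The parametrisation of `Heis` by `W × Λ`. -/
def Heis.equiv (P : PQ F V σ) (d f : V) : Heis P d f ≃ Wp P d f × P.Λ where
  toFun x := (x.w, ⟨x.c - P.q x.w, x.valid⟩)
  invFun y := ⟨y.1, y.2 + P.q y.1, by simp⟩
  left_inv x := by ext <;> simp
  right_inv y := by ext <;> simp

theorem Heis.card : Nat.card (Heis P d f) = Nat.card (Wp P d f) * Nat.card P.Λ := by
  rw [Nat.card_congr (Heis.equiv P d f), Nat.card_prod]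

/-- The central element with parameter `l`. -/
def Heis.cen (P : PQ F V σ) (d f : V) {l : F} (hl : l ∈ P.Λ) : Heis P d f :=
  ⟨0, l, by simpa using P.Λ.sub_mem hl P.q_zero⟩

/-- The embedding of `Heis` in `EG P`. -/
noncomputable def Pair.toG (h : Pair P d f) : Heis P d f →* EG P where
  toFun x := euG h.hd (W_d x.w) x.valid
  map_one' := EG_ext fun x => by rw [euG_apply]; exact eu_zero d x
  map_mul' x y := EG_ext fun z => by
    rw [EG_mul_apply, euG_apply, euG_apply, euG_apply, eu_comp h.dd (W_d _) (W_d _)]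
    rfl

theorem Pair.toG_apply (h : Pair P d f) (x : Heis P d f) (v : V) :
    (h.toG x).1 v = eu P d x.w x.c v := euG_apply h.hd (W_d x.w) x.valid v

section Sub

variable (h : Pair P d f) (H : Subgroup (V ≃ₗ[F] V))

/-- The image of `H ∩ X_d` in `W`. -/
def XS : AddSubgroup (Wp P d f) where
  carrier := {w | ∃ c, c - P.q w ∈ P.Λ ∧ Has H (eu P d w c)}
  zero_mem' := ⟨0, by simpa using P.Λ.neg_mem P.q_zero, has_id.congr fun x => (eu_zero d x).symm⟩
  add_mem' := by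
    rintro a b ⟨c, hc, ha⟩ ⟨c', hc', hb⟩
    exact ⟨_, valid_add hc hc', has_eu_add h.hd (W_d a) (W_d b) ha hb⟩
  neg_mem' := by
    rintro a ⟨c, hc, ha⟩
    exact ⟨_, valid_neg hc, has_eu_neg h.hd (W_d a) ha⟩

/-- The annihilator of `XS`. -/
noncomputable def YS [Finite F] : AddSubgroup (Wp P d f) := annR (Pw P d f) (XS h H)

end Sub

/-- The transvections with centre `d` in `H`. -/
def ZS (hd : P.q d ∈ P.Λ) (H : Subgroup (V ≃ₗ[F] V)) : AddSubgroup F where
  carrier := {l | l ∈ P.Λ ∧ Has H (eu P d 0 l)}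
  zero_mem' := ⟨P.Λ.zero_mem, has_id.congr fun x => (eu_zero d x).symm⟩
  add_mem' := by
    rintro a b ⟨hc, ha⟩ ⟨hc', hb⟩
    have := has_eu_add hd (map_zero _) (map_zero _) ha hb
    simp only [add_zero, map_zero] at this
    exact ⟨P.Λ.add_mem hc hc', this⟩
  neg_mem' := by
    rintro a ⟨hc, ha⟩
    have := has_eu_neg hd (map_zero _) ha
    simp only [neg_zero, map_zero, zero_sub] at this
    exact ⟨P.Λ.neg_mem hc, this⟩

theorem mem_XS {h : Pair P d f} {H : Subgroup (V ≃ₗ[F] V)} {w : Wp P d f} :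
    w ∈ XS h H ↔ ∃ c, c - P.q w ∈ P.Λ ∧ Has H (eu P d w c) := Iff.rfl

theorem mem_ZS {hd : P.q d ∈ P.Λ} {H : Subgroup (V ≃ₗ[F] V)} {l : F} :
    l ∈ ZS hd H ↔ l ∈ P.Λ ∧ Has H (eu P d 0 l) := Iff.rfl

theorem ZS_le (hd : P.q d ∈ P.Λ) (H : Subgroup (V ≃ₗ[F] V)) : ZS hd H ≤ P.Λ := fun _ hl => hl.1

theorem mem_YS [Finite F] {h : Pair P d f} {H : Subgroup (V ≃ₗ[F] V)} {y : Wp P d f} :
    y ∈ YS h H ↔ ∀ x ∈ XS h H, psi F (P.B x y) = 1 := Iff.rfl

theorem YS_def [Finite F] (h : Pair P d f) (H : Subgroup (V ≃ₗ[F] V)) :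
    YS h H = annR (Pw P d f) (XS h H) := rfl

/-- Two valid parameters for the same vector differ by an element of `ZS`. -/
theorem sub_mem_ZS (hd : P.q d ∈ P.Λ) {H : Subgroup (V ≃ₗ[F] V)} {w : V} {c c' : F} (hw : P.B d w = 0)
    (hc : c - P.q w ∈ P.Λ) (hc' : c' - P.q w ∈ P.Λ) (h1 : Has H (eu P d w c))
    (h2 : Has H (eu P d w c')) : c - c' ∈ ZS hd H := by
  refine ⟨by simpa using P.Λ.sub_mem hc hc', ?_⟩
  have := has_eu_add hd hw (by simp [hw]) h1 (has_eu_neg hd hw h2)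
  simp only [add_neg_cancel, map_neg] at this
  convert this using 3
  ring

/-- Commutators of elements of `H ∩ X_d`. -/
theorem comm_mem_ZS (hd : P.q d ∈ P.Λ) {H : Subgroup (V ≃ₗ[F] V)} {w w' : V} {c c' : F}
    (hw : P.B d w = 0) (hw' : P.B d w' = 0) (hc : c - P.q w ∈ P.Λ) (hc' : c' - P.q w' ∈ P.Λ)
    (h1 : Has H (eu P d w c)) (h2 : Has H (eu P d w' c')) : P.B w w' - P.B w' w ∈ ZS hd H := by
  have h3 := has_eu_add hd hw hw' h1 h2
  have h4 := has_eu_add hd hw' hw h2 h1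
  rw [add_comm w' w] at h4
  have := sub_mem_ZS hd (by simp [hw, hw']) (valid_add hc hc')
    (by rw [add_comm w w']; exact valid_add hc' hc) h3 h4
  convert this using 1
  ring

section Action

variable {Ω : Type*} [MulAction (EG P) Ω]

variable (P) in
/-- The stabiliser of a point as a group of linear maps. -/
def St (ω : Ω) : Subgroup (V ≃ₗ[F] V) := (MulAction.stabilizer (EG P) ω).map (EG P).subtype

theorem coe_mem_St {ω : Ω} {g : EG P} : g.1 ∈ St P ω ↔ g • ω = ω := by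
  constructor
  · rintro ⟨g', hg', e⟩
    have : g' = g := Subtype.ext e
    exact this ▸ hg'
  · exact fun hg => ⟨g, hg, rfl⟩

theorem St_le (ω : Ω) : St P ω ≤ EG P := Subgroup.map_subtype_le _

theorem St_le_isom (ω : Ω) : St P ω ≤ P.Isom := (St_le ω).trans EG_le_isom

theorem has_St_iff {ω : Ω} {g : EG P} {φ : V → V} (e : ∀ x, g.1 x = φ x) :
    Has (St P ω) φ ↔ g • ω = ω :=
  ⟨fun h => coe_mem_St.1 (h.mem e), fun h => ⟨g.1, coe_mem_St.2 h, e⟩⟩

theorem Pair.has_St_iff (h : Pair P d f) {ω : Ω} (x : Heis P d f) :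
    Has (St P ω) (eu P d x.w x.c) ↔ h.toG x • ω = ω := H20.MD.has_St_iff (h.toG_apply x)

theorem has_St_conj {ω : Ω} {φ : V → V} (g : EG P) (h : Has (St P ω) φ) :
    Has (St P (g • ω)) (fun x => g.1 (φ ((g⁻¹).1 x))) := by
  obtain ⟨k, hk, e⟩ := h
  have h1 : (⟨k, St_le ω hk⟩ : EG P) • ω = ω := coe_mem_St.1 hk
  refine (has_St_iff (g := g * ⟨k, St_le ω hk⟩ * g⁻¹) fun x => ?_).2 ?_
  · rw [EG_mul_apply, EG_mul_apply, ← e]
  · rw [mul_smul, mul_smul, inv_smul_smul, h1]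

theorem has_St_eu {ω : Ω} {d w : V} {c : F} (g : EG P) (h : Has (St P ω) (eu P d w c)) :
    Has (St P (g • ω)) (eu P (g.1 d) (g.1 w) c) :=
  (has_St_conj g h).congr (eu_conj (EG_le_isom g.2) d w c)

/-- The orbit under the unipotent radical. -/
def Orb (h : Pair P d f) (ω : Ω) : Set Ω := Set.range fun x : Heis P d f => h.toG x • ω

theorem mem_Orb {h : Pair P d f} {ω ω' : Ω} : ω' ∈ Orb h ω ↔ ∃ x : Heis P d f, h.toG x • ω = ω' :=
  Iff.rfl

theorem mem_Orb_self (h : Pair P d f) (ω : Ω) : ω ∈ Orb h ω := ⟨1, by simp⟩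

theorem Orb_symm {h : Pair P d f} {ω ω' : Ω} (e : ω' ∈ Orb h ω) : ω ∈ Orb h ω' := by
  obtain ⟨x, rfl⟩ := e
  exact ⟨x⁻¹, by simp⟩

theorem Orb_trans {h : Pair P d f} {ω ω' ω'' : Ω} (e : ω' ∈ Orb h ω) (e' : ω'' ∈ Orb h ω') :
    ω'' ∈ Orb h ω := by
  obtain ⟨x, rfl⟩ := e
  obtain ⟨y, rfl⟩ := e'
  exact ⟨y * x, by simp [mul_smul]⟩

theorem XS_le_of_Orb {h : Pair P d f} {ω ω' : Ω} (e : ω' ∈ Orb h ω) :
    XS h (St P ω) ≤ XS h (St P ω') := by
  obtain ⟨x, rfl⟩ := e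
  rintro w ⟨c, hc, hw⟩
  have h1 := (h.has_St_iff ⟨w, c, hc⟩).1 hw
  have h2 : h.toG (x * ⟨w, c, hc⟩ * x⁻¹) • h.toG x • ω = h.toG x • ω := by
    rw [map_mul, map_mul, map_inv, mul_smul, mul_smul, inv_smul_smul, h1]
  have h3 := (h.has_St_iff _).2 h2
  have h4 := (x * ⟨w, c, hc⟩ * x⁻¹).valid
  have e : (x * ⟨w, c, hc⟩ * x⁻¹ : Heis P d f).w = w := by
    simp [Heis.mul_w, Heis.inv_w]
  rw [e] at h3 h4
  exact ⟨_, h4, h3⟩

theorem XS_eq_of_Orb {h : Pair P d f} {ω ω' : Ω} (e : ω' ∈ Orb h ω) :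
    XS h (St P ω') = XS h (St P ω) := le_antisymm (XS_le_of_Orb (Orb_symm e)) (XS_le_of_Orb e)

theorem YS_eq_of_Orb [Finite F] {h : Pair P d f} {ω ω' : Ω} (e : ω' ∈ Orb h ω) :
    YS h (St P ω') = YS h (St P ω) := by rw [YS_def, YS_def, XS_eq_of_Orb e]

theorem ZS_le_of_Orb {h : Pair P d f} {ω ω' : Ω} (e : ω' ∈ Orb h ω) :
    ZS h.hd (St P ω) ≤ ZS h.hd (St P ω') := by
  obtain ⟨x, rfl⟩ := e
  rintro l ⟨hl, hw⟩
  have h1 := has_St_eu (h.toG x) hw
  rw [map_zero, h.toG_apply, eu_fix _ h.dd (W_d' _)] at h1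
  exact ⟨hl, h1⟩

theorem ZS_eq_of_Orb {h : Pair P d f} {ω ω' : Ω} (e : ω' ∈ Orb h ω) :
    ZS h.hd (St P ω') = ZS h.hd (St P ω) := le_antisymm (ZS_le_of_Orb (Orb_symm e)) (ZS_le_of_Orb e)

theorem card_stab (h : Pair P d f) (ω : Ω) :
    Nat.card {x : Heis P d f // h.toG x • ω = ω} =
      Nat.card (XS h (St P ω)) * Nat.card (ZS h.hd (St P ω)) := by
  have hc : ∀ w : XS h (St P ω), ∃ c, c - P.q w.1 ∈ P.Λ ∧ Has (St P ω) (eu P d w.1 c) := fun w => w.2
  choose γ hγ hγ' using hc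
  rw [← Nat.card_prod]
  symm
  refine Nat.card_eq_of_bijective (fun y => ⟨⟨y.1.1, γ y.1 + y.2.1, ?_⟩, ?_⟩) ⟨?_, ?_⟩
  · have := P.Λ.add_mem (hγ y.1) y.2.2.1
    convert this using 1
    ring
  · rw [← h.has_St_iff]
    refine has_eu_valid h.hd (W_d _) (hγ' y.1) ?_
    simpa using y.2.2.2
  · rintro ⟨w, l⟩ ⟨w', l'⟩ e
    have e1 : w = w' := Subtype.ext (congrArg (fun x => x.1.w) e)
    subst e1
    have e2 : γ w + l.1 = γ w + l'.1 := congrArg (fun x => x.1.c) e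
    rw [Subtype.ext (add_left_cancel e2)]
  · rintro ⟨x, hx⟩
    have h1 := (h.has_St_iff x).2 hx
    have h2 : x.w ∈ XS h (St P ω) := ⟨x.c, x.valid, h1⟩
    have h3 : x.c - γ ⟨x.w, h2⟩ ∈ ZS h.hd (St P ω) :=
      sub_mem_ZS h.hd (W_d x.w) x.valid (hγ ⟨x.w, h2⟩) h1 (hγ' ⟨x.w, h2⟩)
    refine ⟨(⟨x.w, h2⟩, ⟨x.c - γ ⟨x.w, h2⟩, h3⟩), Subtype.ext (Heis.ext rfl ?_)⟩
    exact add_sub_cancel _ _

variable [Finite F] [Finite V]

theorem card_Orb (hP : P.B.SeparatingLeft) (h : Pair P d f) (ω : Ω) :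
    Nat.card (Orb h ω) = Nat.card (YS h (St P ω)) * (ZS h.hd (St P ω)).relIndex P.Λ := by
  let _ : MulAction (Heis P d f) Ω := MulAction.compHom Ω h.toG
  have h1 : Nat.card (Orb h ω) * Nat.card {x : Heis P d f // h.toG x • ω = ω} =
      Nat.card (Heis P d f) := by
    rw [← Nat.card_prod]
    exact Nat.card_congr (MulAction.orbitProdStabilizerEquivGroup (Heis P d f) ω)
  have h2 := card_annR (h.nd hP) (XS h (St P ω))
  have h3 : Nat.card (ZS h.hd (St P ω)) * (ZS h.hd (St P ω)).relIndex P.Λ = Nat.card P.Λ := by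
    have := AddSubgroup.card_mul_index ((ZS h.hd (St P ω)).addSubgroupOf P.Λ)
    rwa [Nat.card_congr (AddSubgroup.addSubgroupOfEquivOfLe (ZS_le h.hd _)).toEquiv] at this
  rw [card_stab, Heis.card, ← h2, ← h3, ← YS_def] at h1
  have h4 : 0 < Nat.card (XS h (St P ω)) * Nat.card (ZS h.hd (St P ω)) :=
    Nat.mul_pos Nat.card_pos Nat.card_pos
  apply Nat.eq_of_mul_eq_mul_right h4
  rw [h1]
  ring

end Action

theorem force_eq_heis : True := by
  have := @Wp.eq_1.{0,0}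
  have := @Wp.eq_def.{0,0}
  have := @Pw.eq_1.{0,0}
  have := @Pw.eq_def.{0,0}
  have := @XS.eq_1.{0,0}
  have := @XS.eq_def.{0,0}
  have := @YS.eq_1.{0,0}
  have := @YS.eq_def.{0,0}
  have := @ZS.eq_1.{0,0}
  have := @ZS.eq_def.{0,0}
  have := @St.eq_1.{0,0,0}
  have := @St.eq_def.{0,0,0}
  have := @Orb.eq_1.{0,0,0}
  have := @Orb.eq_def.{0,0,0}
  trivial

end H20.MD
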