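import Cfsg.Agent.Lib.MinDeg.SympD

/-! Hermitian spaces: local lemmas. -/

set_option autoImplicit false
set_option linter.unusedSectionVars false
set_option linter.unusedSimpArgs false
set_option linter.unusedVariables false

namespace H20.MD

open Module H28 H97 H11.U
open scoped Classical

universe u v

section General

variable {F V : Type*} [Field F] [AddCommGroup V] [Module F V] [FiniteDimensional F V]
  {σ : F →+* F} {P : PQ F V σ} {d f : V}

theorem exists_sing_ne {k : ℕ} (hK : IsoK P k) (hP : P.B.SeparatingLeft) {X : Submodule F V}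
    (hX : X ⊓ perp P X = ⊥) (hk : k ≤ finrank F X) {v x : V} (hv : v ∈ X) (hvx : P.B v x ≠ 0) :
    ∃ r ∈ X, P.q r ∈ P.Λ ∧ P.B r x ≠ 0 := by
  obtain ⟨e, heX, he0, he⟩ := hK X hk
  obtain ⟨f, hfX, hf, hfe⟩ := exists_partner_in hP hX heX he0 he
  by_cases h1 : P.B e x = 0; swap
  · exact ⟨e, heX, he, h1⟩
  by_cases h2 : P.B f x = 0; swap
  · exact ⟨f, hfX, hf, h2⟩
  obtain ⟨h3, h4⟩ := pair_proj hf he hfe v
  set v' := v - (P.ε * P.B e v) • f - P.B f v • e with hv'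
  refine ⟨v' + (f + (0 - P.q v') • e), X.add_mem (X.sub_mem (X.sub_mem hv (X.smul_mem _ hfX))
    (X.smul_mem _ heX)) (X.add_mem hfX (X.smul_mem _ heX)),
    by simpa using q_add_pair hf he hfe (P.eq_zero_symm h3) (P.eq_zero_symm h4) 0, ?_⟩
  simpa [hv', B_smul_left, h1, h2] using hvx

theorem le_ncard_Im {W : Type*} [AddCommGroup W] [Module F W] [Finite W] {Γ : Subgroup (W ≃ₗ[F] W)}
    {Y : AddSubgroup W} {y : W} (hy : y ∈ Y) {ι : Type*} (γ : ι → W ≃ₗ[F] W) (h1 : ∀ i, γ i ∈ Γ)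
    (h2 : ∀ i, γ i y = y) (h3 : ∀ i j, (∀ x ∈ Y, ∃ x' ∈ Y, γ j x' = γ i x) →
      (∀ x ∈ Y, ∃ x' ∈ Y, γ i x' = γ j x) → i = j) :
    Nat.card ι ≤ (Im Γ Y y).ncard := by
  rw [← Nat.card_coe_set_eq]
  exact Nat.card_le_card_of_injective
    (fun i => (⟨img (γ i) Y, img_mem_Im hy (h1 i) (h2 i)⟩ : Im Γ Y y)) fun i j e => by
      have e' : img (γ i) Y = img (γ j) Y := congrArg Subtype.val e
      exact h3 i j (fun x hx => mem_img.1 (e' ▸ apply_mem_img.2 hx))
        fun x hx => mem_img.1 (e'.symm ▸ apply_mem_img.2 hx)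

theorem comm_tr {g : EG P} {r : V} (hr : P.q r ∈ P.Λ) {l b : F} (hl : l ∈ P.Λ) (hg : g.1 r = b • r)
    (hb : σ b * b = 1) : g * euG hr (map_zero _) (valid_zero hl) = euG hr (map_zero _) (valid_zero hl) * g :=
  EG_ext fun x => by
    have h1 : P.B r (g.1 x) = b * P.B r x := by
      have := EG_B g r x
      rw [hg, B_smul_left] at this
      linear_combination b * this - P.B r (g.1 x) * hb
    simp only [EG_mul_apply, euG_apply, eu_tr, map_sub, map_smul, hg, h1]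
    module

theorem W_not_mem' (h : Pair P d f) {r : Wp P d f} (hr : r ≠ 0) : (r : V) ∉ F ∙ d := fun hm => by
  obtain ⟨a, e⟩ := Submodule.mem_span_singleton.1 hm
  exact hr (h.smul_d_add_eq_zero (a := -a) (w := r) (by rw [← e]; simp)).2

theorem Pair.line_ne (h : Pair P d f) {r : Wp P d f} (hr : r ≠ 0) (α : F) : (r : V) + α • d ≠ 0 := fun e =>
  hr (h.smul_d_add_eq_zero (by rwa [add_comm] at e)).2

theorem Pair.line_sing (h : Pair P d f) {r : Wp P d f} (hr : P.q r ∈ P.Λ) (α : F) :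
    P.q ((r : V) + α • d) ∈ P.Λ := sing_add hr (P.q_smul_mem h.hd α) (by simp [W_d'])

theorem Pair.eq_zero_of_line (h : Pair P d f) {r : Wp P d f} (hr : r ≠ 0) {α μ : F}
    (hm : μ • d ∈ F ∙ ((r : V) + α • d)) : μ = 0 := by
  obtain ⟨b, e⟩ := Submodule.mem_span_singleton.1 hm
  have h3 := h.smul_d_add_eq_zero (a := b * α - μ) (w := b • r) (by
    rw [Submodule.coe_smul]; linear_combination (norm := module) e)
  have h4 : b = 0 := (smul_eq_zero.1 h3.2).resolve_right hr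
  simpa [h4] using h3.1

theorem Pair.not_reg_line (hP : P.B.SeparatingLeft) (h : Pair P d f) {H : Subgroup (V ≃ₗ[F] V)}
    {r : Wp P d f} (hr0 : r ≠ 0) {α μ l : F} (hl : l ∈ P.Λ) (hl0 : l ≠ 0)
    (h1 : Has H (eu P (r + α • d) (μ • d) l)) : ¬ Reg P H (r + α • d) := fun hr => by
  have h2 := hr _ _ (by simp [W_d', h.dd]) (P.Λ.sub_mem hl (P.q_smul_mem h.hd μ)) h1
  have h3 := h.eq_zero_of_line hr0 (mem_span_of_eu_eq hP (h.line_ne hr0 α) h2)
  rw [h3, zero_smul] at h2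
  exact hl0 (eq_zero_of_eu_eq hP (h.line_ne hr0 α) h2)

/-- A torus element acting by scalars on two hyperbolic planes. -/
theorem Pair.exists_two_tor {k : ℕ} (hK : IsoK P k) (hP : P.B.SeparatingLeft) (hn : k + 2 ≤ finrank F V)
    (h : Pair P d f) {r r' : Wp P d f} (h' : Pair P (r : V) r') {b : F} (hb : σ b * b = 1) :
    ∃ g : EG P, Lev d f g (σ b) ∧ g.1 r = b • (r : V) ∧ g.1 r' = b • (r' : V) ∧
      ∀ w : V, P.B d w = 0 → P.B f w = 0 → P.B r w = 0 → P.B r' w = 0 → g.1 w = w := by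
  have hb0 : b ≠ 0 := fun e => by simp [e] at hb
  have hb1 : (σ b)⁻¹ = b := inv_eq_of_mul_eq_one_right hb
  obtain ⟨t, ht, t1, t2, t3⟩ := h.exists_tor_isom hP hb0
  obtain ⟨k, k1, k2⟩ := h.exists_EG hK hP hn h'
  rw [hb1] at t2
  have h1 : ∀ w, P.B r w = 0 → P.B r' w = 0 → k.1 (t (k.1⁻¹ w)) = w := fun w h1 h2 => by
    rw [t3 ⟨k.1⁻¹ w, mem_Wp.2 ⟨by rw [← EG_B k, k1, le_apply_inv, h1],
      by rw [← EG_B k, k2, le_apply_inv, h2]⟩⟩, le_apply_inv]
  have t4 : t⁻¹ d = σ b • d := inv_apply_of_eq (by rw [map_smul, t1, smul_smul, hb, one_smul])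
  have t5 : t⁻¹ f = σ b • f := inv_apply_of_eq (by rw [map_smul, t2, smul_smul, hb, one_smul])
  refine ⟨⟨k.1 * (t * k.1⁻¹ * t⁻¹), (EG P).mul_mem k.2 (EG_conj ht ((EG P).inv_mem k.2))⟩,
    ⟨sigma_ne hb0, ?_, ?_⟩, ?_, ?_, fun w h2 h3 h4 h5 => ?_⟩
  · simp only [le_mul_apply, t4, map_smul, h1 d (W_d' r) (W_d' r')]
  · simp only [le_mul_apply, t5, map_smul, h1 f (W_f' r) (W_f' r'), P.σσ, inv_eq_of_mul_eq_one_left hb]
  · simp only [le_mul_apply, inv_apply_of_eq (t3 r), inv_apply_of_eq k1, t1, map_smul, k1]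
  · simp only [le_mul_apply, inv_apply_of_eq (t3 r'), inv_apply_of_eq k2, t2, map_smul, k2]
  · simp only [le_mul_apply, inv_apply_of_eq (t3 ⟨w, mem_Wp.2 ⟨h2, h3⟩⟩), h1 w h4 h5]

theorem al_of_smul_eq [Finite F] [Finite V] {Ω : Type*} [MulAction (EG P) Ω] (h : Pair P d f) {ω : Ω}
    {x : Heis P d f} {r : Wp P d f} (hr : P.q r ∈ P.Λ) {a : F} (hx : x.w = a • r)
    {l : F} (hl : l ∈ P.Λ) (e : h.toG x • ω = euG hr (map_zero _) (valid_zero hl) • ω) :
    ∃ c ∈ P.Λ, AL P (St P ω) d r c (-a) l := by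
  have h1 := has_of_smul_eq h e
  have h2 := (x⁻¹).valid
  simp only [Heis.inv_w, hx, euG_apply, ← neg_smul, Submodule.coe_smul] at h1 h2
  exact ⟨_, by simpa using P.Λ.add_mem h2 (P.q_smul_mem hr (-a)), al_of_comp (W_d r) h1 (P.self_eq_zero hr)⟩

end General

variable {F : Type u} [Field F] [Fintype F] {q : ℕ} [IsSq F q]

theorem card_F (F : Type u) [Field F] [Fintype F] (q : ℕ) [h : IsSq F q] : Nat.card F = q ^ 2 := by
  rw [Nat.card_eq_fintype_card, h.card_eq]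

theorem exists_norm_eq' {c : F} (h : cj q c = c) : ∃ x : F, cj q x * x = c := by
  simpa only [mul_comm] using exists_norm_eq h

variable {V : Type v} [AddCommGroup V] [Module F V] [FiniteDimensional F V]

/-- Non-degenerate hermitian forms. -/
structure Herm (P : PQ F V (cj q)) : Prop where
  lam : P.Λ = traceZero (cj q)
  nd : P.B.SeparatingLeft
  eps : P.ε = 1
  iso : IsoK P 2

variable {P : PQ F V (cj q)} {d f : V} {H : Subgroup (V ≃ₗ[F] V)}

namespace Herm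

theorem pw (o : Herm P) (h : Pair P d f) : Herm (Pw P d f) := ⟨o.lam, h.nd o.nd, o.eps, isoK_Pw o.iso d f⟩

theorem mem (o : Herm P) {l : F} : l ∈ P.Λ ↔ l + cj q l = 0 := by rw [o.lam, mem_traceZero]

theorem self (o : Herm P) (x : V) : P.B x x = P.q x + cj q (P.q x) := by rw [P.self, o.eps, one_mul]

theorem sing (o : Herm P) {x : V} : P.q x ∈ P.Λ ↔ P.B x x = 0 := by rw [o.mem, o.self]

theorem symm (o : Herm P) (x y : V) : P.B y x = cj q (P.B x y) := by rw [P.symm, o.eps, one_mul]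

theorem cj_self (o : Herm P) (x : V) : cj q (P.B x x) = P.B x x := (o.symm x x).symm

theorem q_sub (o : Herm P) {x y : V} {a : F} :
    P.q y - cj q a * a * P.q x ∈ P.Λ ↔ P.B y y = cj q a * a * P.B x x := by
  rw [o.mem, o.self, o.self, ← sub_eq_zero (a := P.q y + _)]
  simp only [map_sub, map_mul, cj_cj]
  constructor <;> intro h <;> linear_combination h

theorem q_sub' (o : Herm P) {x y : V} : P.q y - P.q x ∈ P.Λ ↔ P.B y y = P.B x x := by
  simpa using o.q_sub (x := x) (y := y) (a := 1)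

theorem eu (o : Herm P) (d w : V) (c : F) (x : V) :
    eu P d w c x = x + (P.B w x - c * P.B d x) • d - P.B d x • w := by
  rw [eu_apply, o.eps, one_mul, one_mul]

theorem cj_lam (o : Herm P) {l : F} (hl : l ∈ P.Λ) : cj q l = -l := by
  linear_combination o.mem.1 hl

theorem card_lam (o : Herm P) : Nat.card P.Λ = q := by
  have := card_traceZero_sq (cj_ne_id (F := F) (q := q)) cj_cj
  rw [card_F F q, ← o.lam] at this
  exact Nat.pow_left_injective two_ne_zero this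

theorem exists_lam (o : Herm P) : ∃ l ∈ P.Λ, l ≠ 0 := by
  obtain ⟨l, h1, h2⟩ := exists_trace_zero F q
  exact ⟨l, o.mem.2 (by rw [h2, add_neg_cancel]), h1⟩

theorem exists_sub (o : Herm P) : ∀ l ∈ P.Λ, ∃ t, l = t - P.ε * cj q t := fun l hl => by
  obtain ⟨c, hc⟩ := exists_trace_eq (q := q) (c := (1 : F)) (map_one _)
  exact ⟨c * l, by rw [o.eps, map_mul, o.cj_lam hl]; linear_combination -l * hc⟩

theorem exists_scale (o : Herm P) {x y : V} (hx : P.B x x ≠ 0) (hy : P.B y y ≠ 0) :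
    ∃ a : F, a ≠ 0 ∧ P.B y y = cj q a * a * P.B x x := by
  obtain ⟨a, ha⟩ := exists_norm_eq' (q := q) (c := P.B y y / P.B x x) (by
    rw [map_div₀, o.cj_self, o.cj_self])
  exact ⟨a, fun e => div_ne_zero hy hx (by rw [← ha, e, mul_zero]), by rw [ha, div_mul_cancel₀ _ hx]⟩

theorem B_smul (x : V) (a : F) : P.B (a • x) (a • x) = cj q a * a * P.B x x := by
  rw [B_smul_left, map_smul, smul_eq_mul, mul_assoc]

theorem exists_nonsing (o : Herm P) {X : Submodule F V} {w w' : V} (hw : w ∈ X) (hw' : w' ∈ X)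
    (h : P.B w w' ≠ 0) : ∃ z ∈ X, P.B z z ≠ 0 := by
  by_contra hc
  push Not at hc
  obtain ⟨a, ha⟩ := exists_cj_ne F q
  have h1 := hc _ (X.add_mem hw hw')
  have h2 := hc _ (X.add_mem hw (X.smul_mem a hw'))
  simp only [map_add, LinearMap.add_apply, hc w hw, hc w' hw', B_smul_left, map_smul, smul_eq_mul] at h1 h2
  exact mul_ne_zero (sub_ne_zero.2 ha) h (by linear_combination cj q a * h1 - h2)

theorem exists_nonsing' (o : Herm P) (hn : 1 ≤ finrank F V) : ∃ z, P.B z z ≠ 0 := by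
  obtain ⟨x, -, hx⟩ := exists_ne_zero_mem (X := (⊤ : Submodule F V)) (by rwa [finrank_top])
  obtain ⟨y, hy⟩ := exists_B_eq o.nd hx 1
  obtain ⟨z, -, hz⟩ := o.exists_nonsing (X := ⊤) (w := x) (w' := y) trivial trivial (by simp [hy])
  exact ⟨z, hz⟩

theorem perp_inf (o : Herm P) {y : V} (hy : P.B y y ≠ 0) :
    perp P (F ∙ y) ⊓ perp P (perp P (F ∙ y)) = ⊥ := by
  rw [perp_perp o.nd, eq_bot_iff]
  rintro x ⟨h1, h2⟩
  obtain ⟨a, rfl⟩ := Submodule.mem_span_singleton.1 h2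
  have h3 := mem_perp_singleton.1 h1
  rw [map_smul, smul_eq_mul, mul_eq_zero] at h3
  simp [h3.resolve_right hy]

theorem exists_perp_nonsing (o : Herm P) (hn : 2 ≤ finrank F V) {y : V}
    (hy : P.B y y ≠ 0 ∨ 3 ≤ finrank F V) : ∃ z, P.B y z = 0 ∧ P.B z z ≠ 0 := by
  have h1 := finrank_perp o.nd (F ∙ y)
  have h2 := finrank_span_singleton_le (F := F) y
  obtain ⟨w, hw, w', hw', h3⟩ : ∃ w ∈ perp P (F ∙ y), ∃ w' ∈ perp P (F ∙ y), P.B w w' ≠ 0 := by
    rcases hy with hy | hy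
    · obtain ⟨w, hw, hw0⟩ := exists_ne_zero_mem (X := perp P (F ∙ y)) (by omega)
      by_contra h3
      push Not at h3
      exact hw0 ((o.perp_inf hy).le ⟨hw, mem_perp'.2 (h3 w hw)⟩)
    · exact exists_B_ne_zero_of_lt o.nd (by omega)
  obtain ⟨z, h4, h5⟩ := o.exists_nonsing hw hw' h3
  exact ⟨z, mem_perp_singleton.1 h4, h5⟩

theorem exists_sing (o : Herm P) (hn : 2 ≤ finrank F V) {x : V} (hx : x ≠ 0) :
    ∃ r, P.q r ∈ P.Λ ∧ P.B r x ≠ 0 := by
  obtain ⟨v, hv⟩ := exists_B_eq o.nd hx 1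
  obtain ⟨r, -, h⟩ := exists_sing_ne o.iso o.nd (X := ⊤) (by
    rw [top_inf_eq, eq_bot_iff]
    exact fun x hx => o.nd x fun w => mem_perp'.1 hx w trivial) (by rwa [finrank_top]) (v := v) (x := x)
    trivial (B_ne_zero_symm (by simp [hv]))
  exact ⟨r, h⟩

theorem exists_sing_perp (o : Herm P) (hn : 3 ≤ finrank F V) {y x : V} (hy : P.B y y ≠ 0)
    (hx : x ∉ F ∙ y) : ∃ r, P.q r ∈ P.Λ ∧ P.B r y = 0 ∧ P.B r x ≠ 0 := by
  obtain ⟨v, h1, h2⟩ := exists_perp_ne o.nd hx 1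
  have h3 := finrank_perp o.nd (F ∙ y)
  have h4 := finrank_span_singleton_le (F := F) y
  obtain ⟨r, h5, h6, h7⟩ := exists_sing_ne o.iso o.nd (o.perp_inf hy) (by omega) (v := v) (x := x)
    h1 (B_ne_zero_symm (by simp [h2]))
  exact ⟨r, h6, P.eq_zero_symm (mem_perp_singleton.1 h5), h7⟩

theorem exists_pair (o : Herm P) (hn : 2 ≤ finrank F V) : ∃ d f, Pair P d f := by
  obtain ⟨d, -, h1, h2⟩ := o.iso ⊤ (by rwa [finrank_top])
  exact ⟨d, MD.exists_pair o.nd h2 h1⟩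

theorem agree (o : Herm P) (hn : 4 ≤ finrank F V) {S : Set V} {z : V} (hz : P.B z z ≠ 0)
    (hS : ∀ u ∈ S, P.B z u = 0) {g : V ≃ₗ[F] V} (hg : g ∈ P.Isom) : ∃ g' ∈ EG P, ∀ u ∈ S, g' u = g u := by
  obtain ⟨s, hs, -, hgs⟩ := o.iso.isom_le_EGmul o.nd hn (fixer F S) (fun c d _ hc => by
    by_cases hd : P.B d d = 0
    · exact Or.inl (has_qrefl_EG_of_sing (o.sing.2 hd) hc)
    obtain ⟨a, ha, e⟩ := o.exists_scale hz hd
    have hq : P.q (a • z) - P.q d ∈ P.Λ := o.q_sub'.2 (by rw [B_smul, e])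
    refine Or.inr ⟨a • z, smul_ne_zero ha fun e => hz (by simp [e]), hq, ?_⟩
    obtain ⟨s, -, es⟩ := has_qrefl_isom o.nd (qrefl_valid_congr hc hq)
    refine ⟨s, fun u hu => ?_, es⟩
    rw [es, PQ.qrefl_apply]
    simp [B_smul_left, hS u hu]) hg
  exact ⟨g * s⁻¹, hgs, fun u hu => by rw [le_mul_apply, (fixer F S).inv_mem hs u hu]⟩

theorem levAut (o : Herm P) (hn : 4 ≤ finrank F V) (h : Pair P d f) {y y' : Wp P d f} (hy : y ≠ 0)
    (hy' : y' ≠ 0) {a : F} (ha : a ≠ 0) (hq : P.B y' y' = cj q a * a * P.B y y)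
    (hz : P.B y y ≠ 0 ∨ 5 ≤ finrank F V) : ∃ γ ∈ LevAut P d f, γ y = y' := by
  have hW := h.finrank_W
  have hσ := sigma_ne (σ := cj q) ha
  obtain ⟨z, hz1, hz2⟩ := (o.pw h).exists_perp_nonsing (by omega) (y := y) (hz.imp id fun _ => by omega)
  obtain ⟨γ, hγ, e, -⟩ := (Pw P d f).witt_step (h.nd o.nd) ⊥ (u := y) (v := a⁻¹ • y') (by simpa using hy)
    (by simp [ha, hy']) ((o.pw h).q_sub'.2 (by
      rw [B_smul, Pw_B, Pw_B, hq, map_inv₀]; field_simp)) (by simp)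
  obtain ⟨g, hg, g1, g2, g3⟩ := h.exists_isom o.nd (h.smul (inv_ne_zero ha))
    ((Wp P d f).subtype ∘ₗ (γ : Wp P d f →ₗ[F] Wp P d f)) (fun w => by simp [B_smul_left, W_d])
    (fun w => by simp [B_smul_left, W_f]) (fun w w' => hγ.1 w w') fun w => hγ.2 w
  obtain ⟨g', hg', e'⟩ := o.agree hn (S := {d, f, (y : V)}) (z := z) hz2 (by
    simp only [Set.mem_insert_iff, Set.mem_singleton_iff, forall_eq_or_imp, forall_eq]
    exact ⟨W_d' z, W_f' z, P.eq_zero_symm hz1⟩) hg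
  have hl : Lev d f ⟨g', hg'⟩ a⁻¹ := ⟨inv_ne_zero ha, (e' d (by simp)).trans g1, (e' f (by simp)).trans g2⟩
  refine ⟨hl.rho, hl.rho_mem, Subtype.ext ?_⟩
  rw [hl.rho_apply, inv_inv]
  change a • g' y = _
  rw [e' y (by simp), g3]
  simp [e, smul_smul, ha]

theorem mem_lvl (o : Herm P) [Finite V] {x : V} : x ∈ lvl P 0 ↔ x ≠ 0 ∧ P.B x x = 0 := by
  rw [MD.mem_lvl, sub_zero, o.sing]

theorem mem_cls (o : Herm P) [Finite V] {z x : V} (hz : P.B z z ≠ 0) : x ∈ cls P (P.q z) ↔ P.B x x ≠ 0 := by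
  simp only [MD.mem_cls, o.q_sub]
  refine ⟨?_, fun h => ⟨fun e => h (by simp [e]), o.exists_scale hz h⟩⟩
  rintro ⟨-, a, ha, e⟩
  rw [e]
  exact mul_ne_zero (mul_ne_zero (sigma_ne ha) ha) hz

theorem disjoint_cls (o : Herm P) [Finite V] {z : V} (hz : P.B z z ≠ 0) :
    Disjoint (lvl P 0) (cls P (P.q z)) :=
  Finset.disjoint_left.2 fun x h1 h2 => (o.mem_cls hz).1 h2 (o.mem_lvl.1 h1).2

theorem card_add (o : Herm P) [Finite V] {z : V} (hz : P.B z z ≠ 0) :
    (lvl P 0).card + (cls P (P.q z)).card + 1 = Nat.card V := by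
  have := Fintype.ofFinite V
  rw [← Finset.card_union_of_disjoint (o.disjoint_cls hz), Nat.card_eq_fintype_card, ← Finset.card_univ,
    ← Finset.card_erase_add_one (Finset.mem_univ (0 : V))]
  congr 2
  ext x
  simp only [Finset.mem_union, o.mem_lvl, o.mem_cls hz, Finset.mem_erase, Finset.mem_univ, and_true]
  refine ⟨fun h => h.elim And.left fun h e => h (by simp [e]), fun h => ?_⟩
  tauto

theorem levAut_lvl (o : Herm P) [Finite V] (hn : 5 ≤ finrank F V) (h : Pair P d f) {y : Wp P d f}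
    (hy : y ≠ 0) (hq : P.B y y = 0) : ∀ y' ∈ lvl (Pw P d f) 0, ∃ γ ∈ LevAut P d f, γ y = y' :=
  fun y' hy' => o.levAut (by omega) h hy ((o.pw h).mem_lvl.1 hy').1 one_ne_zero
    (by rw [hq, mul_zero]; exact ((o.pw h).mem_lvl.1 hy').2) (Or.inr hn)

theorem levAut_cls (o : Herm P) [Finite V] (hn : 4 ≤ finrank F V) (h : Pair P d f) {z y : Wp P d f}
    (hz : P.B z z ≠ 0) (hy : P.B y y ≠ 0) :
    ∀ y' ∈ cls (Pw P d f) (P.q z), ∃ γ ∈ LevAut P d f, γ y = y' := fun y' hy' => by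
  have h1 := ((o.pw h).mem_cls hz).1 hy'
  obtain ⟨a, ha, e⟩ := o.exists_scale hy h1
  exact o.levAut hn h (fun e => hy (by simp [e])) (fun e => h1 (by simp [e])) ha e (Or.inl hy)

end Herm

theorem Herm.cnt_eq (n : ℕ) : ∀ {V : Type v} [AddCommGroup V] [Module F V] [FiniteDimensional F V]
    [Finite V] {P : PQ F V (cj q)} (_ : Herm P) (_ : finrank F V = n),
    (q : ℤ) * cnt P 0 = (q ^ n) ^ 2 + (-1) ^ n * (q - 1) * q ^ n := by
  induction n using Nat.strong_induction_on with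
  | _ n ih =>
    intro V _ _ _ _ P o hn
    by_cases h2 : 2 ≤ n
    · obtain ⟨d, f, h⟩ := o.exists_pair (by omega)
      have h1 := h.finrank_W
      obtain ⟨m, rfl⟩ : ∃ m, n = m + 2 := ⟨n - 2, by omega⟩
      have h3 := ih m (by omega) (o.pw h) (by omega)
      have h4 : 1 ≤ q ^ 2 := Nat.one_le_pow _ _ (by have := two_le_q F q; omega)
      rw [cnt_pair h, o.card_lam, card_submodule, card_F F q, show finrank F (Wp P d f) = m by omega]
      push_cast [h4]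
      linear_combination (q : ℤ) ^ 2 * h3
    have h3 : cnt P 0 = 1 := by
      rw [← card_lvl_of_mem (zero_mem _), Nat.add_eq_right, Finset.card_eq_zero,
        Finset.eq_empty_iff_forall_notMem]
      intro x hx
      obtain ⟨h3, h4⟩ := o.mem_lvl.1 hx
      have h5 : F ∙ x = ⊤ := Submodule.eq_top_of_finrank_eq (by
        have := Submodule.finrank_le (F ∙ x)
        rw [finrank_span_singleton h3] at this ⊢
        omega)
      refine h3 (o.nd x fun y => ?_)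
      obtain ⟨a, rfl⟩ := Submodule.mem_span_singleton.1 (h5.ge (Submodule.mem_top (x := y)))
      simp [h4]
    rcases (by omega : n = 0 ∨ n = 1) with rfl | rfl <;> rw [h3] <;> push_cast <;> ring

end H20.MD
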