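import Cfsg.Agent.Lib.MinDeg.HermA

/-! Hermitian spaces: numerical lemmas and subgroups with few images. -/

set_option autoImplicit false
set_option linter.unusedSectionVars false
set_option linter.unusedSimpArgs false
set_option linter.unusedVariables false

namespace H20.MD

open Module H28 H97 H11.U
open scoped Classical

universe u v

/-- Numerical data for hermitian spaces. -/
structure UD (q x s t n : ℕ) : Prop where
  hq : 2 ≤ q
  hx : q ^ 3 ≤ x
  hs : s + t + 1 = x ^ 2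
  hu : q * (s + 1) + x ≤ x ^ 2 + q * x
  hl : x ^ 2 + x ≤ q * (s + 1) + q * x
  hn : n * q ^ 2 + q * x ^ 2 ≤ q ^ 2 * s + q ^ 3 * x ^ 2 + n

namespace UD

variable {q x s t n : ℕ}

theorem aux (h : UD q x s t n) : (2 : ℤ) ≤ q ∧ (q : ℤ) ^ 3 ≤ x ∧ (q : ℤ) * s ≤ (x - 1) * (x + q) ∧
    ((q : ℤ) - 1) * x * (x - 1) ≤ q * t ∧ ((x : ℤ) + 1) * (x - q) ≤ q * s ∧ (s : ℤ) + t + 1 = x ^ 2 ∧
    (n : ℤ) * (q ^ 2 - 1) ≤ q * (q * s) + (q ^ 2 - 1) * q * x ^ 2 := by
  obtain ⟨h1, h2, h3, h4, h5, h6⟩ := h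
  zify at h1 h2 h3 h4 h5 h6
  refine ⟨h1, h2, by linarith, ?_, by linarith, h3, by linarith⟩
  have : (q : ℤ) * t = q * x ^ 2 - q * (s + 1) := by rw [← h3]; ring
  linarith

theorem n2 (h : UD q x s t n) : n < s * q + t * (2 * q) := by
  obtain ⟨h1, h2, h3, h4, -, h5, h6⟩ := h.aux
  by_contra h7
  rw [not_lt] at h7
  zify at h7
  have h8 : (0 : ℤ) ≤ q ^ 2 - 1 := by nlinarith
  have h9 : ((q : ℤ) ^ 2 - 1) * (q * t) ≤ q * (q * s) + (q ^ 2 - 1) * q := by
    have := mul_le_mul_of_nonneg_right h7 h8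
    rw [← h5] at h6
    nlinarith
  have h10 : (q : ℤ) + 1 ≤ (q ^ 2 - 1) * (q - 1) := by nlinarith
  have h11 : (q : ℤ) ^ 2 + 1 ≤ x := by nlinarith
  have h12 : (0 : ℤ) ≤ x * (x - 1) := by nlinarith
  have h13 : ((q : ℤ) + 1) * (x * (x - 1)) ≤ q * ((x - 1) * (x + q)) + (q ^ 2 - 1) * q := by
    have := mul_le_mul_of_nonneg_right h10 h12
    have := mul_le_mul_of_nonneg_left h4 h8
    have := mul_le_mul_of_nonneg_left h3 (show (0 : ℤ) ≤ q by omega)
    nlinarith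
  nlinarith [mul_le_mul_of_nonneg_left (show (1 : ℤ) ≤ x - q ^ 2 by linarith) (show (0 : ℤ) ≤ x - 1 by nlinarith)]

theorem n1 (h : UD q x s t n) (hq : 3 ≤ q) : n < t * (2 * q) := by
  obtain ⟨-, h2, h3, h4, -, h5, h6⟩ := h.aux
  by_contra h7
  rw [not_lt] at h7
  zify at h7 hq
  have h8 : (0 : ℤ) ≤ q ^ 2 - 1 := by nlinarith
  have h9 : ((q : ℤ) ^ 2 - 1) * (q * t) ≤ (q + (q ^ 2 - 1)) * (q * s) + (q ^ 2 - 1) * q := by
    have := mul_le_mul_of_nonneg_right h7 h8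
    rw [← h5] at h6
    nlinarith
  have h11 : (27 : ℤ) ≤ x := by nlinarith
  have h12 : (0 : ℤ) ≤ x * (x - 1) := by nlinarith
  have h13 : ((q : ℤ) ^ 2 - 1) * 2 * (x * (x - 1)) ≤
      (q + (q ^ 2 - 1)) * ((x - 1) * (x + q)) + (q ^ 2 - 1) * q := by
    have := mul_le_mul_of_nonneg_right (mul_le_mul_of_nonneg_left (show (2 : ℤ) ≤ q - 1 by omega) h8) h12
    have := mul_le_mul_of_nonneg_left h4 h8
    have := mul_le_mul_of_nonneg_left h3 (show (0 : ℤ) ≤ q + (q ^ 2 - 1) by omega)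
    nlinarith
  have h14 : (1 : ℤ) ≤ (q ^ 2 - 1 - q) * x - q * (q + (q ^ 2 - 1)) := by
    have := mul_le_mul (show (5 : ℤ) ≤ q ^ 2 - 1 - q by nlinarith) h2 (by positivity) (by nlinarith)
    nlinarith
  nlinarith [mul_le_mul_of_nonneg_left h14 (show (0 : ℤ) ≤ x - 1 by omega)]

theorem n3 (h : UD q x s t n) : (x ^ 2 - 1) * n < x ^ 2 * (s * ((q + 1) * q)) := by
  obtain ⟨h1, h2, -, -, h4, h5, h6⟩ := h.aux
  by_contra h7
  rw [not_lt] at h7
  have h0 : 1 ≤ x ^ 2 := by rw [← h.hs]; omega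
  zify [h0] at h7
  have h8 : (0 : ℤ) ≤ q ^ 2 - 1 := by nlinarith
  have h11 : (q : ℤ) + 1 ≤ x := by nlinarith
  have h9 : (q : ℤ) * s * (x ^ 2 * ((q + 1) * (q ^ 2 - 1) - q) + q) ≤ (q ^ 2 - 1) * q * x ^ 2 * (x ^ 2 - 1) := by
    have := mul_le_mul_of_nonneg_right h7 h8
    have := mul_le_mul_of_nonneg_left h6 (show (0 : ℤ) ≤ x ^ 2 - 1 by nlinarith)
    nlinarith
  have h10 := (mul_le_mul_of_nonneg_right h4 (show (0 : ℤ) ≤ x ^ 2 * ((q + 1) * (q ^ 2 - 1) - q) + q by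
    have : (0 : ℤ) ≤ (q + 1) * (q ^ 2 - 1) - q := by nlinarith
    positivity)).trans h9
  have h12 : ((x : ℤ) - q) * (x ^ 2 * ((q + 1) * (q ^ 2 - 1) - q) + q) ≤ (q ^ 2 - 1) * q * x ^ 2 * (x - 1) :=
    le_of_mul_le_mul_left (a := (x : ℤ) + 1) (by linarith) (by omega)
  have h13 : (0 : ℤ) ≤ x * (q ^ 2 - 1 - q) - q ^ 2 * (q ^ 2 - 2) := by
    have := mul_le_mul_of_nonneg_right h2 (show (0 : ℤ) ≤ q ^ 2 - 1 - q by nlinarith)
    have : (0 : ℤ) ≤ q ^ 2 * ((q ^ 2 - 1) * (q - 2)) := mul_nonneg (by positivity) (mul_nonneg h8 (by omega))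
    nlinarith
  nlinarith [mul_nonneg (sq_nonneg (x : ℤ)) h13, mul_pos (show (0 : ℤ) < q by omega) (show (0 : ℤ) < x - q by omega)]

theorem n4 (h : UD q x s t n) : n < 2 * (x ^ 2 * q) := by
  obtain ⟨h1, h2, h3, -, -, -, h6⟩ := h.aux
  by_contra h7
  rw [not_lt] at h7
  zify at h7
  have h8 : (3 : ℤ) ≤ q ^ 2 - 1 := by nlinarith
  have h11 : (q : ℤ) + 1 ≤ x := by nlinarith
  have h9 : (q : ℤ) * s < 3 * x ^ 2 := by nlinarith
  have := mul_le_mul_of_nonneg_right h7 (show (0 : ℤ) ≤ q ^ 2 - 1 by omega)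
  have := mul_lt_mul_of_pos_left h9 (show (0 : ℤ) < q by omega)
  have := mul_le_mul_of_nonneg_right h8 (show (0 : ℤ) ≤ q * x ^ 2 by positivity)
  nlinarith

theorem n5 (h : UD q x s t n) {r : ℕ} (hr : x ^ 2 * q + r ≤ n) : r < s * 2 ∧ r < t * 2 ∧ r < s * 1 + t * 1 := by
  obtain ⟨h1, h2, h3, h4, h5, -, h6⟩ := h.aux
  zify at hr ⊢
  have h8 : (3 : ℤ) ≤ q ^ 2 - 1 := by nlinarith
  have h11 : (q : ℤ) + 1 ≤ x := by nlinarith
  have h9 : (r : ℤ) * (q ^ 2 - 1) ≤ q * (q * s) := by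
    have := mul_le_mul_of_nonneg_right hr (show (0 : ℤ) ≤ q ^ 2 - 1 by omega)
    nlinarith
  have h10 : (0 : ℤ) < s := lt_of_mul_lt_mul_left (a := (q : ℤ)) (by nlinarith) (by omega)
  have h12 : (q : ℤ) ^ 2 * (q * s) < 2 * (q ^ 2 - 1) * (q * t) := by
    have h13 : (q : ℤ) ^ 2 + 2 ≤ 2 * (q ^ 2 - 1) * (q - 1) := by nlinarith
    have := mul_le_mul_of_nonneg_right h13 (show (0 : ℤ) ≤ x * (x - 1) by nlinarith)
    have := mul_le_mul_of_nonneg_left h4 (show (0 : ℤ) ≤ 2 * (q ^ 2 - 1) by omega)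
    have := mul_le_mul_of_nonneg_left h3 (show (0 : ℤ) ≤ q ^ 2 by positivity)
    have := mul_pos (show (0 : ℤ) < x - 1 by omega) (show (0 : ℤ) < 2 * x - q ^ 3 by nlinarith)
    nlinarith
  have h13 : (q : ℤ) * (q * s) < 2 * (q ^ 2 - 1) * t :=
    lt_of_mul_lt_mul_left (a := (q : ℤ)) (by linarith) (by omega)
  refine ⟨lt_of_mul_lt_mul_right (a := (q : ℤ) ^ 2 - 1) (by nlinarith) (by omega),
    lt_of_mul_lt_mul_right (a := (q : ℤ) ^ 2 - 1) (by nlinarith) (by omega),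
    lt_of_mul_lt_mul_right (a := (q : ℤ) ^ 2 - 1) (by nlinarith) (by omega)⟩

end UD

variable {F : Type u} [Field F] [Fintype F] {q : ℕ} [IsSq F q]
variable {V : Type v} [AddCommGroup V] [Module F V] [FiniteDimensional F V] [Finite V]
variable {P : PQ F V (cj q)} {d f : V} {H : Subgroup (V ≃ₗ[F] V)}

namespace Herm

theorem norm_ne {a : F} (ha : a ≠ 0) : cj q a * a ≠ 0 := mul_ne_zero (sigma_ne ha) ha

/-- Isotropic subgroups not contained in a point have many images. -/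
theorem beta_iso (o : Herm P) (hn : 3 ≤ finrank F V) {Γ : Subgroup (V ≃ₗ[F] V)} (hΓ : EG P ≤ Γ)
    {Y : AddSubgroup V} (hY : ∀ v ∈ Y, P.B v v = 0) :
    (∃ y, ∀ v ∈ Y, v ∈ F ∙ y) ∨ ∃ y ∈ Y, y ≠ 0 ∧ q + 1 ≤ (Im Γ Y y).ncard := by
  rcases Orth.sub_or_pair (F := F) Y with h | ⟨x, hx, y, hy, hy0, hxy⟩
  · exact Or.inl h
  refine Or.inr ?_
  have hq := two_le_q F q
  by_cases h1 : ∃ y ∈ Y, ∃ x ∈ Y, P.B y x ≠ 0
  · obtain ⟨y, hy, x, hx, h1⟩ := h1
    have hys := o.sing.2 (hY y hy)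
    have h2 := pair_of_ne hys (o.sing.2 (hY x hx)) h1
    have h3 := h2.finrank_W
    obtain ⟨z, hz⟩ := (o.pw h2).exists_nonsing' (by omega)
    have h4 : P.B y z = 0 := W_d z
    choose γ hγ e using fun a : F => exists_isom_eu hys (w := a • (z : V)) (c := P.q (a • (z : V)))
      (by simp [h4]) (by simp)
    refine ⟨y, hy, fun e => h1 (by simp [e]), le_trans ?_ (le_ncard_Im hy γ (fun a => hΓ (hγ a))
      (fun a => by rw [e, eu_fix _ (hY y hy) (by simp [B_smul_left, P.eq_zero_symm h4])])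
      fun a b h5 _ => ?_)⟩
    · rw [card_F F q]
      nlinarith
    obtain ⟨x', hx', h6⟩ := h5 x hx
    rw [e, e, o.eu, o.eu] at h6
    have h7 : P.B y x' = P.B y x := by simpa [hY y hy, h4] using congrArg (P.B y) h6
    rw [h7] at h6
    have h8 := hY _ (Y.sub_mem hx' hx)
    rw [show x' - x = (P.B (a • (z : V)) x - P.q (a • (z : V)) * P.B y x -
        (P.B (b • (z : V)) x' - P.q (b • (z : V)) * P.B y x)) • y + (P.B y x * (b - a)) • (z : V) by
      linear_combination (norm := module) h6] at h8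
    simp only [map_add, LinearMap.add_apply, B_smul_left, map_smul, hY y hy, h4, P.eq_zero_symm h4,
      smul_eq_mul, mul_zero, zero_add] at h8
    by_contra h9
    exact mul_ne_zero (norm_ne (q := q) (mul_ne_zero h1 (sub_ne_zero.2 (Ne.symm h9)))) hz
      (by rw [Pw_B]; linear_combination h8)
  push Not at h1
  have h2 := (TS.span (fun u hu => o.sing.2 (hY u hu)) h1).finrank_le o.nd
  have h3 := two_le_finrank (Submodule.subset_span (R := F) (show x ∈ (Y : Set V) from hx))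
    (Submodule.subset_span (show y ∈ (Y : Set V) from hy)) hy0 hxy
  obtain ⟨r₀, hr₀, h4, h5⟩ := o.iso.exists_sing_perp o.nd (by omega) hxy
  obtain ⟨l₀, hl₀, hl0⟩ := o.exists_lam
  obtain ⟨g, hg, eg⟩ := exists_isom_eu hr₀ (map_zero _) (valid_zero hl₀)
  have hgy : g y = y := by rw [eg, eu_fix _ h4 (by simp)]
  have hr : P.q (g x) ∈ P.Λ := isom_q (EG_le_isom hg) (o.sing.2 (hY x hx))
  have hxr : P.B x (g x) ≠ 0 := by
    rw [eg, eu_tr, map_sub, hY x hx, map_smul, o.eps]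
    simpa [hl0, h5] using B_ne_zero_symm h5
  have hry : P.B (g x) y = 0 := by rw [← hgy, (EG_le_isom hg).1, h1 x hx y hy]
  choose γ hγ e using fun l : P.Λ => exists_isom_eu hr (map_zero _) (valid_zero l.2)
  have h6 : ∀ (l : P.Λ), ∀ x' ∈ Y, γ l x' ≠ g x := fun l x' hx' h6 => by
    rw [e, eu_tr] at h6
    have h7 : P.B (g x) x' = 0 := by simpa [o.sing.1 hr] using congrArg (P.B (g x)) h6
    rw [h7, mul_zero, zero_smul, sub_zero] at h6
    exact hxr (h6 ▸ h1 x hx x' hx')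
  refine ⟨y, hy, hy0, le_trans ?_ (le_ncard_Im hy (fun i : Option P.Λ => i.elim g γ)
    (fun i => by cases i <;> simp [hΓ hg, hΓ (hγ _)]) (fun i => ?_) fun i j h7 h8 => ?_)⟩
  · rw [Finite.card_option, o.card_lam]
  · cases i
    · exact hgy
    · simp only [Option.elim, e]
      exact eu_fix _ hry (by simp)
  rcases i with _ | l <;> rcases j with _ | l'
  · rfl
  · obtain ⟨x', hx', h9⟩ := h7 x hx
    exact (h6 _ x' hx' h9).elim
  · obtain ⟨x', hx', h9⟩ := h8 x hx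
    exact (h6 _ x' hx' h9).elim
  · obtain ⟨x', hx', h9⟩ := h7 x hx
    simp only [Option.elim, e, eu_tr, o.eps, one_mul] at h9
    have h10 : P.B (g x) x' = P.B (g x) x := by simpa [o.sing.1 hr] using congrArg (P.B (g x)) h9
    have h11 := congrArg (P.B x) h9
    simp only [map_sub, map_smul, h1 x hx x' hx', hY x hx, h10, smul_eq_mul, zero_sub, neg_inj] at h11
    rw [Subtype.ext (mul_right_cancel₀ (B_ne_zero_symm hxr) (mul_right_cancel₀ hxr h11))]

theorem img_tr (o : Herm P) {Γ : Subgroup (V ≃ₗ[F] V)} (hΓ : EG P ≤ Γ) {Y : AddSubgroup V} {y : V}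
    (hy : y ∈ Y) (hβ : (Im Γ Y y).ncard ≤ 1) {r : V} (hr : P.q r ∈ P.Λ) (hry : P.B r y = 0) {l : F}
    (hl : l ∈ P.Λ) : ∃ γ ∈ P.Isom, img γ Y = Y ∧ ∀ x, γ x = x + (l * P.B r x) • r := by
  obtain ⟨γ, hγ, e⟩ := exists_isom_eu hr (map_zero _) (valid_zero (P.Λ.neg_mem hl))
  exact ⟨γ, EG_le_isom hγ, img_eq_of_le_one (hΓ hγ) (by rw [e, eu_fix _ hry (by simp)]) hy hβ,
    fun x => by rw [e, eu_tr, o.eps]; module⟩

theorem tr_mem (o : Herm P) {Γ : Subgroup (V ≃ₗ[F] V)} (hΓ : EG P ≤ Γ) {Y : AddSubgroup V} {y : V}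
    (hy : y ∈ Y) (hβ : (Im Γ Y y).ncard ≤ 1) {r : V} (hr : P.q r ∈ P.Λ) (hry : P.B r y = 0) {l : F}
    (hl : l ∈ P.Λ) {x : V} (hx : x ∈ Y) : (l * P.B r x) • r ∈ Y := by
  obtain ⟨γ, -, h1, e⟩ := o.img_tr hΓ hy hβ hr hry hl
  have h2 : γ x ∈ Y := by rw [← h1, apply_mem_img]; exact hx
  simpa [e] using Y.sub_mem h2 hx

theorem tr_mem' (o : Herm P) {Γ : Subgroup (V ≃ₗ[F] V)} (hΓ : EG P ≤ Γ) {X : AddSubgroup V} {y : V}
    (hy : y ∈ annR P X) (hβ : (Im Γ (annR P X) y).ncard ≤ 1) {r : V} (hr : P.q r ∈ P.Λ)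
    (hry : P.B r y = 0) {l : F} (hl : l ∈ P.Λ) {x : V} (hx : x ∈ X) : (l * P.B r x) • r ∈ X := by
  obtain ⟨γ, hγ, h1, e⟩ := o.img_tr hΓ hy hβ hr hry hl
  have h2 : γ x ∈ X := by
    rw [← annL_annR o.nd X, mem_annL]
    intro v hv
    rw [← h1] at hv
    obtain ⟨u, hu, rfl⟩ := mem_img.1 hv
    rw [hγ.1]
    exact mem_annR.1 hu x hx
  simpa [e] using X.sub_mem h2 hx

theorem EG_le_of_zf (o : Herm P) (hn : 4 ≤ finrank F V) (h : ∀ e, P.q e ∈ P.Λ → ZF P H e) : EG P ≤ H := by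
  obtain ⟨l, hl, hl0⟩ := o.exists_lam
  have h1 : ∀ d f, Pair P d f → XLe P H d := fun d f hp => (h d hp.hd).xle hp.hd ((hp.xf_iff' o.nd).2
    (eq_bot_iff.2 fun y hy => by
      by_contra hy0
      have := hp.finrank_W
      obtain ⟨r, hr, h2⟩ := (o.pw hp).exists_sing (by omega) hy0
      refine h2 (B_eq_zero_of_smul_mem (fun a => ?_) hy)
      have h3 := has_two hp.dd (P.self_eq_zero hr) (W_d r) hl
        (h _ (hp.line_sing hr (cj q (a / l))) l hl) (h _ (hp.line_sing hr 0) l hl)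
      rw [sub_zero, cj_cj, mul_div_cancel₀ _ hl0] at h3
      refine mem_XS.2 ⟨_, ?_, h3⟩
      have h4 := P.norm_mem (a / l) l hl
      refine P.Λ.sub_mem (by convert h4 using 1; simp; ring) (P.q_smul_mem hr a)))
  obtain ⟨d, f, hp⟩ := o.exists_pair (by omega)
  exact EG_le_of_xle o.nd hp.hd hp.hf (h1 d f hp) (h1 _ _ hp.symm) (by simp [hp.hdf])

/-- Some point has no transvections in `H`. -/
theorem exists_no_tr (o : Herm P) (hn : 4 ≤ finrank F V) (hne : ¬ EG P ≤ H) :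
    ∃ e, P.q e ∈ P.Λ ∧ e ≠ 0 ∧ ∀ l ∈ P.Λ, Has H (H97.eu P e 0 l) → l = 0 := by
  by_contra hc
  push Not at hc
  refine hne (o.EG_le_of_zf hn fun d hd => ?_)
  by_cases hd0 : d = 0
  · exact hd0 ▸ zf_zero
  obtain ⟨f, h⟩ := MD.exists_pair o.nd hd hd0
  rw [h.zf_iff]
  by_contra hZ
  obtain ⟨κ, hκ, h1⟩ := h.exists_kappa o.exists_sub hZ
  have hq := two_le_q F q
  let A : Wp P d f → AddSubgroup F := fun r =>
    (XS h H).comap (LinearMap.toSpanSingleton F _ r).toAddMonoidHom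
  have hA : ∀ r : Wp P d f, P.q r ∈ P.Λ → r ≠ 0 → q < Nat.card (A r) := fun r hr hr0 => by
    choose l hl hl' hl0 using fun α => hc _ (h.line_sing hr α) (h.line_ne hr0 α)
    obtain ⟨l₀, -, h2⟩ := Finset.exists_lt_card_fiber_of_mul_lt_card_of_maps_to (s := Finset.univ)
      (t := (Finset.univ.filter (· ∈ P.Λ)).erase 0) (f := l) (n := q) (fun α _ => by simp [hl, hl0]) (by
        rw [Finset.card_erase_of_mem (by simp), ← Fintype.card_subtype, ← Nat.card_eq_fintype_card,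
          o.card_lam, Finset.card_univ, ← Nat.card_eq_fintype_card, card_F F q, sq]
        exact Nat.mul_lt_mul_of_pos_right (by omega) (by omega))
    obtain ⟨β, hβ⟩ := Finset.card_pos.1 (lt_of_le_of_lt (Nat.zero_le _) h2)
    have hβ' : l β = l₀ := (Finset.mem_filter.1 hβ).2
    refine h2.trans_le ?_
    rw [← Fintype.card_subtype, ← Nat.card_eq_fintype_card]
    have h3 : ∀ α, l α = l₀ → (l β * cj q (α - β)) • r ∈ XS h H := fun α hα => by
      refine mem_XS.2 ⟨_, ?_,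
        has_two h.dd (P.self_eq_zero hr) (W_d r) (hl β) ((hα.trans hβ'.symm) ▸ hl' α) (hl' β)⟩
      refine P.Λ.sub_mem (P.Λ.sub_mem ?_ ?_) (P.q_smul_mem hr _)
      · convert P.norm_mem α _ (hl β) using 1
        ring
      · convert P.norm_mem β _ (hl β) using 1
        ring
    exact Nat.card_le_card_of_injective (fun α : {x // l x = l₀} => (⟨_, h3 α.1 α.2⟩ : A r))
      fun α α' e => Subtype.ext (sub_left_injective (cj_injective (mul_left_cancel₀ (hl0 β)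
        (congrArg Subtype.val e))))
  have hW := h.finrank_W
  obtain ⟨r, r', hp⟩ := (o.pw h).exists_pair (by omega)
  have h2 := card_annF (A r')
  have h3 : Nat.card (A r) ≤ Nat.card {b // ∀ x ∈ A r', psi F (b * x) = 1} :=
    Nat.card_le_card_of_injective (fun μ => ⟨κ * cj q μ.1, fun x hx => by
      have := mem_YS.1 (h1 _ hx) _ μ.2
      simp only [LinearMap.toAddMonoidHom_coe, LinearMap.toSpanSingleton_apply, Submodule.coe_smul,
        B_smul_left, map_smul, show P.B r r' = 1 from hp.hdf, smul_eq_mul] at this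
      rw [← this]
      congr 1
      ring⟩) fun μ μ' e => Subtype.ext (cj_injective (mul_left_cancel₀ hκ (congrArg Subtype.val e)))
  have h4 := hA r hp.hd hp.d_ne
  have h5 := hA r' hp.hf hp.f_ne
  rw [card_F F q] at h2
  nlinarith

theorem iso_of_two (o : Herm P) (h : Pair P d f) (h2 : (2 : F) = 0) (hZ : ZS h.hd H = ⊥) :
    ∀ x ∈ XS h H, P.B x x = 0 := fun x hx => by
  obtain ⟨c, hc, h1⟩ := mem_XS.1 hx
  have h3 := has_eu_add h.hd (W_d x) (W_d x) h1 h1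
  rw [← two_smul F, h2, zero_smul, show c + c + P.B x x = P.B x x by linear_combination c * h2] at h3
  have h4 : P.B x x ∈ ZS h.hd H := mem_ZS.2 ⟨o.mem.2 (by
    rw [o.cj_self]; linear_combination P.B x x * h2), h3⟩
  rwa [hZ, AddSubgroup.mem_bot] at h4

theorem fixed_of_bot (o : Herm P) (h : Pair P d f) (hZ : ZS h.hd H = ⊥) :
    ∀ x ∈ XS h H, ∀ x' ∈ XS h H, cj q (P.B x x') = P.B x x' := fun x hx x' hx' => by
  obtain ⟨c, hc, h1⟩ := mem_XS.1 hx
  obtain ⟨c', hc', h2⟩ := mem_XS.1 hx'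
  have h3 := comm_mem_ZS h.hd (W_d x) (W_d x') hc hc' h1 h2
  rw [hZ, AddSubgroup.mem_bot, sub_eq_zero] at h3
  rw [← o.symm, h3]

/-- An invariant isotropic subgroup vanishes. -/
theorem eq_bot_of_inv (o : Herm P) (hn : 3 ≤ finrank F V) {X : AddSubgroup V} {κ : F} (hκ : κ ≠ 0)
    (h1 : ∀ x ∈ X, κ • x ∈ annR P X) (h2 : ∀ x ∈ X, ∀ x' ∈ X, cj q (P.B x x') = P.B x x')
    (h3 : (2 : F) = 0 → ∀ x ∈ X, P.B x x = 0)
    (h4 : ∀ y ∈ annR P X, P.B y y ≠ 0 → ∀ r, P.q r ∈ P.Λ → P.B r y = 0 → ∀ l ∈ P.Λ, ∀ x ∈ X,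
      (l * P.B r x) • r ∈ X) {y : V} (hy : y ∈ annR P X) (hyy : P.B y y ≠ 0) : X = ⊥ := by
  by_contra hX
  obtain ⟨x₀, hx₀, hx0⟩ := X.bot_or_exists_ne_zero.resolve_left hX
  by_cases h2' : (2 : F) = 0
  · have h5 := h3 h2'
    have hl : (1 : F) ∈ P.Λ := o.mem.2 (by rw [map_one]; linear_combination h2')
    have hm : ∀ y, P.B y y ≠ 0 → ∀ x ∈ X, x ≠ 0 → x ∉ F ∙ y := fun y hy x hx hx0 hm => by
      obtain ⟨a, rfl⟩ := Submodule.mem_span_singleton.1 hm
      have := h5 _ hx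
      rw [B_smul] at this
      exact mul_ne_zero (norm_ne fun e => hx0 (by simp [e])) hy this
    have key : ∀ y ∈ annR P X, P.B y y ≠ 0 → ∀ x ∈ X, P.B y x = 0 := fun y hy hyy x hx => by
      by_contra h6
      obtain ⟨e, he, hey, hex⟩ := o.exists_sing_perp hn hyy (hm y hyy x hx fun e => h6 (by simp [e]))
      set a := P.B y x / P.B y y with ha
      have h7 : a * P.B y y = P.B y x := div_mul_cancel₀ _ hyy
      have h8 : P.B x y = cj q a * P.B y y := by rw [o.symm, ← h7, map_mul, o.cj_self]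
      obtain ⟨t, ht⟩ := exists_trace_eq (q := q) (c := cj q a * a * P.B y y) (by
        simp only [map_mul, cj_cj, o.cj_self]; ring)
      have h9 := sigma_ne (σ := cj q) hex
      set s := t / cj q (P.B e x) with hs
      have h10 : s * cj q (P.B e x) = t := div_mul_cancel₀ _ h9
      have h11 : cj q s * P.B e x = cj q t := by rw [← h10, map_mul, cj_cj]
      have h12 : P.B (x - a • y + s • e) x = -t := by
        simp only [map_add, map_sub, LinearMap.add_apply, LinearMap.sub_apply, B_smul_left, h5 x hx]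
        linear_combination h11 + ht + cj q a * h7
      have h13 : P.B (x - a • y + s • e) y = 0 := by
        simp only [map_add, map_sub, LinearMap.add_apply, LinearMap.sub_apply, B_smul_left, hey, h8]
        ring
      have h14 : P.B (x - a • y + s • e) e = cj q (P.B e x) := by
        simp only [map_add, map_sub, LinearMap.add_apply, LinearMap.sub_apply, B_smul_left,
          P.eq_zero_symm hey, o.sing.1 he, o.symm e x]
        ring
      have h15 := h2 _ (h4 y hy hyy _ (o.sing.2 (by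
        rw [map_add, map_sub, map_smul, map_smul, h12, h13, h14]
        simp only [smul_eq_mul]
        linear_combination h10)) h13 1 hl x hx) _ (h4 y hy hyy e he hey 1 hl x hx)
      simp only [B_smul_left, map_smul, h12, h14, one_mul, smul_eq_mul, map_mul, map_neg, cj_cj] at h15
      refine mul_ne_zero (mul_ne_zero (norm_ne (q := q) (a := a) fun e => h6 (by rw [← h7, e, zero_mul])) hyy)
        (norm_ne (q := q) hex) ?_
      linear_combination -(cj q (P.B e x) * P.B e x) * ht - h15 + cj q t * cj q (P.B e x) * P.B e x * h2'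
    have h6 := key y hy hyy x₀ hx₀
    obtain ⟨r, hr, hry, hrx⟩ := o.exists_sing_perp hn hyy (hm y hyy x₀ hx₀ hx0)
    have h7 := key _ ((annR P X).add_mem hy (h1 x₀ hx₀)) (by
      simpa [B_smul_left, h6, P.eq_zero_symm h6, h5 x₀ hx₀] using hyy) _ (h4 y hy hyy r hr hry 1 hl x₀ hx₀)
    simp [B_smul_left, P.eq_zero_symm hry, hrx, hκ, B_ne_zero_symm hrx, cj_eq_zero] at h7
  · have key : ∀ y ∈ annR P X, P.B y y ≠ 0 → ∀ x ∈ X, x ∈ F ∙ y := fun y hy hyy x hx => by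
      by_contra h5
      obtain ⟨r, hr, hry, hrx⟩ := o.exists_sing_perp hn hyy h5
      obtain ⟨l, hl, hl0⟩ := o.exists_lam
      have h6 := h2 x hx _ (h4 y hy hyy r hr hry l hl x hx)
      simp only [map_smul, smul_eq_mul, map_mul, o.symm r x, cj_cj, o.cj_lam hl] at h6
      exact mul_ne_zero (mul_ne_zero h2' hl0) (norm_ne (q := q) hrx) (by linear_combination -h6)
    obtain ⟨z, hz1, hz2⟩ := o.exists_perp_nonsing (by omega) (Or.inl hyy)
    obtain ⟨a, rfl⟩ := Submodule.mem_span_singleton.1 (key y hy hyy x₀ hx₀)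
    obtain ⟨b, hb⟩ := Submodule.mem_span_singleton.1 (key z (mem_annR.2 fun x hx => by
      obtain ⟨c, rfl⟩ := Submodule.mem_span_singleton.1 (key y hy hyy x hx)
      simp [B_smul_left, hz1]) hz2 _ hx₀)
    have h5 := congrArg (P.B y) hb
    simp only [map_smul, hz1, smul_eq_mul, mul_zero] at h5
    exact hx0 (by rw [(mul_eq_zero.1 h5.symm).resolve_right hyy, zero_smul])

end Herm

end H20.MD
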