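import Cfsg.Agent.Lib.MinDeg.HermB

/-! Minimal degrees of unitary groups in dimension at least five. -/

set_option autoImplicit false
set_option linter.unusedSectionVars false
set_option linter.unusedSimpArgs false
set_option linter.unusedVariables false

namespace H20.MD

open Module H28 H97 H11.U
open scoped Classical Matrix

universe u v

variable {F : Type u} [Field F] [Fintype F] {q : ℕ} [IsSq F q]
variable {V : Type v} [AddCommGroup V] [Module F V] [FiniteDimensional F V] [Finite V]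
variable {P : PQ F V (cj q)} {d f : V} {H : Subgroup (V ≃ₗ[F] V)}

theorem three_le_of_two_ne (h2 : (2 : F) ≠ 0) : 3 ≤ q := by
  have h1 := two_le_q F q
  by_contra h3
  have h4 := Orth.cast_card_eq_zero (F := F)
  rw [card_F F q, show q = 2 by omega] at h4
  exact pow_ne_zero 2 h2 (by exact_mod_cast h4)

namespace Herm

theorem card_W (h : Pair P d f) : Nat.card (Wp P d f) = (q ^ finrank F (Wp P d f)) ^ 2 := by
  rw [card_submodule, card_F F q, ← pow_mul, ← pow_mul, mul_comm]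

theorem lvl_pair (o : Herm P) (h : Pair P d f) : (lvl P 0).card + 1 + q * Nat.card (Wp P d f) =
    q ^ 2 * ((lvl (Pw P d f) 0).card + 1) + q ^ 3 * Nat.card (Wp P d f) := by
  have h4 : 1 ≤ q ^ 2 := Nat.one_le_pow _ _ (by have := two_le_q F q; omega)
  rw [card_lvl_of_mem (zero_mem _), card_lvl_of_mem (zero_mem _), cnt_pair h, o.card_lam, card_F F q]
  zify [h4]
  ring

theorem ud (o : Herm P) (h : Pair P d f) (hn : 5 ≤ finrank F V) {z : Wp P d f} (hz : P.B z z ≠ 0) {n : ℕ}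
    (hlt : (n + 1) * (q ^ 2 - 1) ≤ (lvl P 0).card) :
    UD q (q ^ finrank F (Wp P d f)) (lvl (Pw P d f) 0).card (cls (Pw P d f) (P.q z)).card n := by
  have hq := two_le_q F q
  have hW := h.finrank_W
  have h1 := (o.pw h).cnt_eq _ rfl
  rw [← card_lvl_of_mem (zero_mem _)] at h1
  have h2 := o.lvl_pair h
  have h3 : 1 ≤ q ^ 2 := Nat.one_le_pow _ _ (by omega)
  have h4 : (0 : ℤ) ≤ (q - 1) * q ^ finrank F (Wp P d f) := mul_nonneg (by omega) (by positivity)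
  rw [card_W h] at h2
  refine ⟨hq, Nat.pow_le_pow_right (by omega) (by omega), card_W h ▸ (o.pw h).card_add hz, ?_, ?_, ?_⟩
  · zify
    push_cast at h1
    rcases neg_one_pow_eq_or ℤ (finrank F (Wp P d f)) with e | e <;> rw [e] at h1 <;> linarith
  · zify
    push_cast at h1
    rcases neg_one_pow_eq_or ℤ (finrank F (Wp P d f)) with e | e <;> rw [e] at h1 <;> linarith
  · zify [h3] at hlt h2 ⊢
    linarith

variable {Ω : Type*} [MulAction (EG P) Ω] [Fintype Ω]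

theorem idx_bot (o : Herm P) (hd : P.q d ∈ P.Λ) (hZ : ZS hd H = ⊥) :
    (ZS hd H).relIndex P.Λ = q := by rw [idx_of_bot hd hZ, o.card_lam]

theorem z_bot (o : Herm P) (h : Pair P d f) (hn : 5 ≤ finrank F V)
    (hlt : (Nat.card Ω + 1) * (q ^ 2 - 1) ≤ (lvl P 0).card) {ω : Ω} (hZ : ZS h.hd (St P ω) = ⊥) :
    Reg P (St P ω) d := by
  have hW := h.finrank_W
  have ow := o.pw h
  obtain ⟨z, hz⟩ := ow.exists_nonsing' (by omega)
  have D := o.ud h hn hz hlt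
  have hZ' : ZS h.hd (St P ω) ≠ P.Λ := fun e => by
    obtain ⟨l, hl, hl0⟩ := o.exists_lam
    rw [← e, hZ] at hl
    exact hl0 hl
  obtain ⟨κ, hκ, h1⟩ := h.exists_kappa o.exists_sub hZ'
  refine h.reg_iff.2 ⟨?_, hZ⟩
  by_contra hX
  obtain ⟨x₀, hx₀, hx0⟩ := (XS h (St P ω)).bot_or_exists_ne_zero.resolve_left hX
  by_cases h2 : ∃ y ∈ YS h (St P ω), P.B y y ≠ 0
  · obtain ⟨y, hy, hyy⟩ := h2
    refine hX (ow.eq_bot_of_inv (by omega) hκ h1 (o.fixed_of_bot h hZ) (fun h2 => o.iso_of_two h h2 hZ)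
      (fun y hy hyy r hr hry l hl x hx => ow.tr_mem' EG_le_LevAut hy ?_ hr hry hl hx) hy hyy)
    by_contra h3
    have h4 : ((2 * q : ℕ) : ℚ) ≤ mult h (Set.univ : Set Ω) y :=
      le_trans (by rw [o.idx_bot _ hZ]; exact_mod_cast Nat.mul_le_mul_right q (not_le.1 h3))
        (beta_le_mult o.nd (closed_univ h) y (ω := ω) trivial)
    by_cases h2 : (2 : F) = 0
    · have h5 := two_class_le (closed_univ h) (ow.disjoint_cls hz) (o.levAut_lvl hn h
        (smul_ne_zero hκ hx0) (by simp [B_smul_left, o.iso_of_two h h2 hZ x₀ hx₀]))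
        (o.levAut_cls (by omega) h hz hyy) (idx_le_mult o.nd (closed_univ h) trivial (h1 x₀ hx₀)) h4
      rw [o.idx_bot _ hZ, Set.ncard_univ] at h5
      exact absurd D.n2 (not_lt.2 h5)
    · have h5 := class_mult_le (closed_univ h) (o.levAut_cls (by omega) h hz hyy) h4
      rw [Set.ncard_univ] at h5
      exact absurd (D.n1 (three_le_of_two_ne h2)) (not_lt.2 h5)
  push Not at h2
  rcases ow.beta_iso (by omega) EG_le_LevAut h2 with ⟨y, h3⟩ | ⟨y, hy, hy0, h3⟩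
  · have h4 := card_le_of_sub h3
    have h5 := card_le_of_kappa hκ h1
    have h6 := h.card_YS_mul o.nd (H := St P ω)
    have h7 := D.hx
    have h8 := D.hq
    rw [card_W h] at h6
    rw [card_F F q] at h4
    have h9 : q ^ 2 < q ^ 3 := Nat.pow_lt_pow_right h8 (by omega)
    nlinarith [Nat.mul_le_mul h4 (h5.trans h4)]
  · have h4 := class_mult_le_frac (closed_univ h) (zero_not_mem_lvl _) (o.levAut_lvl hn h hy0 (h2 y hy))
      (t := (q + 1) * q) (le_trans (by rw [o.idx_bot _ hZ]; exact_mod_cast Nat.mul_le_mul_right q h3)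
        (beta_le_mult o.nd (closed_univ h) y (ω := ω) trivial))
      (fun ω _ => AddSubgroup.card_le_card_addGroup _) Nat.card_pos
    rw [card_W h, Set.ncard_univ] at h4
    exact absurd D.n3 (not_lt.2 h4)

theorem tt_of_nonreg (o : Herm P) (h : Pair P d f) (hn : 5 ≤ finrank F V)
    (hlt : (Nat.card Ω + 1) * (q ^ 2 - 1) ≤ (lvl P 0).card) {ω₀ : Ω} (hr : Reg P (St P ω₀) d) (ω : Ω)
    (hω : ¬ Reg P (St P ω) d) : TT P (St P ω) d := by
  have hW := h.finrank_W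
  have ow := o.pw h
  obtain ⟨z, hz⟩ := ow.exists_nonsing' (by omega)
  have h1 := card_nonreg o.nd h hr
  rw [card_W h, o.card_lam] at h1
  obtain ⟨n1, n2, n3⟩ := (o.ud h hn hz hlt).n5 h1
  have hS := (closed_reg (Ω := Ω) h).compl
  have hb : ∀ y : Wp P d f, y ≠ 0 → ∀ t : ℕ, (t : ℚ) ≤ mult h {ω : Ω | Reg P (St P ω) d}ᶜ y → t ≤ 1 :=
    fun y hy t ht => by
      by_contra h2
      have h3 : ((2 : ℕ) : ℚ) ≤ _ := le_trans (by exact_mod_cast not_le.1 h2) ht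
      by_cases hyy : P.B y y = 0
      · exact absurd n1 (not_lt.2 (class_mult_le hS (o.levAut_lvl hn h hy hyy) h3))
      · exact absurd n2 (not_lt.2 (class_mult_le hS (o.levAut_cls (by omega) h hz hyy) h3))
  have hβ : ∀ y : Wp P d f, y ≠ 0 → (Im (LevAut P d f) (YS h (St P ω)) y).ncard ≤ 1 := fun y hy =>
    le_trans (Nat.le_mul_of_pos_right _ (idx_pos _ _)) (hb y hy _ (beta_le_mult o.nd hS y hω))
  by_cases h2 : YS h (St P ω) = ⊥
  · have h3 := (h.xf_iff' o.nd).2 h2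
    exact tt_of_xle ((h.zf_of_xf o.nd (by omega) o.exists_sub h3).xle h.hd h3)
  obtain ⟨v, hv, hv0⟩ := (YS h (St P ω)).bot_or_exists_ne_zero.resolve_left h2
  have hZ : ZS h.hd (St P ω) = P.Λ := by
    by_contra h3
    have := hb v hv0 _ (idx_le_mult o.nd hS hω hv)
    have := two_le_idx _ h3
    omega
  by_cases h3 : ∃ y ∈ YS h (St P ω), P.B y y ≠ 0
  · obtain ⟨y, hy, hyy⟩ := h3
    refine h.tt_of o.nd hZ (y := y) fun x hx => ?_
    by_contra h4
    obtain ⟨r, h5, h6, h7⟩ := ow.exists_sing_perp (by omega) hyy h4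
    obtain ⟨l, hl, hl0⟩ := o.exists_lam
    have h8 := ow.tr_mem EG_le_LevAut hy (hβ y fun e => hyy (by simp [e])) h5 h6 hl hx
    have h9 : ∀ y ∈ YS h (St P ω), ((1 : ℕ) : ℚ) ≤ mult h {ω : Ω | Reg P (St P ω) d}ᶜ y := fun y hy =>
      le_trans (by exact_mod_cast idx_pos _ _) (idx_le_mult o.nd hS hω hy)
    exact absurd n3 (not_lt.2 (two_class_le hS (ow.disjoint_cls hz) (o.levAut_lvl hn h
      (smul_ne_zero (mul_ne_zero hl0 h7) fun e => h7 (by simp [e]))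
      (ow.sing.1 ((Pw P d f).q_smul_mem h5 _))) (o.levAut_cls (by omega) h hz hyy) (h9 _ h8) (h9 y hy)))
  push Not at h3
  rcases ow.beta_iso (by omega) EG_le_LevAut h3 with ⟨y, h4⟩ | ⟨y, hy, hy0, h4⟩
  · exact h.tt_of o.nd hZ h4
  · have := hβ y hy0
    have := two_le_q F q
    omega

theorem exists_g (o : Herm P) (hn : 4 ≤ finrank F V) (h : Pair P d f) {r r' : Wp P d f}
    (h' : Pair P (r : V) r') : ∃ (g : EG P) (b : F), cj q b * b = 1 ∧ b * b ≠ 1 ∧ Lev d f g (cj q b) ∧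
      g.1 r = b • (r : V) ∧ g.1 r' = b • (r' : V) ∧
      (∀ w : V, P.B d w = 0 → P.B f w = 0 → P.B r w = 0 → P.B r' w = 0 → g.1 w = w) ∧
      ∀ w : Wp P d f, cj q (cj q b) • g.1 w = w → w = 0 := by
  obtain ⟨b, h1, h2, h3⟩ := exists_norm_one_ne F q
  have h4 : b * b ≠ 1 := fun e => (mul_self_eq_one_iff.1 e).elim h2 h3
  obtain ⟨g, hg, g1, g2, g3⟩ := h.exists_two_tor o.iso o.nd hn h' (b := b) (by rwa [mul_comm])
  refine ⟨g, b, by rwa [mul_comm], h4, hg, g1, g2, g3, fun w e => Subtype.ext ?_⟩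
  obtain ⟨s, t, u, eu⟩ := h'.decomp' w
  have h5 : (u : V) = w - s • r - t • r' := by rw [eu]; module
  rw [cj_cj, eu, map_add, map_add, map_smul, map_smul, g1, g2, g3 u (by simp [h5, W_d]) (by simp [h5, W_f])
    (W_d u) (W_f u), show b • (s • b • (r : V) + t • b • (r' : V) + u) =
      (b * b * s) • (r : V) + (b * b * t) • (r' : V) + (b • u : Wp P r r') by
        rw [Submodule.coe_smul]; module] at e
  have h6 := congrArg (P.B r) e
  have h7 := congrArg (P.B r') e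
  rw [h'.B_d_comb, h'.B_d_comb] at h6
  rw [h'.B_f_comb, h'.B_f_comb, o.eps] at h7
  have h8 : t = 0 := (mul_eq_zero.1 (show (b * b - 1) * t = 0 by linear_combination h6)).resolve_left
    (sub_ne_zero.2 h4)
  have h9 : s = 0 := (mul_eq_zero.1 (show (b * b - 1) * s = 0 by linear_combination h7)).resolve_left
    (sub_ne_zero.2 h4)
  simp only [h8, h9, mul_zero, zero_smul, zero_add, Submodule.coe_smul] at e eu
  rw [eu]
  exact (smul_eq_zero.1 (show (b - 1) • (u : V) = 0 by rw [sub_smul, e, one_smul, sub_self])).resolve_left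
    (sub_ne_zero.2 h2)

theorem exists_nonreg (o : Herm P) (h : Pair P d f) {r : Wp P d f} (hr0 : r ≠ 0) {c l : F} (hc : c ∈ P.Λ)
    (hl : l ∈ P.Λ) (hl0 : l ≠ 0) (h1 : AL P H d r c 0 l) : ∃ α : F, ¬ Reg P H (r + α • d) := by
  obtain ⟨α, hα⟩ := exists_norm_eq' (q := q) (c := -(c / l)) (by
    rw [map_neg, map_div₀, o.cj_lam hc, o.cj_lam hl, neg_div_neg_eq])
  refine ⟨α, h.not_reg_line o.nd hr0 hl hl0 ((al_line hl α (-(l * α))).1 (h1.congr ?_ ?_ rfl))⟩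
  · rw [o.eps, map_neg, map_mul, o.cj_lam hl]
    linear_combination l * hα - mul_div_cancel₀ c hl0
  · rw [o.eps, map_neg, map_mul, o.cj_lam hl]
    ring

theorem exists_opp (o : Herm P) (h : Pair P d f) (hn : 4 ≤ finrank F V)
    (hlt : Nat.card Ω < 2 * (Nat.card (Wp P d f) * Nat.card P.Λ)) {ω₀ : Ω} (hr : Reg P (St P ω₀) d) :
    ∃ (ω : Ω) (e s : V), P.q e ∈ P.Λ ∧ P.q s ∈ P.Λ ∧ ¬ Reg P (St P ω) e ∧ ¬ Reg P (St P ω) s ∧
      P.B e s ≠ 0 := by
  have hW := h.finrank_W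
  obtain ⟨r, r', hp⟩ := (o.pw h).exists_pair (by omega)
  have h' : Pair P (r : V) r' := ⟨hp.hd, hp.hf, hp.hdf⟩
  obtain ⟨g, b, hb, -, hg, g1, g2, -, hf⟩ := o.exists_g hn h h'
  obtain ⟨ω, ho, z, hz, hfix⟩ := hg.exists_qfix h hf (h.mem_Orb_of_reg o.nd hlt hr (hr.lev hg))
  have hr' := hr.orb h ho
  obtain ⟨l, hl, hl0⟩ := o.exists_lam
  have key : ∀ r : Wp P d f, P.q r ∈ P.Λ → r ≠ 0 → g.1 r = b • (r : V) →
      ∃ α : F, ¬ Reg P (St P ω) (r + α • d) := fun r h1 h2 h3 => by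
    have hk := lev_tr h1 hl
    obtain ⟨x, hx⟩ := h.mem_Orb_of_reg o.nd hlt hr' (hr'.lev hk)
    have h4 := hg.qfix_mem h hz hfix hk (comm_tr h1 hl h3 hb) hx
    rw [(h.reg_iff.1 hr').1, AddSubgroup.mem_bot, sub_eq_zero] at h4
    obtain ⟨c, hc, h5⟩ := al_of_smul_eq h h1 (a := 0) (by
      rw [zero_smul]; exact hf _ (by rw [← hg.cj_w, h4])) hl hx
    exact o.exists_nonreg h h2 hc hl hl0 (by simpa using h5)
  obtain ⟨α, hα⟩ := key r hp.hd hp.d_ne g1
  obtain ⟨β, hβ⟩ := key r' hp.hf hp.f_ne g2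
  exact ⟨ω, _, _, h.line_sing hp.hd α, h.line_sing hp.hf β, hα, hβ, by
    simp [B_smul_left, W_d, W_d', h.dd, h'.hdf]⟩

theorem rich (o : Herm P) : Rich P := fun e s y y' _ => by
  obtain ⟨l, hl, hl0⟩ := o.exists_lam
  exact ⟨0, l, hl0, valid_zero hl, map_zero _, map_zero _, map_zero _, map_zero _⟩

theorem exists_perp_two (o : Herm P) (hn : 5 ≤ finrank F V) (y y' : V) (hy : P.q y ∉ P.Λ) :
    ∃ u, P.q u ∈ P.Λ ∧ P.B y u = 0 ∧ P.B y' u = 0 ∧ u ∉ Submodule.span F {y, y'} := by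
  have h1 := finrank_le_perp (P := P) (Submodule.span F ({y, y'} : Set V))
  have h2 := finrank_span_pair_le (F := F) y y'
  have h3 : finrank F ↥(Submodule.span F ({y, y'} : Set V) ⊓ perp P (Submodule.span F {y, y'})) <
      finrank F (Submodule.span F ({y, y'} : Set V)) :=
    Submodule.finrank_lt_finrank_of_lt (lt_of_le_of_ne inf_le_left fun e => hy (o.sing.2
      (mem_perp_span.1 (e.ge (Submodule.subset_span (by simp))).2 y (by simp))))
  obtain ⟨u, h4, h5, h6⟩ := o.iso.exists_notMem (perp P (Submodule.span F ({y, y'} : Set V)))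
    (Submodule.span F ({y, y'} : Set V) ⊓ perp P (Submodule.span F {y, y'})) (by omega)
  exact ⟨u, h6, mem_perp_span.1 h4 y (by simp), mem_perp_span.1 h4 y' (by simp), fun h7 => h5 ⟨h7, h4⟩⟩

theorem exists_z_bot (o : Herm P) (h : Pair P d f) (hn : 4 ≤ finrank F V) [Nonempty Ω]
    (hne : ∀ ω : Ω, ¬ EG P ≤ St P ω) : ∃ ω : Ω, ZS h.hd (St P ω) = ⊥ := by
  obtain ⟨ω₀⟩ := ‹Nonempty Ω›
  obtain ⟨e, he, he0, h1⟩ := o.exists_no_tr hn (hne ω₀)
  obtain ⟨ω, h3⟩ := transfer_ex o.iso o.nd hn h.hd h.d_ne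
    (φ := fun H e => ∀ l ∈ P.Λ, Has H (H97.eu P e 0 l) → l = 0) (fun ω e g h1 l hl h2 => h1 l hl (by
      simpa only [inv_smul_smul, EG_inv_apply, map_zero] using has_St_eu g⁻¹ h2)) he he0 h1
  exact ⟨ω, eq_bot_iff.2 fun l hl => h3 l (mem_ZS.1 hl).1 (mem_ZS.1 hl).2⟩

theorem min_five (o : Herm P) (hn : 5 ≤ finrank F V) [Nonempty Ω] (hne : ∀ ω : Ω, ¬ EG P ≤ St P ω)
    {z : V} (hz : P.B z z ≠ 0) : (lvl P 0).card / (q ^ 2 - 1) ≤ Nat.card Ω ∨
      (cls P (P.q z)).card / (q ^ 2 - 1) ≤ Nat.card Ω := by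
  by_cases h1 : (lvl P 0).card / (q ^ 2 - 1) ≤ Nat.card Ω
  · exact Or.inl h1
  have hlt : (Nat.card Ω + 1) * (q ^ 2 - 1) ≤ (lvl P 0).card :=
    (Nat.mul_le_mul_right _ (not_le.1 h1)).trans (Nat.div_mul_le_self _ _)
  obtain ⟨d, f, h⟩ := o.exists_pair (by omega)
  have hW := h.finrank_W
  obtain ⟨ω₀, hZ⟩ := o.exists_z_bot h (by omega) hne
  have hr := o.z_bot h hn hlt hZ
  obtain ⟨z', hz'⟩ := (o.pw h).exists_nonsing' (by omega)
  obtain ⟨ω, e, s, he, hs, h2, h3, hes⟩ := o.exists_opp h (by omega) (by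
    rw [card_W h, o.card_lam]; exact (o.ud h hn hz' hlt).n4) hr
  have hD := dich_of_point o.iso o.nd (by omega) h.hd h.d_ne (o.tt_of_nonreg h hn hlt hr) ω
  obtain ⟨v, hv, h4⟩ := exists_le_stab o.iso o.nd (by omega) (St_le_isom ω) o.rich hD
    (o.exists_perp_two hn) (hne ω) he hs (hD e he (fun e0 => hes (by simp [e0])) h2)
    (hD s hs (fun e0 => hes (by simp [e0])) h3) hes
  have h5 := card_cls_le_of_stab o.iso o.nd (by omega) hv h4
  rw [card_F F q] at h5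
  by_cases h6 : P.B v v = 0
  · rw [cls_eq_lvl_of_mem (o.sing.2 h6)] at h5
    exact Or.inl (div_le_of_le h5)
  · refine Or.inr (div_le_of_le (le_trans (Finset.card_le_card fun x hx => ?_) h5))
    exact (o.mem_cls h6).2 ((o.mem_cls hz).1 hx)

end Herm

theorem herm_uP (n : ℕ) : Herm (uP n F q) := ⟨rfl, uP_nd, rfl, uP_isoK⟩

theorem range_toAut_SU {n : ℕ} (hn : 4 ≤ n) :
    (toAut ((Cfsg.slToMat n F).comp (Cfsg.SU n F q).subtype)).range = EG (uP n F q) := by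
  rw [uP_EG hn]
  ext g
  rw [mem_range_toAut, Subgroup.mem_inf, mem_SLV]
  constructor
  · rintro ⟨h, hh⟩
    refine ⟨PQ.mem_isom_ofHerm.2 fun x y => ?_, ?_⟩
    · have := h.2 y x
      change Cfsg.hermForm n F q (((Cfsg.slToMat n F).comp (Cfsg.SU n F q).subtype) h *ᵥ y)
        (((Cfsg.slToMat n F).comp (Cfsg.SU n F q).subtype) h *ᵥ x) = _ at this
      rw [hh, LinearMap.toMatrix'_mulVec, LinearMap.toMatrix'_mulVec] at this
      exact this
    · rw [← LinearMap.det_toMatrix', ← hh]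
      exact h.1.2
  · rintro ⟨h1, h2⟩
    refine ⟨⟨⟨LinearMap.toMatrix' (g : (Fin n → F) →ₗ[F] (Fin n → F)), by rwa [LinearMap.det_toMatrix']⟩,
      fun x y => ?_⟩, rfl⟩
    change Cfsg.hermForm n F q (LinearMap.toMatrix' (g : (Fin n → F) →ₗ[F] (Fin n → F)) *ᵥ x)
      (LinearMap.toMatrix' (g : (Fin n → F) →ₗ[F] (Fin n → F)) *ᵥ y) = _
    rw [LinearMap.toMatrix'_mulVec, LinearMap.toMatrix'_mulVec]
    exact h1.1 y x

/-- The special unitary group is generated by its Eichler elements. -/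
noncomputable def suEG {n : ℕ} (hn : 4 ≤ n) : Cfsg.SU n F q ≃* EG (uP n F q) :=
  (MonoidHom.ofInjective (toAut_injective (toMat := (Cfsg.slToMat n F).comp (Cfsg.SU n F q).subtype)
    fun _ _ e => Subtype.ext (Subtype.ext e))).trans
    (MulEquiv.subgroupCongr (range_toAut_SU hn))

/-- The counts of isotropic and non-isotropic vectors. -/
theorem Herm.counts (o : Herm P) {m : ℕ} (hn : finrank F V = m + 1) {z : V} (hz : P.B z z ≠ 0) :
    ((lvl P 0).card : ℤ) = (q ^ (m + 1) + (-1) ^ m) * (q ^ m - (-1) ^ m) ∧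
      ((cls P (P.q z)).card : ℤ) = (q - 1) * q ^ m * (q ^ (m + 1) + (-1) ^ m) := by
  have h1 := o.cnt_eq _ hn
  have h2 := o.card_add hz
  have hq := two_le_q F q
  rw [← card_lvl_of_mem (zero_mem _)] at h1
  rw [card_space (F := F), card_F F q, hn] at h2
  zify at h2
  push_cast at h1
  have h3 : ((lvl P 0).card : ℤ) = (q ^ (m + 1) + (-1) ^ m) * (q ^ m - (-1) ^ m) := by
    refine mul_left_cancel₀ (show (q : ℤ) ≠ 0 by omega) ?_
    rcases neg_one_pow_eq_or ℤ m with e | e <;> rw [pow_succ (-1 : ℤ), e] at h1 <;> rw [e] <;>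
      linear_combination h1
  refine ⟨h3, ?_⟩
  rcases neg_one_pow_eq_or ℤ m with e | e <;> rw [e] at h3 ⊢ <;> linear_combination h2 - h3

theorem min_su {n : ℕ} (hn : 5 ≤ n) {c : F} {s : ℕ} (hs : (cls (uP n F q) c).card = s)
    (h0 : 0 < (lvl (uP n F q) c).card) (h1 : s ≤ (lvl (uP n F q) 0).card)
    (h2 : ∀ z, (uP n F q).B z z ≠ 0 → s ≤ (cls (uP n F q) ((uP n F q).q z)).card) :
    (∀ H : Subgroup (Cfsg.PSU n F q), H ≠ ⊤ → s / (q ^ 2 - 1) ≤ H.index) ∧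
      ∃ H : Subgroup (Cfsg.PSU n F q), H.index = s / (q ^ 2 - 1) := by
  have o := herm_uP (F := F) (q := q) n
  have h3 : finrank F (Fin n → F) = n := by simp
  obtain ⟨z, hz⟩ := o.exists_nonsing' (by omega)
  refine finish (suEG (by omega)) (fun Ω _ _ _ hne => ?_)
    (card_F F q ▸ exists_index_point o.iso o.nd (by omega) (by omega) hs h0)
  exact (o.min_five (by omega) hne hz).elim ((Nat.div_le_div_right h1).trans)
    ((Nat.div_le_div_right (h2 z hz)).trans)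

theorem min_su_sing {n : ℕ} (hn : 5 ≤ n) (hq : Odd n ∨ 3 ≤ q) {s : ℕ}
    (hs : (s : ℤ) = (q ^ n - (-1) ^ n) * (q ^ (n - 1) + (-1) ^ n)) :
    (∀ H : Subgroup (Cfsg.PSU n F q), H ≠ ⊤ → s / (q ^ 2 - 1) ≤ H.index) ∧
      ∃ H : Subgroup (Cfsg.PSU n F q), H.index = s / (q ^ 2 - 1) := by
  obtain ⟨m, rfl⟩ : ∃ m, n = m + 1 := ⟨n - 1, by omega⟩
  have o := herm_uP (F := F) (q := q) (m + 1)
  have h3 : finrank F (Fin (m + 1) → F) = m + 1 := by simp
  obtain ⟨z, hz⟩ := o.exists_nonsing' (by omega)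
  obtain ⟨d, f, h⟩ := o.exists_pair (by omega)
  have h1 : (lvl (uP (m + 1) F q) 0).card = s := by
    zify
    rw [(o.counts h3 hz).1, hs, pow_succ (-1 : ℤ), Nat.add_sub_cancel]
    ring
  refine min_su hn (c := 0) (by rw [cls_eq_lvl_of_mem (zero_mem _), h1])
    (Finset.card_pos.2 ⟨d, o.mem_lvl.2 ⟨h.d_ne, h.dd⟩⟩) h1.ge fun z hz => ?_
  rw [← h1]
  zify
  rw [(o.counts h3 hz).1, (o.counts h3 hz).2]
  have h4 := two_le_q F q
  have h5 : (1 : ℤ) ≤ q ^ m := one_le_pow₀ (by omega)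
  have h6 : (1 : ℤ) ≤ q ^ (m + 1) := one_le_pow₀ (by omega)
  rw [mul_comm]
  refine mul_le_mul_of_nonneg_right ?_ (by rcases neg_one_pow_eq_or ℤ m with e | e <;> rw [e] <;> omega)
  rcases hq with hq | hq
  · rw [(Nat.not_odd_iff_even.1 (Nat.odd_add_one.1 hq)).neg_one_pow]
    zify at h4
    nlinarith
  · zify at hq
    rcases neg_one_pow_eq_or ℤ m with e | e <;> rw [e] <;> nlinarith

theorem min_su_odd {n : ℕ} (hn : 5 ≤ n) (hodd : Odd n) :
    (∀ H : Subgroup (Cfsg.PSU n F q), H ≠ ⊤ → (q ^ n + 1) * (q ^ (n - 1) - 1) / (q ^ 2 - 1) ≤ H.index) ∧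
      ∃ H : Subgroup (Cfsg.PSU n F q), H.index = (q ^ n + 1) * (q ^ (n - 1) - 1) / (q ^ 2 - 1) := by
  have h1 : 1 ≤ q ^ (n - 1) := Nat.one_le_pow _ _ (by have := two_le_q F q; omega)
  exact min_su_sing hn (Or.inl hodd) (by rw [hodd.neg_one_pow]; push_cast [h1]; ring)

theorem min_su_even {n : ℕ} (hn : 5 ≤ n) (hq : 3 ≤ q) (he : Even n) :
    (∀ H : Subgroup (Cfsg.PSU n F q), H ≠ ⊤ → (q ^ n - 1) * (q ^ (n - 1) + 1) / (q ^ 2 - 1) ≤ H.index) ∧
      ∃ H : Subgroup (Cfsg.PSU n F q), H.index = (q ^ n - 1) * (q ^ (n - 1) + 1) / (q ^ 2 - 1) := by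
  have h1 : 1 ≤ q ^ n := Nat.one_le_pow _ _ (by omega)
  exact min_su_sing hn (Or.inr hq) (by rw [he.neg_one_pow]; push_cast [h1]; ring)

theorem min_su_two [IsSq F 2] {n : ℕ} (hn : 5 ≤ n) (he : Even n) :
    (∀ H : Subgroup (Cfsg.PSU n F 2), H ≠ ⊤ → 2 ^ (n - 1) * (2 ^ n - 1) / 3 ≤ H.index) ∧
      ∃ H : Subgroup (Cfsg.PSU n F 2), H.index = 2 ^ (n - 1) * (2 ^ n - 1) / 3 := by
  obtain ⟨m, rfl⟩ : ∃ m, n = m + 1 := ⟨n - 1, by omega⟩
  have o := herm_uP (F := F) (q := 2) (m + 1)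
  have h3 : finrank F (Fin (m + 1) → F) = m + 1 := by simp
  obtain ⟨z, hz⟩ := o.exists_nonsing' (by omega)
  have h4 : Odd m := Nat.not_even_iff_odd.1 (Nat.even_add_one.1 he)
  have h5 : 1 ≤ 2 ^ (m + 1) := Nat.one_le_two_pow
  have h1 : ∀ z, (uP (m + 1) F 2).B z z ≠ 0 →
      (cls (uP (m + 1) F 2) ((uP (m + 1) F 2).q z)).card = 2 ^ m * (2 ^ (m + 1) - 1) := fun z hz => by
    zify [h5]
    rw [(o.counts h3 hz).2, h4.neg_one_pow]
    push_cast
    ring
  refine min_su (q := 2) hn (h1 z hz) (Finset.card_pos.2 ⟨z, self_mem_lvl fun e => hz (by simp [e])⟩) ?_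
    fun z hz => (h1 z hz).ge
  have h6 : (1 : ℤ) ≤ 2 ^ (m + 1) := by exact_mod_cast h5
  zify [h5]
  rw [(o.counts h3 hz).1, h4.neg_one_pow]
  push_cast
  nlinarith

theorem force_eq_hermC : True := by
  have := @suEG.eq_1.{0}
  have := @suEG.eq_def.{0}
  trivial

end H20.MD
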