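import Cfsg.Agent.Lib.MinDeg.HermC

/-! The minimal degree of the four-dimensional unitary groups. -/

set_option autoImplicit false
set_option linter.unusedSectionVars false
set_option linter.unusedSimpArgs false
set_option linter.unusedVariables false

namespace H20.MD

open Module H28 H97 H11.U
open scoped Classical

universe u v

variable {F : Type u} [Field F] [Fintype F] {q : ℕ} [IsSq F q]
variable {V : Type v} [AddCommGroup V] [Module F V] [FiniteDimensional F V] [Finite V]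
variable {P : PQ F V (cj q)} {d f : V} {H : Subgroup (V ≃ₗ[F] V)}

theorem card_le_of_cover {C D : Finset V} (h : ∀ y ∈ C, ∃ a : F, a ≠ 0 ∧ ∃ v ∈ D, y = a • v) :
    C.card ≤ D.card * (Nat.card F - 1) := by
  have h1 : C.card ≤ (D ×ˢ (Finset.univ.erase (0 : F))).card :=
    Finset.card_le_card_of_surjOn (fun p => p.2 • p.1) fun y hy => by
      obtain ⟨a, h1, v, h2, rfl⟩ := h y hy
      exact ⟨(v, a), by simp [h1, h2], rfl⟩
  rwa [Finset.card_product, Finset.card_erase_of_mem (Finset.mem_univ _), Finset.card_univ,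
    ← Nat.card_eq_fintype_card] at h1

namespace Herm

theorem card_sq_le (o : Herm P) {Y : AddSubgroup V} (hY : ∀ v ∈ Y, P.B v v = 0) :
    Nat.card Y * Nat.card Y ≤ Nat.card V := by
  obtain ⟨t, ht⟩ := exists_trace_eq (q := q) (c := (1 : F)) (map_one _)
  obtain ⟨κ, h1, h2⟩ := exists_psi_sep P.Λ (l := t) fun h => one_ne_zero (ht.symm.trans (o.mem.1 h))
  rw [← card_annR o.nd Y]
  refine Nat.mul_le_mul_right _ (card_le_of_kappa (κ := κ) (fun e => h2 (by simp [e])) fun y hy =>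
    mem_annR.2 fun x hx => ?_)
  have h3 := hY _ (Y.add_mem hx hy)
  simp only [map_add, LinearMap.add_apply, hY x hx, hY y hy, o.symm x y] at h3
  simpa using h1 (P.B x y) (o.mem.2 (by linear_combination h3))

theorem lvl_two (o : Herm P) (hn : finrank F V = 2) : (lvl P 0).card = (q + 1) * (q ^ 2 - 1) := by
  obtain ⟨z, hz⟩ := o.exists_nonsing' (by omega)
  have h4 : 1 ≤ q ^ 2 := Nat.one_le_pow _ _ (by have := two_le_q F q; omega)
  zify [h4]
  rw [(o.counts (m := 1) hn hz).1]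
  ring

theorem cls_two (o : Herm P) (hn : finrank F V = 2) {z : V} (hz : P.B z z ≠ 0) :
    (cls P (P.q z)).card = (q - 1) * q * (q ^ 2 - 1) := by
  have h3 := two_le_q F q
  have h4 : 1 ≤ q ^ 2 := Nat.one_le_pow _ _ (by omega)
  zify [h4, show 1 ≤ q by omega]
  rw [(o.counts (m := 1) hn hz).2]
  ring

theorem exists_point_two (o : Herm P) (hn : finrank F V = 2) {v : V} (hv : v ∈ lvl P 0) {y : V}
    (hy : y ∈ lvl P 0) : ∃ a : F, a ≠ 0 ∧ ∃ γ ∈ EG P, y = a • γ v := by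
  obtain ⟨l, hl, hl0⟩ := o.exists_lam
  exact exists_EG_two o.nd hn hl hl0 (o.sing.2 (o.mem_lvl.1 hv).2) (o.mem_lvl.1 hv).1
    (o.sing.2 (o.mem_lvl.1 hy).2) (o.mem_lvl.1 hy).1

theorem smul_of_four (hn : finrank F V = 4) (h : Pair P d f) {r r' : Wp P d f}
    (hp : Pair (Pw P d f) r r') {g : EG P} {b : F} (g1 : g.1 r = b • (r : V)) (g2 : g.1 r' = b • (r' : V))
    (w : Wp P d f) : g.1 w = b • (w : V) := by
  obtain ⟨s, t, u, rfl⟩ := hp.decomp' w
  have h1 := h.finrank_W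
  have h2 := hp.finrank_W
  have : Subsingleton (Wp (Pw P d f) r r') := (finrank_zero_iff (R := F)).1 (by omega)
  simp only [Subsingleton.elim u 0, Submodule.coe_zero, add_zero, Submodule.coe_add, Submodule.coe_smul,
    map_add, map_smul, g1, g2]
  module

theorem levAut_two (o : Herm P) (h2 : (2 : F) = 0) (hn : finrank F V = 4) (h : Pair P d f) {y : Wp P d f}
    (hy : y ∈ lvl (Pw P d f) 0) : ∀ y' ∈ lvl (Pw P d f) 0, ∃ γ ∈ LevAut P d f, γ y = y' := by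
  intro y' hy'
  have hW := h.finrank_W
  obtain ⟨a, ha, γ, hγ, rfl⟩ := (o.pw h).exists_point_two (by omega) hy hy'
  have : CharP F 2 := CharTwo.of_one_ne_zero_of_two_eq_zero one_ne_zero h2
  obtain ⟨u, rfl⟩ := surjective_frobenius F 2 a
  obtain ⟨v, rfl⟩ := surjective_frobenius F 2 u
  simp only [frobenius_def] at ha ⊢
  have hv : v ≠ 0 := fun e => ha (by simp [e])
  have hσ := sigma_ne (σ := cj q) hv
  obtain ⟨r, r', hp⟩ := (o.pw h).exists_pair (by omega)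
  obtain ⟨g, hg, g1, g2, -⟩ := h.exists_two_tor o.iso o.nd hn.ge (r := r) (r' := r') ⟨hp.hd, hp.hf, hp.hdf⟩
    (b := v / cj q v) (by rw [map_div₀, cj_cj]; field_simp)
  obtain ⟨t, ht, hw⟩ := h.exists_tor o.iso o.nd hn.ge (a := (v ^ 2)⁻¹) (by simp [hv])
  refine ⟨ht.rho * hg.rho * γ, (LevAut P d f).mul_mem ((LevAut P d f).mul_mem ht.rho_mem hg.rho_mem)
    (EG_le_LevAut hγ), Subtype.ext ?_⟩
  rw [le_mul_apply, le_mul_apply, ht.rho_apply, hw, hg.rho_apply, smul_of_four hn h hp g1 g2,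
    Submodule.coe_smul, smul_smul, smul_smul, map_div₀, cj_cj, map_inv₀, map_pow]
  congr 1
  field_simp

variable {Ω : Type*} [MulAction (EG P) Ω] [Fintype Ω]

theorem four_iso (o : Herm P) (hn : finrank F V = 4) (h : Pair P d f)
    (hlt : Nat.card Ω < (q + 1) * (q ^ 3 + 1)) {ω : Ω} (hZ : ZS h.hd (St P ω) = ⊥) :
    (∀ y ∈ YS h (St P ω), P.B y y = 0) ∧ Nat.card (YS h (St P ω)) = q ^ 2 ∧
      ∃ κ : F, κ ≠ 0 ∧ ∀ x, x ∈ XS h (St P ω) ↔ κ • x ∈ YS h (St P ω) := by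
  have hW := h.finrank_W
  have ow := o.pw h
  have hq := two_le_q F q
  have hM : Nat.card (Wp P d f) = q ^ 2 * q ^ 2 := by
    rw [card_submodule, card_F F q, show finrank F (Wp P d f) = 2 by omega, sq]
  obtain ⟨κ, hκ, h1⟩ := h.exists_kappa o.exists_sub (H := St P ω) fun e => by
    obtain ⟨l, hl, hl0⟩ := o.exists_lam
    rw [← e, hZ] at hl
    exact hl0 hl
  have h3 := h.card_YS_mul o.nd (H := St P ω)
  have h4 : ∀ y ∈ YS h (St P ω), P.B y y = 0 := fun y hy => by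
    by_contra hyy
    have h4 := idx_le_mult o.nd (closed_univ h) trivial hy
    rw [o.idx_bot _ hZ] at h4
    obtain ⟨t, rfl⟩ : ∃ t, q = t + 2 := ⟨q - 2, by omega⟩
    have e1 : (t + 2) ^ 2 - 1 = (t + 1) * (t + 3) := Nat.sub_eq_of_eq_add (by ring)
    by_cases h2 : (2 : F) = 0
    · obtain ⟨x₀, hx₀, hx0⟩ := (XS h (St P ω)).bot_or_exists_ne_zero.resolve_left fun e => by
        have h5 := card_Orb_le (closed_univ h) (ω := ω) trivial
        rw [card_Orb o.nd, o.idx_bot _ hZ, Set.ncard_univ] at h5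
        rw [e, AddSubgroup.card_bot, hM, mul_one] at h3
        rw [h3] at h5
        nlinarith [Nat.zero_le (t ^ 5), Nat.zero_le (t ^ 4), Nat.zero_le (t ^ 3)]
      have h5 := idx_le_mult o.nd (closed_univ h) trivial (h1 x₀ hx₀)
      rw [o.idx_bot _ hZ] at h5
      have h6 := two_class_le (closed_univ h) (ow.disjoint_cls hyy) (o.levAut_two h2 hn h (ow.mem_lvl.2
        ⟨smul_ne_zero hκ hx0, by simp [Pw_B, B_smul_left, o.iso_of_two h h2 hZ x₀ hx₀]⟩))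
        (o.levAut_cls hn.ge h hyy hyy) h5 h4
      rw [ow.lvl_two (by omega), ow.cls_two (by omega) hyy,
        Set.ncard_univ, e1, show t + 2 - 1 = t + 1 from rfl] at h6
      nlinarith [Nat.zero_le (t ^ 5), Nat.zero_le (t ^ 4), Nat.zero_le (t ^ 3)]
    · have h6 := class_mult_le (closed_univ h) (o.levAut_cls hn.ge h hyy hyy) h4
      rw [show P.q y = (Pw P d f).q y from rfl, ow.cls_two (by omega) hyy,
        Set.ncard_univ, e1, show t + 2 - 1 = t + 1 from rfl] at h6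
      obtain ⟨t, rfl⟩ : ∃ s, t = s + 1 := ⟨t - 1, by have := three_le_of_two_ne (q := t + 2) h2; omega⟩
      nlinarith [Nat.zero_le (t ^ 5), Nat.zero_le (t ^ 4), Nat.zero_le (t ^ 3)]
  have h5 := ow.card_sq_le h4
  have h6 := card_le_of_kappa hκ h1
  rw [hM] at h3 h5
  have h7 : Nat.card (YS h (St P ω)) = q ^ 2 :=
    le_antisymm (Nat.mul_self_le_mul_self_iff.1 h5) (Nat.mul_self_le_mul_self_iff.1 (by nlinarith))
  refine ⟨h4, h7, κ, hκ, fun x => ⟨h1 x, fun hx => ?_⟩⟩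
  rw [h7] at h3
  obtain ⟨x', e⟩ := (Nat.bijective_iff_injective_and_card (fun x : XS h (St P ω) =>
    (⟨κ • x.1, h1 x.1 x.2⟩ : YS h (St P ω)))).2 ⟨fun x y e => Subtype.ext (smul_right_injective _ hκ
      (congrArg Subtype.val e)), by rw [h7, Nat.eq_of_mul_eq_mul_left (by positivity) h3]⟩ |>.2 ⟨_, hx⟩
  rw [← smul_right_injective _ hκ (congrArg Subtype.val e)]
  exact x'.2

/-- The two possible types of points without transvections. -/
theorem four_types (o : Herm P) (hn : finrank F V = 4) (h : Pair P d f)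
    (hlt : Nat.card Ω < (q + 1) * (q ^ 3 + 1)) {ω : Ω} (hZ : ZS h.hd (St P ω) = ⊥) :
    (∃ y, y ∈ lvl (Pw P d f) 0 ∧ YS h (St P ω) = (F ∙ y).toAddSubgroup) ∨
      ((2 : F) = 0 ∧ ∃ y ∈ YS h (St P ω), ∃ x ∈ YS h (St P ω), P.B y x ≠ 0) := by
  obtain ⟨h1, h2, κ, hκ, h3⟩ := o.four_iso hn h hlt hZ
  have hW := h.finrank_W
  rcases Orth.sub_or_pair (F := F) (YS h (St P ω)) with ⟨y, h4⟩ | ⟨x, hx, y, hy, hy0, hxy⟩
  · obtain ⟨h5, h6⟩ := eq_span_of_card h4 (by rw [h2, card_F F q])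
    exact Or.inl ⟨y, (o.pw h).mem_lvl.2 ⟨h5, h1 y (by rw [h6]; exact Submodule.mem_span_singleton_self y)⟩, h6⟩
  have h4 : P.B y x ≠ 0 := fun e => hxy (mem_span_of_perp_two (h.nd o.nd) (by omega) hy0 (h1 y hy) e)
  refine Or.inr ⟨?_, y, hy, x, hx, h4⟩
  have h5 := o.fixed_of_bot h hZ (κ⁻¹ • y) ((h3 _).2 (by simpa [smul_smul, hκ] using hy)) (κ⁻¹ • x)
    ((h3 _).2 (by simpa [smul_smul, hκ] using hx))
  have h6 := h1 _ ((YS h (St P ω)).add_mem hy hx)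
  simp only [Submodule.coe_add, map_add, LinearMap.add_apply, h1 x hx, h1 y hy, o.symm y x] at h6
  simp only [Submodule.coe_smul, B_smul_left, map_smul, smul_eq_mul, map_mul, cj_cj] at h5
  refine (mul_eq_zero.1 ?_).resolve_right (mul_ne_zero (norm_ne (q := q) (inv_ne_zero hκ)) h4)
  linear_combination cj q κ⁻¹ * κ⁻¹ * h6 - h5

theorem four_mult (o : Herm P) (hn : finrank F V = 4) (h : Pair P d f)
    (hlt : Nat.card Ω < (q + 1) * (q ^ 3 + 1)) {S : Set Ω} (hS : Closed h S) {ω : Ω} (hω : ω ∈ S)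
    (hZ : ZS h.hd (St P ω) = ⊥) : ∀ y ∈ lvl (Pw P d f) 0, (q : ℚ) ≤ mult h S y := fun y hy => by
  have hW := h.finrank_W
  refine le_trans ?_ (beta_le_mult o.nd hS y hω)
  rw [o.idx_bot _ hZ]
  refine Nat.cast_le.2 (Nat.le_mul_of_pos_left _ ?_)
  rcases o.four_types hn h hlt hZ with ⟨v, hv, h1⟩ | ⟨h2, v, hv, x, -, h1⟩
  · obtain ⟨a, -, γ, hγ, rfl⟩ := (o.pw h).exists_point_two (by omega) hv hy
    rw [← map_smul, ncard_Im_apply (EG_le_LevAut hγ), h1]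
    exact one_le_ncard_Im (Submodule.smul_mem _ a (Submodule.mem_span_singleton_self v))
  · obtain ⟨γ, hγ, rfl⟩ := o.levAut_two h2 hn h ((o.pw h).mem_lvl.2 ⟨fun e => h1 (by simp [e]),
      (o.four_iso hn h hlt hZ).1 v hv⟩) y hy
    rw [ncard_Im_apply hγ]
    exact one_le_ncard_Im hv

theorem four_xle (o : Herm P) (hn : finrank F V = 4) (h : Pair P d f)
    (hlt : Nat.card Ω < (q + 1) * (q ^ 3 + 1)) {ω : Ω} (hZ : ZS h.hd (St P ω) = ⊥) {ω' : Ω}
    (hZ' : ZS h.hd (St P ω') ≠ ⊥) : XLe P (St P ω') d := by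
  have hW := h.finrank_W
  have ow := o.pw h
  have hq := two_le_q F q
  have hS := closed_card (Ω := Ω) h fun a b => a = 1 ∧ b = q ^ 2
  have h1 := sum_mult_le_frac h _ (lvl (Pw P d f) 0) (zero_not_mem_lvl _) (M := q ^ 2)
    (fun ω (hω : ω ∈ {ω : Ω | Nat.card (ZS h.hd (St P ω)) = 1 ∧ Nat.card (YS h (St P ω)) = q ^ 2}) =>
      hω.2.le) (by positivity)
  have h2 := Finset.sum_le_sum (o.four_mult hn h hlt hS
    ⟨by rw [hZ, AddSubgroup.card_bot], (o.four_iso hn h hlt hZ).2.1⟩ hZ)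
  have h0 : 1 ≤ q ^ 2 := Nat.one_le_pow _ _ (by omega)
  rw [Finset.sum_const, nsmul_eq_mul, ow.lvl_two (by omega)] at h2
  have h3 := (mul_le_mul_of_nonneg_left h2 (Nat.cast_nonneg _)).trans h1
  rw [← Nat.cast_one (R := ℚ), ← Nat.cast_sub h0] at h3
  have h4 : q ^ 2 * ((q + 1) * (q ^ 2 - 1) * q) ≤ (q ^ 2 - 1) *
      {ω : Ω | Nat.card (ZS h.hd (St P ω)) = 1 ∧ Nat.card (YS h (St P ω)) = q ^ 2}.ncard := by
    exact_mod_cast h3
  rw [show q ^ 2 * ((q + 1) * (q ^ 2 - 1) * q) = (q ^ 2 - 1) * (q ^ 2 * ((q + 1) * q)) by ring] at h4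
  have h5 := Nat.le_of_mul_le_mul_left h4 (by nlinarith [Nat.sub_add_cancel h0])
  have h6 := ncard_add_compl {ω : Ω | Nat.card (ZS h.hd (St P ω)) = 1 ∧ Nat.card (YS h (St P ω)) = q ^ 2}
  have h7 : {ω : Ω | Nat.card (ZS h.hd (St P ω)) = 1 ∧ Nat.card (YS h (St P ω)) = q ^ 2}ᶜ.ncard ≤ q := by
    nlinarith
  have h8 : XF P (St P ω') d := (h.xf_iff' o.nd).2 (by
    by_contra h8
    obtain ⟨y, hy, hy0⟩ := (YS h (St P ω')).bot_or_exists_ne_zero.resolve_left h8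
    have h9 : ((1 : ℕ) : ℚ) ≤ _ := le_trans (by exact_mod_cast idx_pos _ _) (idx_le_mult o.nd hS.compl
      (fun h9 => hZ' (AddSubgroup.card_eq_one.1 h9.1)) hy)
    by_cases hyy : P.B y y = 0
    · have h10 := class_mult_le hS.compl (C := (lvl (Pw P d f) 0).filter
        fun y' => ∃ γ ∈ LevAut P d f, γ y = y') (fun y' hy' => (Finset.mem_filter.1 hy').2) h9
      have h11 := card_le_of_cover (F := F) (C := lvl (Pw P d f) 0) (D := (lvl (Pw P d f) 0).filter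
        fun y' => ∃ γ ∈ LevAut P d f, γ y = y') fun y' hy' => by
          obtain ⟨a, ha, γ, hγ, rfl⟩ := ow.exists_point_two (by omega) (ow.mem_lvl.2 ⟨hy0, hyy⟩) hy'
          exact ⟨a, ha, γ y, Finset.mem_filter.2 ⟨ow.mem_lvl.2 ⟨by simpa using hy0,
            ((EG_le_isom hγ).1 y y).trans hyy⟩, γ, EG_le_LevAut hγ, rfl⟩, rfl⟩
      rw [ow.lvl_two (by omega), card_F F q] at h11
      have := Nat.le_of_mul_le_mul_right h11 (by nlinarith [Nat.sub_add_cancel h0])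
      omega
    · have h10 := class_mult_le hS.compl (o.levAut_cls hn.ge h hyy hyy) h9
      rw [show P.q y = (Pw P d f).q y from rfl, ow.cls_two (by omega) hyy] at h10
      have h11 : 1 * q * 3 ≤ (q - 1) * q * (q ^ 2 - 1) :=
        Nat.mul_le_mul (Nat.mul_le_mul_right _ (by omega)) (by nlinarith [Nat.sub_add_cancel h0])
      omega)
  exact (h.zf_of_xf o.nd (by omega) o.exists_sub h8).xle h.hd h8

theorem four_uniq (o : Herm P) (hn : finrank F V = 4) (h : Pair P d f)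
    (hlt : Nat.card Ω < (q + 1) * (q ^ 3 + 1)) (hZ : ∀ ω : Ω, ZS h.hd (St P ω) = ⊥) {ω ω' : Ω}
    {y : Wp P d f} (hy0 : y ≠ 0) (hy : y ∈ YS h (St P ω)) (hy' : y ∈ YS h (St P ω')) : ω' ∈ Orb h ω := by
  by_contra hne
  have hW := h.finrank_W
  have ow := o.pw h
  have hq := two_le_q F q
  have h0 : 1 ≤ q ^ 2 := Nat.one_le_pow _ _ (by omega)
  have h1 := sum_mult_le_frac h (Set.univ : Set Ω) (lvl (Pw P d f) 0) (zero_not_mem_lvl _) (M := q ^ 2)
    (fun ω _ => (o.four_iso hn h hlt (hZ ω)).2.1.le) (by positivity)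
  have h2 := two_idx_le_mult o.nd (closed_univ h) trivial hy trivial hy' hne
  have h3 : y ∈ lvl (Pw P d f) 0 := ow.mem_lvl.2 ⟨hy0, (o.four_iso hn h hlt (hZ ω)).1 y hy⟩
  have h4 := Finset.sum_le_sum fun v (hv : v ∈ (lvl (Pw P d f) 0).erase y) =>
    o.four_mult hn h hlt (closed_univ h) (ω := ω) trivial (hZ ω) v (Finset.mem_of_mem_erase hv)
  have h5 := Finset.card_erase_add_one h3
  rw [o.idx_bot _ (hZ ω), o.idx_bot _ (hZ ω')] at h2
  rw [Finset.sum_const, nsmul_eq_mul] at h4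
  rw [← Finset.add_sum_erase _ _ h3, Set.ncard_univ, ← Nat.cast_one (R := ℚ), ← Nat.cast_sub h0] at h1
  have h6 : q ^ 2 * (q + q + ((lvl (Pw P d f) 0).erase y).card * q) ≤ (q ^ 2 - 1) * Nat.card Ω := by
    exact_mod_cast (mul_le_mul_of_nonneg_left (add_le_add h2 h4) (Nat.cast_nonneg _)).trans h1
  rw [ow.lvl_two (by omega)] at h5
  have h7 := h6.trans (Nat.mul_le_mul_left _ (Nat.le_sub_one_of_lt hlt))
  rw [show (q + 1) * (q ^ 3 + 1) - 1 = q ^ 4 + q ^ 3 + q from Nat.sub_eq_of_eq_add (by ring)] at h7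
  zify [h0] at h5 h7
  rw [eq_sub_of_add_eq h5] at h7
  nlinarith

theorem four_line (o : Herm P) (hn : finrank F V = 4) (h : Pair P d f)
    (hlt : Nat.card Ω < (q + 1) * (q ^ 3 + 1))
    (hT : ∀ (ω : Ω) e, P.q e ∈ P.Λ → e ≠ 0 → ∀ l ∈ P.Λ, Has (St P ω) (H97.eu P e 0 l) → l = 0) {ω : Ω}
    {r : Wp P d f} (hr : r ∈ lvl (Pw P d f) 0) (hY : YS h (St P ω) = (F ∙ r).toAddSubgroup) : False := by
  have hZ : ∀ ω : Ω, ZS h.hd (St P ω) = ⊥ := fun ω =>
    eq_bot_iff.2 fun l hl => hT ω d h.hd h.d_ne l (mem_ZS.1 hl).1 (mem_ZS.1 hl).2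
  obtain ⟨hr0, hrr⟩ := (o.pw h).mem_lvl.1 hr
  have hrs : P.q r ∈ P.Λ := o.sing.2 hrr
  obtain ⟨r', hp⟩ := MD.exists_pair (h.nd o.nd) (d := r) hrs hr0
  obtain ⟨g, b, hb, hb1, hg, g1, g2, -, hf⟩ := o.exists_g hn.ge h (r := r) (r' := r') ⟨hp.hd, hp.hf, hp.hdf⟩
  have hb0 : b ≠ 0 := fun e => by simp [e] at hb
  have hm : ∀ a : F, a • r ∈ YS h (St P ω) := fun a => by
    rw [hY]; exact Submodule.smul_mem _ a (Submodule.mem_span_singleton_self r)
  obtain ⟨ω', ho, z, hz, hfix⟩ := hg.exists_qfix h hf (o.four_uniq hn h hlt hZ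
    (smul_ne_zero (mul_ne_zero hb0 hb0) hr0) (hm _) (hg.mem_YS (by simpa using hm 1) (by
      rw [g1, Submodule.coe_smul, smul_smul, ← mul_assoc, hb, one_mul])))
  have hY' : YS h (St P ω') = (F ∙ r).toAddSubgroup := by rw [YS_eq_of_Orb ho, hY]
  obtain ⟨-, -, κ, hκ, hX⟩ := o.four_iso hn h hlt (hZ ω')
  have h1 : ∀ a : F, AL P (St P ω') d r 0 a 0 := fun a => by
    obtain ⟨c, hc, h1⟩ := mem_XS.1 ((hX ((a / (b * b - 1)) • r)).2 (by
      rw [hY', smul_smul]; exact Submodule.smul_mem _ _ (Submodule.mem_span_singleton_self r)))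
    have h2 := hg.qfix_XS h hz hfix hc h1
    rw [cj_cj, Submodule.coe_smul, map_smul, g1, smul_smul, smul_smul, mul_comm b (cj q b), hb, one_mul] at h2
    refine ((al_left.2 h2).sub h.dd hrr (W_d r) (al_left.2 h1)).congr (sub_self _) ?_ (sub_self _)
    linear_combination mul_div_cancel₀ a (sub_ne_zero.2 hb1)
  obtain ⟨l, hl, hl0⟩ := o.exists_lam
  have hk := lev_tr hrs hl
  have h2 : r ∈ YS h (St P ω') := by rw [hY']; exact Submodule.mem_span_singleton_self r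
  obtain ⟨x, hx⟩ := o.four_uniq hn h hlt hZ hr0 h2 (hk.mem_YS h2 (by
    rw [euG_apply, eu_fix _ (P.self_eq_zero hrs) (by simp), one_smul]))
  have h3 := (hX _).1 (hg.qfix_mem h hz hfix hk (comm_tr hrs hl g1 hb) hx)
  rw [hY'] at h3
  obtain ⟨s, hs⟩ := Submodule.mem_span_singleton.1 h3
  have h4 : x.w = (s / (κ * (b * b - 1))) • r := Subtype.ext (by
    have h4 := congrArg Subtype.val hs
    simp only [Submodule.coe_smul, Submodule.coe_sub, hg.cj_w, cj_cj, smul_of_four hn h hp g1 g2] at h4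
    refine smul_right_injective V (mul_ne_zero hκ (sub_ne_zero.2 hb1)) ?_
    simp only [Submodule.coe_smul, smul_smul, mul_div_cancel₀ _ (mul_ne_zero hκ (sub_ne_zero.2 hb1))]
    linear_combination (norm := module) -h4)
  obtain ⟨c, hc, h5⟩ := al_of_smul_eq h hrs h4 hl hx
  obtain ⟨α, hα⟩ := exists_norm_eq' (q := q) (c := c / l) (by
    rw [map_div₀, o.cj_lam hc, o.cj_lam hl, neg_div_neg_eq])
  exact hl0 (hT ω' _ (h.line_sing hrs α) (h.line_ne hr0 α) l hl ((al_tr hl α).1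
    ((h5.add h.dd hrr (W_d r) (h1 (s / (κ * (b * b - 1)) + l * cj q α))).congr
      (by linear_combination -l * hα - mul_div_cancel₀ c hl0) (by ring) (add_zero l))))

theorem four_baer (o : Herm P) (hn : finrank F V = 4) (h : Pair P d f)
    (hlt : Nat.card Ω < (q + 1) * (q ^ 3 + 1)) (h2 : (2 : F) = 0) (hq : q ≠ 2)
    (hT : ∀ (ω : Ω) e, P.q e ∈ P.Λ → e ≠ 0 → ∀ l ∈ P.Λ, Has (St P ω) (H97.eu P e 0 l) → l = 0) {ω : Ω}
    {y x : Wp P d f} (hy : y ∈ YS h (St P ω)) (hx : x ∈ YS h (St P ω)) (hyx : P.B y x ≠ 0) : False := by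
  have hZ : ∀ ω : Ω, ZS h.hd (St P ω) = ⊥ := fun ω =>
    eq_bot_iff.2 fun l hl => hT ω d h.hd h.d_ne l (mem_ZS.1 hl).1 (mem_ZS.1 hl).2
  have h1 := (o.four_iso hn h hlt (hZ ω)).1
  have hy0 : y ≠ 0 := fun e => hyx (by simp [e])
  have hys : P.q y ∈ P.Λ := o.sing.2 (h1 y hy)
  have h3 : ∀ l (hl : l ∈ P.Λ) (ω : Ω), y ∈ YS h (St P ω) →
      euG hys (map_zero _) (valid_zero hl) • ω ∈ Orb h ω := fun l hl ω hy =>
    o.four_uniq hn h hlt hZ hy0 hy ((lev_tr hys hl).mem_YS hy (by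
      rw [euG_apply, eu_fix _ (P.self_eq_zero hys) (by simp), one_smul]))
  obtain ⟨s, hs, hs0, hs1⟩ := exists_fixed_ne (F := F) hq 1
  obtain ⟨c, hc⟩ := exists_norm_eq' hs
  obtain ⟨t, ht, hw⟩ := h.exists_tor o.iso o.nd hn.ge (a := c) fun e => hs0 (by simp [← hc, e])
  rw [hc] at ht
  have hf := ht.fpf_of_triv hw (by rwa [hs]) fun l _ e => by
    rw [hs] at e
    refine (mul_eq_zero.1 (show (s - 1) ^ 2 * l = 0 by linear_combination e + (1 - s) * l * h2)).resolve_left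
      (pow_ne_zero 2 (sub_ne_zero.2 hs1))
  have h4 := h1 _ ((YS h (St P ω)).add_mem hy hx)
  simp only [Submodule.coe_add, map_add, LinearMap.add_apply, h1 x hx, h1 y hy, o.symm y x] at h4
  have h5 : -(s⁻¹ / P.B y x) ∈ P.Λ := P.Λ.neg_mem (o.mem.2 (by
    rw [map_div₀, map_inv₀, hs, show cj q (P.B y x) = -P.B y x by linear_combination h4, div_neg,
      add_neg_cancel]))
  have h6 := (lev_tr hys h5).mem_YS hx (y' := x + s⁻¹ • y) (by
    rw [euG_apply, eu_tr, o.eps, one_mul, neg_mul, div_mul_cancel₀ _ hyx]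
    simp)
  rw [YS_eq_of_Orb (h3 _ h5 ω hy)] at h6
  obtain ⟨ω', ho, hfix⟩ := ht.exists_fix h hf (o.four_uniq hn h hlt hZ (smul_ne_zero (inv_ne_zero hs0) hy0)
    (by simpa using (YS h (St P ω)).sub_mem h6 hx) (ht.mem_YS hy (by simp [hw, smul_smul, hs0])))
  obtain ⟨l, hl, hl0⟩ := o.exists_lam
  exact hl0 (hT ω' y hys (by simpa using hy0) l hl (has_of_tor (w := 0) h ht hw hf hfix hys (map_zero _)
    (valid_zero hl) (h3 l hl ω' (by rwa [YS_eq_of_Orb ho]))))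

end Herm

section Two

variable [IsSq F 2] {P : PQ F V (cj 2)} {H : Subgroup (V ≃ₗ[F] V)}

theorem fixed_two {x : F} (h : cj 2 x = x) : x = 0 ∨ x = 1 := by
  rw [cj_apply] at h
  exact (mul_eq_zero.1 (show x * (x - 1) = 0 by linear_combination h)).imp id sub_eq_zero.1

theorem norm_two {x : F} (h : x ≠ 0) : cj 2 x * x = 1 :=
  (fixed_two (by rw [map_mul, cj_cj, mul_comm])).resolve_left (Herm.norm_ne h)

theorem trace_two (h2 : (2 : F) = 0) {x : F} (h0 : x ≠ 0) (h1 : x ≠ 1) : x + cj 2 x = 1 :=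
  (fixed_two (cj_trace x)).resolve_left fun e =>
    (fixed_two (x := x) (by linear_combination e - x * h2)).elim h0 h1

theorem Herm.triangle (o : Herm P) (h2 : (2 : F) = 0) {d r₀ : V} (hd : P.q d ∈ P.Λ) (hd0 : d ≠ 0)
    (hr₀ : P.q r₀ ∈ P.Λ) (hdr₀ : P.B d r₀ = 0) (hr₀' : r₀ ∉ F ∙ d)
    (hT : ∀ e, P.q e ∈ P.Λ → e ≠ 0 → ¬ Has H (H97.eu P e 0 1))
    (h1 : ∀ e u, P.q e ∈ P.Λ → e ≠ 0 → P.q u ∈ P.Λ → P.B e u = 0 → u ∉ F ∙ e →
      (∃ μ : F, μ ≠ 0 ∧ ∃ c ∈ P.Λ, Has H (H97.eu P e (μ • u) c)) ∧ ∀ (μ μ' : F) c c', μ ≠ 0 → μ' ≠ 0 →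
        c ∈ P.Λ → c' ∈ P.Λ → Has H (H97.eu P e (μ • u) c) → Has H (H97.eu P e (μ' • u) c') → μ = μ') :
    False := by
  have hl : (1 : F) ∈ P.Λ := o.mem.2 (by rw [map_one]; linear_combination h2)
  have hΛ : ∀ c ∈ P.Λ, c = 0 ∨ c = 1 := fun c hc => fixed_two (by linear_combination o.mem.1 hc - c * h2)
  have hdd := P.self_eq_zero hd
  obtain ⟨t, ht⟩ := exists_trace_eq (q := 2) (c := (1 : F)) (map_one _)
  have ht0 : t ≠ 0 := fun e => by simp [e] at ht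
  have ht1 : cj 2 t ≠ t := fun e => one_ne_zero (by linear_combination -ht + e + t * h2 : (1 : F) = 0)
  have line : ∀ (r : V) (α : F), P.q r ∈ P.Λ → P.B d r = 0 → r ∉ F ∙ d → P.q (r + α • d) ∈ P.Λ ∧
      P.B d (r + α • d) = 0 ∧ r + α • d ∉ F ∙ d := fun r α h3 h4 h5 =>
    ⟨sing_add h3 (P.q_smul_mem hd α) (by simp [P.eq_zero_symm h4]), by simp [h4, hdd], fun h6 => h5 (by
      simpa using Submodule.sub_mem _ h6 (Submodule.smul_mem _ α (Submodule.mem_span_singleton_self d)))⟩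
  obtain ⟨r, hr, hdr, hr', h3⟩ : ∃ r, P.q r ∈ P.Λ ∧ P.B d r = 0 ∧ r ∉ F ∙ d ∧ Has H (H97.eu P d r 1) := by
    obtain ⟨μ, hμ, c, hc, h3⟩ := (h1 d r₀ hd hd0 hr₀ hdr₀ hr₀').1
    have h4 : μ • r₀ ∉ F ∙ d := fun h4 => hr₀' ((Submodule.smul_mem_iff _ hμ).1 h4)
    rcases hΛ c hc with rfl | rfl
    · obtain ⟨h5, h6, h7⟩ := line (μ • r₀) t (P.q_smul_mem hr₀ μ) (by simp [hdr₀]) h4
      refine ⟨_, h5, h6, h7, h3.congr fun x => ?_⟩
      rw [eu_add_smul, o.eps]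
      congr 2
      linear_combination -ht + (cj 2 t - 1) * h2
    · exact ⟨_, P.q_smul_mem hr₀ μ, by simp [hdr₀], h4, h3⟩
  have hrr := P.self_eq_zero hr
  have hr0 : r ≠ 0 := fun e => hr' (by simp [e])
  have h4 : AL P H d r 1 1 0 := al_left.2 (by simpa using h3)
  obtain ⟨μ, hμ, l, hl', h5⟩ := (h1 r d hr hr0 hd (P.eq_zero_symm hdr) (not_mem_span_symm hd0 hr0 hr')).1
  have h6 := (al_right hl' μ).2 h5
  rw [o.eps, one_mul] at h6
  have hμ' : -cj 2 μ ≠ 0 := neg_ne_zero.2 (sigma_ne hμ)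
  generalize -cj 2 μ = a at h6 hμ'
  rcases hΛ l hl' with rfl | rfl
  · rw [(h1 d r hd hd0 hr hdr hr').2 a 1 0 1 hμ' one_ne_zero (zero_mem _) hl (al_left.1 h6)
      (al_left.1 h4)] at h6
    exact hT d hd hd0 (by simpa using al_left.1 ((h4.sub hdd hrr hdr h6).congr rfl rfl (sub_self _)))
  obtain ⟨α, hα0, hα, hα'⟩ : ∃ α : F, α ≠ 0 ∧ α + cj 2 α = 1 ∧ α * a ≠ 1 := by
    by_cases h7 : t * a = 1
    · exact ⟨cj 2 t, sigma_ne ht0, by rw [cj_cj, add_comm, ht], fun e =>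
        ht1 (mul_right_cancel₀ hμ' (e.trans h7.symm))⟩
    · exact ⟨t, ht0, ht, h7⟩
  have h7 := trace_two h2 (mul_ne_zero hα0 hμ') hα'
  rw [map_mul] at h7
  obtain ⟨h8, h9, h10⟩ := line r α hr hdr hr'
  have he0 : r + α • d ≠ 0 := fun e => h10 (by simp [e])
  have h11 := (al_line (zero_mem _) α 1).1 (h4.congr (by
    rw [o.eps, map_one]; linear_combination -hα + α * h2) (by
    rw [o.eps, map_one]; linear_combination h2) rfl)
  have h12 := (al_line hl α (α + cj 2 a)).1 (h6.congr (by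
    rw [o.eps, map_add, cj_cj]; linear_combination -h7 - norm_two hα0 + (α * a - 1) * h2) (by
    rw [o.eps, map_add, cj_cj]; linear_combination a * h2) rfl)
  by_cases h13 : α + cj 2 a = 0
  · exact hT _ h8 he0 (by simpa [h13] using h12)
  rw [(h1 _ d h8 he0 hd (P.eq_zero_symm h9) (not_mem_span_symm hd0 he0 h10)).2 _ 1 1 0 h13 one_ne_zero hl
    (zero_mem _) h12 h11] at h12
  have h14 := sub_mem_ZS h8 (by simpa using P.eq_zero_symm h9) (P.Λ.sub_mem hl (P.q_smul_mem hd 1))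
    (P.Λ.sub_mem (zero_mem _) (P.q_smul_mem hd 1)) h12 h11
  exact hT _ h8 he0 (by simpa using (mem_ZS.1 h14).2)

theorem Herm.baer_two (o : Herm P) (h2 : (2 : F) = 0) (hn : finrank F V = 4) {d f : V} (h : Pair P d f)
    (hZ : ZS h.hd H = ⊥) {y x : Wp P d f} (hy : y ∈ XS h H) (hx : x ∈ XS h H) (hyx : P.B y x ≠ 0)
    {u : Wp P d f} (hu : P.q u ∈ P.Λ) (hu0 : u ≠ 0) :
    (∃ μ : F, μ ≠ 0 ∧ μ • u ∈ XS h H) ∧
      ∀ μ μ' : F, μ ≠ 0 → μ' ≠ 0 → μ • u ∈ XS h H → μ' • u ∈ XS h H → μ = μ' := by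
  have h1 := o.iso_of_two h h2 hZ
  have h3 : ∀ x ∈ XS h H, ∀ x' ∈ XS h H, P.B x x' ≠ 0 → P.B x x' = 1 := fun x hx x' hx' h3 =>
    (fixed_two (o.fixed_of_bot h hZ x hx x' hx')).resolve_left h3
  have hW := h.finrank_W
  have hp : Pair (Pw P d f) y x := ⟨o.sing.2 (h1 y hy), o.sing.2 (h1 x hx), h3 y hy x hx hyx⟩
  obtain ⟨s, t, w, e⟩ := hp.decomp' u
  have h4 := hp.finrank_W
  have : Subsingleton (Wp (Pw P d f) y x) := (finrank_zero_iff (R := F)).1 (by omega)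
  simp only [Subsingleton.elim w 0, Submodule.coe_zero, add_zero] at e
  refine ⟨?_, fun μ μ' hμ hμ' h5 h6 => ?_⟩
  · by_cases hs : s = 0
    · have ht : t ≠ 0 := fun e' => hu0 (by simp [e, hs, e'])
      exact ⟨t⁻¹, inv_ne_zero ht, by simpa [e, hs, smul_smul, ht] using hx⟩
    by_cases ht : t = 0
    · exact ⟨s⁻¹, inv_ne_zero hs, by simpa [e, ht, smul_smul, hs] using hy⟩
    have h5 := o.sing.1 hu
    simp only [e, Submodule.coe_add, Submodule.coe_smul, map_add, LinearMap.add_apply, B_smul_left, map_smul,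
      h1 y hy, h1 x hx, o.symm y x, h3 y hy x hx hyx, smul_eq_mul, map_one] at h5
    have h6 := (fixed_two (x := cj 2 s * t) (by
      rw [map_mul, cj_cj]; linear_combination h5 - cj 2 s * t * h2)).resolve_left (mul_ne_zero (sigma_ne hs) ht)
    rw [mul_left_cancel₀ (sigma_ne hs) (h6.trans (norm_two hs).symm), ← smul_add] at e
    exact ⟨s⁻¹, inv_ne_zero hs, by simpa [e, smul_smul, hs] using (XS h H).add_mem hy hx⟩
  · obtain ⟨v, hv, h7⟩ : ∃ v ∈ XS h H, P.B u v ≠ 0 := by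
      by_contra h7
      push Not at h7
      exact hu0 (h.nd o.nd u fun v => by
        obtain ⟨s', t', w', rfl⟩ := hp.decomp' v
        simp [Subsingleton.elim w' 0, Pw_B, h7 y hy, h7 x hx])
    have h8 := h3 _ h5 v hv (by simpa [B_smul_left, h7, cj_eq_zero] using hμ)
    have h9 := h3 _ h6 v hv (by simpa [B_smul_left, h7, cj_eq_zero] using hμ')
    simp only [Submodule.coe_smul, B_smul_left] at h8 h9
    exact cj_injective (mul_right_cancel₀ h7 (h8.trans h9.symm))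

end Two

theorem Herm.min_four (o : Herm P) (hn : finrank F V = 4) {Ω : Type*} [MulAction (EG P) Ω] [Fintype Ω]
    [Nonempty Ω] (hne : ∀ ω : Ω, ¬ EG P ≤ St P ω) : (q + 1) * (q ^ 3 + 1) ≤ Nat.card Ω := by
  by_contra hlt
  rw [not_le] at hlt
  obtain ⟨d, f, h⟩ := o.exists_pair (by omega)
  obtain ⟨ω₀, hZ₀⟩ := o.exists_z_bot h hn.ge hne
  have hq := two_le_q F q
  have hT : ∀ (ω : Ω) e, P.q e ∈ P.Λ → e ≠ 0 → ∀ l ∈ P.Λ, Has (St P ω) (H97.eu P e 0 l) → l = 0 := by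
    intro ω e he he0
    refine transfer o.iso o.nd hn.ge h.hd h.d_ne
      (φ := fun H e => ∀ l ∈ P.Λ, Has H (H97.eu P e 0 l) → l = 0) (fun ω e g h1 l hl h2 => h1 l hl (by
        simpa only [inv_smul_smul, EG_inv_apply, map_zero] using has_St_eu g⁻¹ h2)) (fun ω l hl h1 => ?_)
      ω he he0
    by_contra hl0
    have h2 := o.four_xle hn h hlt hZ₀ (ω' := ω) fun e => hl0 (by
      simpa [e] using mem_ZS.2 ⟨hl, h1⟩ |> fun h : l ∈ ZS h.hd (St P ω) => h)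
    obtain ⟨z, hz⟩ := o.exists_nonsing' (by omega)
    have h3 := (o.counts (m := 3) hn hz).1
    have h0 : 1 ≤ q ^ 2 := Nat.one_le_pow _ _ (by omega)
    have h0' : 1 ≤ (q ^ 2) ^ 2 := Nat.one_le_pow _ _ (by omega)
    have h5 : (1 : ℤ) < q ^ 2 := by nlinarith
    rcases card_ge_of_xle o.iso o.nd le_rfl hn hl hl0 (t := q + 1) (fun d f h => by
      have := h.finrank_W
      rw [(o.pw h).lvl_two (by omega), card_F F q]) (hne ω) h.hd h.d_ne h2 with h4 | h4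
    · rw [card_F F q] at h4
      zify [h0] at h4 hlt hq
      rw [h3] at h4
      have h6 : ((q : ℤ) ^ 2 + 1) * (q ^ 3 + 1) ≤ Nat.card Ω :=
        le_of_mul_le_mul_right (a := (q : ℤ) ^ 2 - 1) (le_of_eq_of_le (by ring) h4) (by omega)
      nlinarith [mul_le_mul_of_nonneg_right (show (q : ℤ) + 1 ≤ q ^ 2 + 1 by nlinarith)
        (show (0 : ℤ) ≤ q ^ 3 + 1 by positivity)]
    · rw [card_F F q] at h4
      zify [h0'] at h4 hlt hq
      rw [h3] at h4
      have h6 : ((q : ℤ) + 1) * (q ^ 3 + 1) ≤ Nat.card Ω :=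
        le_of_mul_le_mul_right (a := ((q : ℤ) ^ 2) ^ 2 - 1) (le_of_eq_of_le (by ring) h4) (by nlinarith)
      omega
  have hB : ∀ d f (h : Pair P d f) (ω : Ω), (2 : F) = 0 ∧ ∃ y ∈ YS h (St P ω), ∃ x ∈ YS h (St P ω),
      P.B y x ≠ 0 := fun d f h ω => (o.four_types hn h hlt (eq_bot_iff.2 fun l hl =>
        hT ω d h.hd h.d_ne l (mem_ZS.1 hl).1 (mem_ZS.1 hl).2)).resolve_left fun ⟨r, h1, h2⟩ =>
          o.four_line hn h hlt hT h1 h2
  obtain ⟨h2, y, hy, x, hx, hyx⟩ := hB d f h ω₀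
  by_cases hq2 : q = 2; swap
  · exact o.four_baer hn h hlt h2 hq2 hT hy hx hyx
  subst hq2
  have hy0 : y ≠ 0 := fun e => hyx (by simp [e])
  refine o.triangle h2 (H := St P ω₀) h.hd h.d_ne (o.sing.2 ((o.four_iso hn h hlt hZ₀).1 y hy)) (W_d y)
    (W_not_mem' h hy0) (fun e he he0 h1 => one_ne_zero (hT ω₀ e he he0 1 (o.mem.2 (by
      rw [map_one]; linear_combination h2)) h1)) fun e u he he0 hu heu hue => ?_
  have hu0 : u ≠ 0 := fun e => hue (by simp [e])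
  obtain ⟨f', hf', h3, h4⟩ := P.exists_partner o.nd (F ∙ u) (not_mem_span_symm he0 hu0 hue) he
    fun v hv => by
      obtain ⟨a, rfl⟩ := Submodule.mem_span_singleton.1 hv
      simp [heu]
  have h' : Pair P e f' := ⟨he, hf', by rw [o.symm, h3, map_one]⟩
  have hZ : ZS h'.hd (St P ω₀) = ⊥ := eq_bot_iff.2 fun l hl =>
    hT ω₀ e he he0 l (mem_ZS.1 hl).1 (mem_ZS.1 hl).2
  obtain ⟨-, y', hy', x', hx', h5⟩ := hB e f' h' ω₀
  obtain ⟨-, -, κ, hκ, hX⟩ := o.four_iso hn h' hlt hZ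
  obtain ⟨⟨μ, hμ, h6⟩, h7⟩ := o.baer_two h2 hn h' hZ (y := κ⁻¹ • y') (x := κ⁻¹ • x')
    ((hX _).2 (by simpa [smul_smul, hκ] using hy')) ((hX _).2 (by simpa [smul_smul, hκ] using hx'))
    (by simpa [B_smul_left, hκ, cj_eq_zero] using h5)
    (u := ⟨u, mem_Wp.2 ⟨heu, h4 u (Submodule.mem_span_singleton_self u)⟩⟩) hu
    fun e => hu0 (congrArg Subtype.val e)
  refine ⟨?_, fun μ μ' c c' hμ hμ' hc hc' h8 h9 => h7 μ μ' hμ hμ'
    (mem_XS.2 ⟨c, P.Λ.sub_mem hc (P.q_smul_mem hu μ), h8⟩)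
    (mem_XS.2 ⟨c', P.Λ.sub_mem hc' (P.q_smul_mem hu μ'), h9⟩)⟩
  obtain ⟨c, hc, h8⟩ := mem_XS.1 h6
  exact ⟨μ, hμ, c, by simpa using P.Λ.add_mem hc (P.q_smul_mem hu μ), h8⟩

theorem min_su_four :
    (∀ H : Subgroup (Cfsg.PSU 4 F q), H ≠ ⊤ → (q + 1) * (q ^ 3 + 1) ≤ H.index) ∧
      ∃ H : Subgroup (Cfsg.PSU 4 F q), H.index = (q + 1) * (q ^ 3 + 1) := by
  have o := herm_uP (F := F) (q := q) 4
  have hn : finrank F (Fin 4 → F) = 4 := by simp
  refine finish (suEG le_rfl) (fun Ω _ _ _ hne => o.min_four hn hne) ?_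
  obtain ⟨L, hL, h2⟩ := exists_TS o.iso 2 (by omega)
  obtain ⟨l, hl, hl0⟩ := o.exists_lam
  refine ⟨_, center_le_stabA o.iso o.nd hn.ge hn.ge L, ?_⟩
  have h1 := line_count o.iso o.nd le_rfl hn hl hl0 hL h2 (t := q + 1) fun d f h => by
    have := h.finrank_W
    rw [(o.pw h).lvl_two (by omega), card_F F q]
  obtain ⟨z, hz⟩ := o.exists_nonsing' (by omega)
  have h3 := (o.counts (m := 3) hn hz).1
  have hq := two_le_q F q
  have h0' : 1 < (q ^ 2) ^ 2 := Nat.one_lt_pow two_ne_zero (Nat.one_lt_pow two_ne_zero hq)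
  rw [index_stabA]
  rw [card_F F q] at h1
  zify [h0'.le] at h1 h0' ⊢
  refine mul_right_cancel₀ (show ((q : ℤ) ^ 2) ^ 2 - 1 ≠ 0 by omega) ?_
  rw [h1, h3]
  ring

end H20.MD
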