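import Cfsg.Agent.Lib.MinDeg.Heis

/-! The Levi factor acts on the annihilators; multiplicities and the mass formula. -/

set_option autoImplicit false
set_option linter.unusedSectionVars false

namespace H20.MD

open Module H28 H97
open scoped Classical

variable {F V : Type*} [Field F] [AddCommGroup V] [Module F V] {σ : F →+* F}
  {P : PQ F V σ} {d f : V} [FiniteDimensional F V]

/-- `g` stabilises the points spanned by `d` and `f`. -/
structure Lev (d f : V) (g : EG P) (a : F) : Prop where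
  ne : a ≠ 0
  gd : g.1 d = a • d
  gf : g.1 f = (σ a)⁻¹ • f

theorem sigma_ne {a : F} (ha : a ≠ 0) : σ a ≠ 0 := by simpa using ha

namespace Lev

variable {g g' : EG P} {a a' : F}

theorem mem_W (hg : Lev d f g a) (w : Wp P d f) : g.1 w ∈ Wp P d f := by
  have h1 := EG_B g d w
  have h2 := EG_B g f w
  rw [hg.gd, B_smul_left, W_d] at h1
  rw [hg.gf, B_smul_left, W_f, map_inv₀, P.σσ] at h2
  exact ⟨(mul_eq_zero.1 h1).resolve_left (sigma_ne hg.ne),
    (mul_eq_zero.1 h2).resolve_left (inv_ne_zero hg.ne)⟩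

theorem inv (hg : Lev d f g a) : Lev d f g⁻¹ a⁻¹ := by
  refine ⟨inv_ne_zero hg.ne, ?_, ?_⟩
  · apply g.1.injective
    rw [EG_apply_inv, map_smul, hg.gd, smul_smul, inv_mul_cancel₀ hg.ne, one_smul]
  · apply g.1.injective
    rw [EG_apply_inv, map_smul, hg.gf, smul_smul, map_inv₀, inv_inv,
      mul_inv_cancel₀ (sigma_ne hg.ne), one_smul]

theorem mul (hg : Lev d f g a) (hg' : Lev d f g' a') : Lev d f (g * g') (a * a') := by
  refine ⟨mul_ne_zero hg.ne hg'.ne, ?_, ?_⟩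
  · rw [EG_mul_apply, hg'.gd, map_smul, hg.gd, smul_smul, mul_comm]
  · rw [EG_mul_apply, hg'.gf, map_smul, hg.gf, smul_smul, map_mul, mul_inv, mul_comm]

theorem one : Lev d f (1 : EG P) 1 := ⟨one_ne_zero, by simp, by simp⟩

theorem of_fix (h1 : g.1 d = d) (h2 : g.1 f = f) : Lev d f g 1 := ⟨one_ne_zero, by simpa, by simpa⟩

/-- The conjugate of an element of the unipotent radical. -/
def cj (hg : Lev d f g a) (x : Heis P d f) : Heis P d f :=
  ⟨σ a • ⟨g.1 x.w, hg.mem_W x.w⟩, σ a * a * x.c, valid_smul' a (isom_valid (EG_le_isom g.2) x.valid)⟩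

theorem cj_w (hg : Lev d f g a) (x : Heis P d f) : ((hg.cj x).w : V) = σ a • g.1 x.w := rfl
theorem cj_c (hg : Lev d f g a) (x : Heis P d f) : (hg.cj x).c = σ a * a * x.c := rfl

theorem toG_cj (h : Pair P d f) (hg : Lev d f g a) (x : Heis P d f) :
    h.toG (hg.cj x) = g * h.toG x * g⁻¹ := by
  refine EG_ext fun v => ?_
  rw [EG_mul_apply, EG_mul_apply, h.toG_apply, h.toG_apply, cj_w, cj_c, ← eu_smul, ← hg.gd]
  exact (eu_conj (EG_le_isom g.2) _ _ _ _).symm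

/-- The twisted action on `W`. -/
noncomputable def rho (hg : Lev d f g a) : Wp P d f ≃ₗ[F] Wp P d f :=
  LinearEquiv.ofInjectiveEndo
    (a⁻¹ • ((g.1 : V →ₗ[F] V).restrict (p := Wp P d f) (q := Wp P d f) fun x hx => hg.mem_W ⟨x, hx⟩))
    (by
      intro x y e
      have e1 : a⁻¹ • g.1 x = a⁻¹ • g.1 y := congrArg Subtype.val e
      exact Subtype.ext (g.1.injective (smul_right_injective V (inv_ne_zero hg.ne) e1)))

theorem rho_apply (hg : Lev d f g a) (y : Wp P d f) : (hg.rho y : V) = a⁻¹ • g.1 y := rfl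

end Lev

variable (P d f) in
/-- The automorphisms of `W` induced by the Levi factor. -/
def LevAut : Subgroup (Wp P d f ≃ₗ[F] Wp P d f) where
  carrier := {γ | ∃ (g : EG P) (a : F), Lev d f g a ∧ ∀ y : Wp P d f, g.1 y = a • (γ y : V)}
  one_mem' := ⟨1, 1, Lev.one, fun y => by simp⟩
  mul_mem' := by
    rintro γ γ' ⟨g, a, hg, e⟩ ⟨g', a', hg', e'⟩
    refine ⟨g * g', a * a', hg.mul hg', fun y => ?_⟩
    rw [EG_mul_apply, e', map_smul, e, smul_smul, mul_comm]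
    rfl
  inv_mem' := by
    rintro γ ⟨g, a, hg, e⟩
    refine ⟨g⁻¹, a⁻¹, hg.inv, fun y => ?_⟩
    apply g.1.injective
    rw [EG_apply_inv, map_smul, e, smul_smul, inv_mul_cancel₀ hg.ne, one_smul, le_apply_inv]

theorem mem_LevAut {γ : Wp P d f ≃ₗ[F] Wp P d f} : γ ∈ LevAut P d f ↔
    ∃ (g : EG P) (a : F), Lev d f g a ∧ ∀ y : Wp P d f, g.1 y = a • (γ y : V) := Iff.rfl

theorem Lev.rho_mem {g : EG P} {a : F} (hg : Lev d f g a) : hg.rho ∈ LevAut P d f :=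
  ⟨g, a, hg, fun y => by rw [hg.rho_apply, smul_smul, mul_inv_cancel₀ hg.ne, one_smul]⟩

theorem lev_euG {r w : Wp P d f} {c : F} (hr : P.q r ∈ P.Λ) (hw : P.B r w = 0)
    (hc : c - P.q w ∈ P.Λ) : Lev d f (euG hr hw hc) 1 :=
  Lev.of_fix (by rw [euG_apply, eu_fix c (W_d' r) (W_d' w)]) (by rw [euG_apply, eu_fix c (W_f' r) (W_f' w)])

/-- Elements of `EG` of the perpendicular space extend. -/
theorem exists_ext {γ : Wp P d f ≃ₗ[F] Wp P d f} (hγ : γ ∈ EG (Pw P d f)) :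
    ∃ g : EG P, Lev d f g 1 ∧ ∀ y : Wp P d f, g.1 y = (γ y : V) := by
  let K : Subgroup (Wp P d f ≃ₗ[F] Wp P d f) :=
    { carrier := {γ | ∃ g : EG P, Lev d f g 1 ∧ ∀ y : Wp P d f, g.1 y = (γ y : V)}
      one_mem' := ⟨1, Lev.one, fun y => rfl⟩
      mul_mem' := by
        rintro γ γ' ⟨g, hg, e⟩ ⟨g', hg', e'⟩
        refine ⟨g * g', by simpa using hg.mul hg', fun y => ?_⟩
        rw [EG_mul_apply, e', e]
        rfl
      inv_mem' := by
        rintro γ ⟨g, hg, e⟩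
        refine ⟨g⁻¹, by simpa using hg.inv, fun y => ?_⟩
        apply g.1.injective
        rw [EG_apply_inv, e, le_apply_inv] }
  have : EG (Pw P d f) ≤ K := by
    refine EG_le fun r w c hr hw hc => ?_
    obtain ⟨γ, -, e⟩ := has_eu_EG hr hw hc
    exact ⟨γ, ⟨euG (P := P) (d := r) (w := w) hr hw hc, lev_euG hr hw hc,
      fun y => (euG_apply (P := P) (d := r) (w := w) hr hw hc y).trans (by rw [e, coe_eu])⟩, e⟩
  exact this hγ

theorem EG_le_LevAut : EG (Pw P d f) ≤ LevAut P d f := fun _ hγ => by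
  obtain ⟨g, hg, e⟩ := exists_ext hγ
  exact ⟨g, 1, hg, fun y => by rw [e, one_smul]⟩

/-- The image of an additive subgroup under a linear automorphism. -/
def img {W : Type*} [AddCommGroup W] [Module F W] (γ : W ≃ₗ[F] W) (Y : AddSubgroup W) :
    AddSubgroup W := Y.map γ.toAddEquiv.toAddMonoidHom

section Img

variable {W : Type*} [AddCommGroup W] [Module F W] {γ γ' : W ≃ₗ[F] W} {Y : AddSubgroup W}

theorem mem_img {y : W} : y ∈ img γ Y ↔ ∃ x ∈ Y, γ x = y := Iff.rfl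

theorem apply_mem_img {x : W} : γ x ∈ img γ Y ↔ x ∈ Y :=
  ⟨fun ⟨_, h, e⟩ => γ.injective e ▸ h, fun h => ⟨x, h, rfl⟩⟩

theorem mem_img' {y : W} : y ∈ img γ Y ↔ γ⁻¹ y ∈ Y := by
  rw [← apply_mem_img (γ := γ) (x := γ⁻¹ y), le_apply_inv]

theorem img_mul : img (γ * γ') Y = img γ (img γ' Y) := by
  ext y
  rw [mem_img', mem_img', mem_img', mul_inv_rev]
  rfl

theorem img_one : img (1 : W ≃ₗ[F] W) Y = Y := by
  ext y
  rw [mem_img']
  rfl

theorem card_img : Nat.card (img γ Y) = Nat.card Y :=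
  (Nat.card_congr (AddSubgroup.equivMapOfInjective Y _ γ.injective).toEquiv).symm

theorem img_eq_of_maps [Finite W] (h : ∀ y ∈ Y, γ y ∈ Y) : img γ Y = Y :=
  AddSubgroup.eq_of_le_of_card_ge (by rintro _ ⟨x, hx, rfl⟩; exact h x hx) card_img.ge

/-- The images of `Y` under `Γ` which contain `y`. -/
def Im (Γ : Subgroup (W ≃ₗ[F] W)) (Y : AddSubgroup W) (y : W) : Set (AddSubgroup W) :=
  {Y' | (∃ γ ∈ Γ, img γ Y = Y') ∧ y ∈ Y'}

theorem mem_Im {Γ : Subgroup (W ≃ₗ[F] W)} {y : W} {Y' : AddSubgroup W} :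
    Y' ∈ Im Γ Y y ↔ (∃ γ ∈ Γ, img γ Y = Y') ∧ y ∈ Y' := Iff.rfl

theorem self_mem_Im {Γ : Subgroup (W ≃ₗ[F] W)} {y : W} (hy : y ∈ Y) : Y ∈ Im Γ Y y :=
  ⟨⟨1, Γ.one_mem, img_one⟩, hy⟩

theorem img_mem_Im {Γ : Subgroup (W ≃ₗ[F] W)} {y : W} (hy : y ∈ Y) (hγ : γ ∈ Γ) (e : γ y = y) :
    img γ Y ∈ Im Γ Y y := ⟨⟨γ, hγ, rfl⟩, ⟨y, hy, e⟩⟩

theorem Im_mono {Γ Γ' : Subgroup (W ≃ₗ[F] W)} (h : Γ ≤ Γ') (y : W) : Im Γ Y y ⊆ Im Γ' Y y :=
  fun _ ⟨⟨γ, hγ, e⟩, hy⟩ => ⟨⟨γ, h hγ, e⟩, hy⟩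

theorem ncard_Im_mono [Finite W] {Γ Γ' : Subgroup (W ≃ₗ[F] W)} (h : Γ ≤ Γ') (y : W) :
    (Im Γ Y y).ncard ≤ (Im Γ' Y y).ncard := Set.ncard_le_ncard (Im_mono h y)

theorem one_le_ncard_Im [Finite W] {Γ : Subgroup (W ≃ₗ[F] W)} {y : W} (hy : y ∈ Y) :
    1 ≤ (Im Γ Y y).ncard := (Set.ncard_pos (Set.toFinite _)).2 ⟨Y, self_mem_Im hy⟩

end Img

section Action

variable {Ω : Type*} [MulAction (EG P) Ω] {g : EG P} {a : F}

theorem Lev.smul_mem_Orb {h : Pair P d f} (hg : Lev d f g a) {ω ω' : Ω} (e : ω' ∈ Orb h ω) :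
    g • ω' ∈ Orb h (g • ω) := by
  obtain ⟨x, rfl⟩ := e
  exact ⟨hg.cj x, by simp [hg.toG_cj h, mul_smul]⟩

theorem Lev.smul_mem_Orb_iff {h : Pair P d f} (hg : Lev d f g a) {ω ω' : Ω} :
    g • ω' ∈ Orb h (g • ω) ↔ ω' ∈ Orb h ω :=
  ⟨fun e => by simpa using hg.inv.smul_mem_Orb e, hg.smul_mem_Orb⟩

theorem Lev.mem_XS {h : Pair P d f} (hg : Lev d f g a) {ω : Ω} {w w' : Wp P d f}
    (hw : w ∈ XS h (St P ω)) (e : (w' : V) = σ a • g.1 w) : w' ∈ XS h (St P (g • ω)) := by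
  obtain ⟨c, hc, hw⟩ := hw
  have h1 := has_St_eu g hw
  rw [hg.gd] at h1
  refine ⟨σ a * a * c, ?_, ?_⟩
  · rw [e]; exact valid_smul' a (isom_valid (EG_le_isom g.2) hc)
  · rw [e]; exact h1.congr (eu_smul _ _ _ _)

theorem Lev.mem_ZS (hd : P.q d ∈ P.Λ) (hg : Lev d f g a) {ω : Ω} {l : F}
    (hl : l ∈ ZS hd (St P ω)) : σ a * a * l ∈ ZS hd (St P (g • ω)) := by
  have h1 := has_St_eu g hl.2
  rw [hg.gd, map_zero] at h1
  refine ⟨P.norm_mem a _ hl.1, ?_⟩
  have := h1.congr (eu_smul _ _ _ _)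
  rwa [smul_zero] at this

variable [Finite F]

theorem Lev.card_ZS (hd : P.q d ∈ P.Λ) (hg : Lev d f g a) (ω : Ω) :
    Nat.card (ZS hd (St P (g • ω))) = Nat.card (ZS hd (St P ω)) := by
  have key : ∀ {g : EG P} {a : F} (_ : Lev d f g a) (ω : Ω),
      Nat.card (ZS hd (St P ω)) ≤ Nat.card (ZS hd (St P (g • ω))) := fun {g a} hg ω =>
    Nat.card_le_card_of_injective (fun l => ⟨σ a * a * l.1, hg.mem_ZS hd l.2⟩) fun l l' e =>
      Subtype.ext (mul_left_cancel₀ (mul_ne_zero (sigma_ne hg.ne) hg.ne) (congrArg Subtype.val e))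
  refine le_antisymm ?_ (key hg ω)
  simpa using key hg.inv (g • ω)

theorem card_ZS_mul (hd : P.q d ∈ P.Λ) (H : Subgroup (V ≃ₗ[F] V)) :
    Nat.card (ZS hd H) * (ZS hd H).relIndex P.Λ = Nat.card P.Λ := by
  have := AddSubgroup.card_mul_index ((ZS hd H).addSubgroupOf P.Λ)
  rwa [Nat.card_congr (AddSubgroup.addSubgroupOfEquivOfLe (ZS_le hd _)).toEquiv] at this

theorem Lev.idx_ZS (hd : P.q d ∈ P.Λ) (hg : Lev d f g a) (ω : Ω) :
    (ZS hd (St P (g • ω))).relIndex P.Λ = (ZS hd (St P ω)).relIndex P.Λ := by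
  have h1 := card_ZS_mul hd (St P (g • ω))
  rw [hg.card_ZS, ← card_ZS_mul hd (St P ω)] at h1
  exact Nat.eq_of_mul_eq_mul_left Nat.card_pos h1

theorem idx_pos (hd : P.q d ∈ P.Λ) (H : Subgroup (V ≃ₗ[F] V)) : 1 ≤ (ZS hd H).relIndex P.Λ := by
  have h1 := card_ZS_mul hd H
  have h2 : 0 < Nat.card P.Λ := Nat.card_pos
  by_contra h
  have : (ZS hd H).relIndex P.Λ = 0 := by omega
  rw [this] at h1
  omega

theorem two_le_idx (hd : P.q d ∈ P.Λ) {H : Subgroup (V ≃ₗ[F] V)} (h : ZS hd H ≠ P.Λ) :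
    2 ≤ (ZS hd H).relIndex P.Λ := by
  have h1 := idx_pos hd H
  by_contra h2
  have : (ZS hd H).relIndex P.Λ = 1 := by omega
  exact h (le_antisymm (ZS_le hd H) (AddSubgroup.relIndex_eq_one.1 this))

theorem idx_of_bot (hd : P.q d ∈ P.Λ) {H : Subgroup (V ≃ₗ[F] V)} (h : ZS hd H = ⊥) :
    (ZS hd H).relIndex P.Λ = Nat.card P.Λ := by rw [h, AddSubgroup.relIndex_bot_left]

theorem Lev.mem_YS {h : Pair P d f} (hg : Lev d f g a) {ω : Ω} {y y' : Wp P d f}
    (hy : y ∈ YS h (St P ω)) (e : g.1 y = a • (y' : V)) : y' ∈ YS h (St P (g • ω)) := by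
  intro x hx
  have h1 := hg.inv.mem_XS (w' := σ a⁻¹ • ⟨_, hg.inv.mem_W x⟩) hx rfl
  rw [inv_smul_smul] at h1
  have h2 : psi F (P.B (σ a⁻¹ • (g⁻¹).1 x) y) = 1 := hy _ h1
  rw [B_smul_left, P.σσ, ← EG_B g, EG_apply_inv, e, map_smul, smul_eq_mul, ← mul_assoc,
    inv_mul_cancel₀ hg.ne, one_mul] at h2
  exact h2

theorem Lev.YS_smul {h : Pair P d f} (hg : Lev d f g a) {γ : Wp P d f ≃ₗ[F] Wp P d f}
    (e : ∀ y : Wp P d f, g.1 y = a • (γ y : V)) (ω : Ω) :
    YS h (St P (g • ω)) = img γ (YS h (St P ω)) := by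
  ext y
  rw [mem_img']
  constructor
  · intro hy
    have := hg.inv.mem_YS (y' := γ⁻¹ y) hy (by
      apply g.1.injective
      rw [EG_apply_inv, map_smul, e, smul_smul, inv_mul_cancel₀ hg.ne, one_smul, le_apply_inv])
    rwa [inv_smul_smul] at this
  · intro hy
    exact hg.mem_YS hy (by rw [e, le_apply_inv])

theorem Lev.card_YS {h : Pair P d f} (hg : Lev d f g a) (ω : Ω) :
    Nat.card (YS h (St P (g • ω))) = Nat.card (YS h (St P ω)) := by
  rw [hg.YS_smul (γ := hg.rho) (fun y => by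
    rw [hg.rho_apply, smul_smul, mul_inv_cancel₀ hg.ne, one_smul]), card_img]

/-- Sets of points invariant under the parabolic subgroup. -/
structure Closed (h : Pair P d f) (S : Set Ω) : Prop where
  orb : ∀ ω ∈ S, Orb h ω ⊆ S
  lev : ∀ (g : EG P) (a : F), Lev d f g a → ∀ ω ∈ S, g • ω ∈ S

theorem closed_univ (h : Pair P d f) : Closed h (Set.univ : Set Ω) :=
  ⟨fun _ _ => Set.subset_univ _, fun _ _ _ _ _ => trivial⟩

theorem closed_card (h : Pair P d f) (φ : ℕ → ℕ → Prop) :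
    Closed h {ω : Ω | φ (Nat.card (ZS h.hd (St P ω))) (Nat.card (YS h (St P ω)))} :=
  ⟨fun ω hω ω' e => by
    rw [Set.mem_ofPred_eq, ZS_eq_of_Orb e, YS_eq_of_Orb e]; exact hω,
   fun g a hg ω hω => by
    rw [Set.mem_ofPred_eq, hg.card_ZS, hg.card_YS]; exact hω⟩

theorem Closed.compl {h : Pair P d f} {S : Set Ω} (hS : Closed h S) : Closed h Sᶜ :=
  ⟨fun ω hω ω' e h' => hω (hS.orb ω' h' (Orb_symm e)),
   fun g a hg ω hω h' => hω (by simpa using hS.lev _ _ hg.inv _ h')⟩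

theorem Closed.inter {h : Pair P d f} {S S' : Set Ω} (hS : Closed h S) (hS' : Closed h S') :
    Closed h (S ∩ S') :=
  ⟨fun ω hω => Set.subset_inter (hS.orb ω hω.1) (hS'.orb ω hω.2),
   fun g a hg ω hω => ⟨hS.lev g a hg ω hω.1, hS'.lev g a hg ω hω.2⟩⟩

variable [Fintype Ω] [Finite V]

/-- The multiplicity of the character attached to `y`, weighted by the centre. -/
noncomputable def mult (h : Pair P d f) (S : Set Ω) (y : Wp P d f) : ℚ :=
  ∑ ω : Ω, if ω ∈ S ∧ y ∈ YS h (St P ω) then 1 / (Nat.card (YS h (St P ω)) : ℚ) else 0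

theorem mult_def (h : Pair P d f) (S : Set Ω) (y : Wp P d f) : mult h S y =
    ∑ ω : Ω, if ω ∈ S ∧ y ∈ YS h (St P ω) then 1 / (Nat.card (YS h (St P ω)) : ℚ) else 0 := rfl

theorem mult_nonneg (h : Pair P d f) (S : Set Ω) (y : Wp P d f) : 0 ≤ mult h S y :=
  Finset.sum_nonneg fun ω _ => by split_ifs <;> positivity

theorem mult_levAut {h : Pair P d f} {S : Set Ω} (hS : Closed h S) {γ : Wp P d f ≃ₗ[F] Wp P d f}
    (hγ : γ ∈ LevAut P d f) (y : Wp P d f) : mult h S (γ y) = mult h S y := by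
  obtain ⟨g, a, hg, e⟩ := hγ
  rw [mult_def, mult_def, ← Equiv.sum_comp (MulAction.toPerm g)]
  refine Finset.sum_congr rfl fun ω _ => ?_
  have h1 : g • ω ∈ S ↔ ω ∈ S := ⟨fun h' => by simpa using hS.lev _ _ hg.inv _ h', hS.lev g a hg ω⟩
  simp only [MulAction.toPerm_apply, h1, hg.YS_smul e, apply_mem_img, card_img]

theorem sum_mult (h : Pair P d f) (S : Set Ω) (C : Finset (Wp P d f)) :
    ∑ y ∈ C, mult h S y = ∑ ω : Ω, if ω ∈ S then
      ((C.filter (· ∈ YS h (St P ω))).card : ℚ) / Nat.card (YS h (St P ω)) else 0 := by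
  simp only [mult_def]
  rw [Finset.sum_comm]
  refine Finset.sum_congr rfl fun ω _ => ?_
  by_cases hω : ω ∈ S
  · simp only [hω, true_and, if_true]
    rw [← Finset.sum_filter, Finset.sum_const, nsmul_eq_mul, mul_one_div]
  · simp [hω]

theorem sum_ite_mem (S : Set Ω) (c : ℚ) : (∑ ω : Ω, if ω ∈ S then c else 0) = S.ncard * c := by
  rw [← Finset.sum_filter, Finset.sum_const, nsmul_eq_mul, Set.ncard_eq_toFinset_card' S]
  have : Finset.univ.filter (· ∈ S) = S.toFinset := by ext ω; simp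
  rw [this]

theorem card_filter_le {W : Type*} [AddCommGroup W] [Finite W] (C : Finset W) (Y : AddSubgroup W) :
    (C.filter (· ∈ Y)).card ≤ Nat.card Y := by
  rw [← Set.ncard_coe_finset]
  exact Set.ncard_le_ncard (s := ((C.filter (· ∈ Y) : Finset W) : Set W)) (t := (Y : Set W))
    (fun y hy => (Finset.mem_filter.1 hy).2)

theorem sum_mult_le (h : Pair P d f) (S : Set Ω) (C : Finset (Wp P d f)) :
    ∑ y ∈ C, mult h S y ≤ S.ncard := by
  rw [sum_mult, ← mul_one (S.ncard : ℚ), ← sum_ite_mem]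
  refine Finset.sum_le_sum fun ω _ => ?_
  split_ifs
  · have h1 : (0 : ℚ) < Nat.card (YS h (St P ω)) := by exact_mod_cast Nat.card_pos
    rw [div_le_one h1]
    exact_mod_cast card_filter_le C _
  · exact le_rfl

theorem sum_mult_le_frac (h : Pair P d f) (S : Set Ω) (C : Finset (Wp P d f)) (h0 : 0 ∉ C) {M : ℕ}
    (hM : ∀ ω ∈ S, Nat.card (YS h (St P ω)) ≤ M) (hM0 : 0 < M) :
    M * ∑ y ∈ C, mult h S y ≤ ((M : ℚ) - 1) * S.ncard := by
  have hM' : (0 : ℚ) < M := by exact_mod_cast hM0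
  rw [sum_mult, mul_comm ((M : ℚ) - 1), ← sum_ite_mem, Finset.mul_sum]
  refine Finset.sum_le_sum fun ω _ => ?_
  split_ifs with hω
  · have h1 : (0 : ℚ) < Nat.card (YS h (St P ω)) := by exact_mod_cast Nat.card_pos
    have h2 := card_filter_le (insert 0 C) (YS h (St P ω))
    rw [Finset.filter_insert, if_pos (zero_mem _), Finset.card_insert_of_notMem (by simp [h0])] at h2
    have h3 : (((C.filter (· ∈ YS h (St P ω))).card : ℚ)) + 1 ≤ Nat.card (YS h (St P ω)) := by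
      exact_mod_cast h2
    have h4 : (Nat.card (YS h (St P ω)) : ℚ) ≤ M := by exact_mod_cast hM ω hω
    rw [← mul_div_assoc, div_le_iff₀ h1]
    nlinarith
  · simp

theorem sum_mult_class {h : Pair P d f} {S : Set Ω} (hS : Closed h S) {C : Finset (Wp P d f)}
    {y : Wp P d f} (hC : ∀ y' ∈ C, ∃ γ ∈ LevAut P d f, γ y = y') :
    ∑ y' ∈ C, mult h S y' = C.card * mult h S y := by
  rw [← nsmul_eq_mul, ← Finset.sum_const]
  refine Finset.sum_congr rfl fun y' hy' => ?_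
  obtain ⟨γ, hγ, rfl⟩ := hC y' hy'
  exact mult_levAut hS hγ y

theorem mult_ge (hP : P.B.SeparatingLeft) {h : Pair P d f} {S : Set Ω} (hS : Closed h S)
    {y : Wp P d f} {ι : Type*} (T : Finset ι) (p : ι → Ω) (hT : ∀ i ∈ T, p i ∈ S ∧ y ∈ YS h (St P (p i)))
    (hne : ∀ i ∈ T, ∀ j ∈ T, p j ∈ Orb h (p i) → i = j) :
    ∑ i ∈ T, ((ZS h.hd (St P (p i))).relIndex P.Λ : ℚ) ≤ mult h S y := by
  have hd : (T : Set ι).PairwiseDisjoint fun i => (Orb h (p i)).toFinset := by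
    intro i hi j hj hij
    rw [Function.onFun, Finset.disjoint_left]
    intro ω h1 h2
    rw [Set.mem_toFinset] at h1 h2
    exact hij (hne i hi j hj (Orb_trans h1 (Orb_symm h2)))
  calc ∑ i ∈ T, ((ZS h.hd (St P (p i))).relIndex P.Λ : ℚ)
      = ∑ i ∈ T, ∑ ω ∈ (Orb h (p i)).toFinset,
          if ω ∈ S ∧ y ∈ YS h (St P ω) then 1 / (Nat.card (YS h (St P ω)) : ℚ) else 0 := by
        refine Finset.sum_congr rfl fun i hi => ?_
        rw [Finset.sum_congr rfl (g := fun _ => 1 / (Nat.card (YS h (St P (p i))) : ℚ))]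
        · have h1 : (Nat.card (YS h (St P (p i))) : ℚ) ≠ 0 := by exact_mod_cast Nat.card_pos.ne'
          rw [Finset.sum_const, nsmul_eq_mul, ← Set.ncard_eq_toFinset_card', ← Nat.card_coe_set_eq,
            card_Orb hP]
          push_cast
          field_simp
        · intro ω hω
          rw [Set.mem_toFinset] at hω
          rw [YS_eq_of_Orb hω, if_pos ⟨hS.orb _ (hT i hi).1 hω, (hT i hi).2⟩]
    _ = ∑ ω ∈ T.biUnion fun i => (Orb h (p i)).toFinset,
          if ω ∈ S ∧ y ∈ YS h (St P ω) then 1 / (Nat.card (YS h (St P ω)) : ℚ) else 0 :=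
        (Finset.sum_biUnion hd).symm
    _ ≤ mult h S y := Finset.sum_le_sum_of_subset_of_nonneg (Finset.subset_univ _)
        fun ω _ _ => by split_ifs <;> positivity

/-- Lower bound for the multiplicity from several orbits with the same annihilator. -/
theorem mult_ge_Im' (hP : P.B.SeparatingLeft) {h : Pair P d f} {S : Set Ω} (hS : Closed h S)
    (y : Wp P d f) {Y : AddSubgroup (Wp P d f)} (T : Finset Ω)
    (hT : ∀ ω ∈ T, ω ∈ S ∧ YS h (St P ω) = Y) (hne : ∀ ω ∈ T, ∀ ω' ∈ T, ω' ∈ Orb h ω → ω = ω') :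
    (Im (LevAut P d f) Y y).ncard * ∑ ω ∈ T, ((ZS h.hd (St P ω)).relIndex P.Λ : ℚ) ≤ mult h S y := by
  have hc : ∀ Y' : Im (LevAut P d f) Y y, ∃ (g : EG P) (a : F), Lev d f g a ∧
      ∀ ω : Ω, YS h (St P ω) = Y → YS h (St P (g • ω)) = Y' := by
    rintro ⟨Y', ⟨γ, ⟨g, a, hg, e⟩, rfl⟩, -⟩
    exact ⟨g, a, hg, fun ω hω => by rw [hg.YS_smul e, hω]⟩
  choose g a hg e using hc
  have := Fintype.ofFinite (Im (LevAut P d f) Y y)
  have h1 := mult_ge hP hS (y := y) ((Finset.univ : Finset (Im (LevAut P d f) Y y)) ×ˢ T)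
    (fun x => g x.1 • x.2) (fun x hx => by
      have hx2 := hT _ (Finset.mem_product.1 hx).2
      exact ⟨hS.lev _ _ (hg _) _ hx2.1, by rw [e _ _ hx2.2]; exact x.1.2.2⟩) (by
      rintro ⟨Y₁, ω₁⟩ h₁ ⟨Y₂, ω₂⟩ h₂ ho
      have h₁' := (Finset.mem_product.1 h₁).2
      have h₂' := (Finset.mem_product.1 h₂).2
      have e1 := YS_eq_of_Orb ho
      rw [e _ _ (hT _ h₁').2, e _ _ (hT _ h₂').2] at e1
      have e2 : Y₂ = Y₁ := Subtype.ext e1
      subst e2
      exact Prod.ext rfl (hne _ h₁' _ h₂' ((hg _).smul_mem_Orb_iff.1 ho)))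
  rw [Finset.sum_product] at h1
  simp only [(hg _).idx_ZS] at h1
  rwa [Finset.sum_const, Finset.card_univ, nsmul_eq_mul, ← Nat.card_eq_fintype_card,
    Nat.card_coe_set_eq] at h1

theorem mult_ge_Im (hP : P.B.SeparatingLeft) {h : Pair P d f} {S : Set Ω} (hS : Closed h S)
    (y : Wp P d f) {ω : Ω} (hω : ω ∈ S) :
    (Im (LevAut P d f) (YS h (St P ω)) y).ncard * ((ZS h.hd (St P ω)).relIndex P.Λ : ℚ) ≤
      mult h S y := by
  simpa using mult_ge_Im' hP hS y (Y := YS h (St P ω)) {ω} (by simpa using hω) (by simp)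

theorem mult_ge_Im_two (hP : P.B.SeparatingLeft) {h : Pair P d f} {S : Set Ω} (hS : Closed h S)
    (y : Wp P d f) {ω ω' : Ω} (hω : ω ∈ S) (hω' : ω' ∈ S) (hY : YS h (St P ω') = YS h (St P ω))
    (hne : ω' ∉ Orb h ω) :
    (Im (LevAut P d f) (YS h (St P ω)) y).ncard *
      (((ZS h.hd (St P ω)).relIndex P.Λ : ℚ) + (ZS h.hd (St P ω')).relIndex P.Λ) ≤ mult h S y := by
  have h1 : ω ≠ ω' := fun e => hne (e ▸ mem_Orb_self h ω)
  have := mult_ge_Im' hP hS y (Y := YS h (St P ω)) {ω, ω'} (by simp [hω, hω', hY]) (by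
    intro a ha b hb ho
    simp only [Finset.mem_insert, Finset.mem_singleton] at ha hb
    rcases ha with rfl | rfl <;> rcases hb with rfl | rfl
    · rfl
    · exact absurd ho hne
    · exact absurd (Orb_symm ho) hne
    · rfl)
  rwa [Finset.sum_pair h1] at this

theorem mult_union (h : Pair P d f) (S S' : Set Ω) (y : Wp P d f) :
    mult h S y = mult h (S ∩ S') y + mult h (S ∩ S'ᶜ) y := by
  simp only [mult_def]
  rw [← Finset.sum_add_distrib]
  refine Finset.sum_congr rfl fun ω _ => ?_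
  by_cases h1 : ω ∈ S' <;> simp [h1]

omit [Fintype Ω] in
theorem two_orbits_le [Finite Ω] {h : Pair P d f} {ω ω' : Ω} (hne : ω' ∉ Orb h ω) :
    Nat.card (Orb h ω) + Nat.card (Orb h ω') ≤ Nat.card Ω := by
  rw [Nat.card_coe_set_eq, Nat.card_coe_set_eq, ← Set.ncard_union_eq, ← Set.ncard_univ]
  · exact Set.ncard_le_ncard (Set.subset_univ _)
  · rw [Set.disjoint_left]
    exact fun a h1 h2 => hne (Orb_trans h1 (Orb_symm h2))

end Action

theorem force_eq_mass : True := by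
  have := @Lev.cj.eq_1.{0,0}
  have := @Lev.cj.eq_def.{0,0}
  have := @LevAut.eq_1.{0,0}
  have := @LevAut.eq_def.{0,0}
  have := @img.eq_1.{0,0}
  have := @img.eq_def.{0,0}
  have := @Im.eq_1.{0,0}
  have := @Im.eq_def.{0,0}
  have := @mult.eq_1.{0,0,0}
  have := @mult.eq_def.{0,0,0}
  trivial

end H20.MD
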