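import Cfsg.Agent.Lib.MinDeg.Count

/-! Orthogonal spaces: additive subgroups with few images. -/

set_option autoImplicit false
set_option linter.unusedSectionVars false
set_option linter.unusedSimpArgs false
set_option linter.unusedVariables false

namespace H20.MD

open Module H28 H97
open scoped Classical

variable {F V : Type*} [Field F] [AddCommGroup V] [Module F V] [FiniteDimensional F V]

section General

variable {σ : F →+* F} {P : PQ F V σ}

theorem exists_B_ne_zero_of_lt (hP : P.B.SeparatingLeft) {U : Submodule F V}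
    (h : finrank F U < finrank F (perp P U)) :
    ∃ w ∈ perp P U, ∃ w' ∈ perp P U, P.B w w' ≠ 0 := by
  by_contra h1
  push Not at h1
  have h2 : perp P U ≤ perp P (perp P U) := fun w' hw' => mem_perp.2 fun w hw => h1 w hw w' hw'
  rw [perp_perp hP] at h2
  have := Submodule.finrank_mono h2
  omega

theorem exists_notMem_of_lt {X U : Submodule F V} (h : finrank F U < finrank F X) :
    ∃ x ∈ X, x ∉ U := by
  by_contra h1
  push Not at h1
  have := Submodule.finrank_mono (show X ≤ U from h1)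
  omega

/-- The non-zero vectors with a given value of the form. -/
noncomputable def lvl [Finite V] (P : PQ F V σ) (c : F) : Finset V :=
  (Set.toFinite {x | x ≠ 0 ∧ P.q x - c ∈ P.Λ}).toFinset

theorem mem_lvl [Finite V] {c : F} {x : V} : x ∈ lvl P c ↔ x ≠ 0 ∧ P.q x - c ∈ P.Λ := by
  simp [lvl]

theorem zero_not_mem_lvl [Finite V] (c : F) : (0 : V) ∉ lvl P c := by simp [mem_lvl]

theorem card_lvl_of_mem [Finite F] [Finite V] {c : F} (hc : c ∈ P.Λ) : (lvl P c).card + 1 = cnt P c := by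
  rw [← Finset.card_insert_of_notMem (zero_not_mem_lvl c), cnt_def, ← Set.ncard_coe_finset]
  change _ = Set.ncard {x | P.q x - c ∈ P.Λ}
  congr 1
  ext x
  by_cases hx : x = 0
  · simpa [hx] using P.Λ.sub_mem P.q_zero hc
  · simp [hx, mem_lvl]

theorem card_lvl_of_not_mem [Finite F] [Finite V] {c : F} (hc : c ∉ P.Λ) : (lvl P c).card = cnt P c := by
  rw [cnt_def, ← Set.ncard_coe_finset]
  change _ = Set.ncard {x | P.q x - c ∈ P.Λ}
  congr 1
  ext x
  by_cases hx : x = 0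
  · simpa [hx, mem_lvl] using fun h => hc (by simpa using P.Λ.sub_mem P.q_zero h)
  · simp [hx, mem_lvl]

theorem TS.span {Y : AddSubgroup V} (h1 : ∀ u ∈ Y, P.q u ∈ P.Λ) (h2 : ∀ u ∈ Y, ∀ u' ∈ Y, P.B u u' = 0) :
    TS P (Submodule.span F (Y : Set V)) := by
  have h3 : ∀ u ∈ Submodule.span F (Y : Set V), ∀ u' ∈ Submodule.span F (Y : Set V), P.B u u' = 0 := by
    intro u hu u' hu'
    have : Submodule.span F (Y : Set V) ≤ perp P (Submodule.span F (Y : Set V)) :=
      Submodule.span_le.2 fun x hx => mem_perp_span.2 fun v hv => h2 v hv x hx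
    exact mem_perp.1 (this hu') u hu
  refine ⟨fun u hu => ?_, h3⟩
  induction hu using Submodule.span_induction with
  | mem x hx => exact h1 x hx
  | zero => exact P.q_zero
  | add x y hx hy h4 h5 => exact sing_add h4 h5 (h3 x hx y hy)
  | smul a x _ h4 => exact P.q_smul_mem h4 a

theorem two_le_finrank {U : Submodule F V} {x y : V} (hx : x ∈ U) (hy : y ∈ U) (hy0 : y ≠ 0)
    (hxy : x ∉ F ∙ y) : 2 ≤ finrank F U := by
  have h1 : (F ∙ y) < U := lt_of_le_of_ne ((Submodule.span_singleton_le_iff_mem _ _).2 hy)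
    fun e => hxy (e ▸ hx)
  have := Submodule.finrank_lt_finrank_of_lt h1
  rw [finrank_span_singleton hy0] at this
  omega

theorem card_le_of_le [Finite F] [Finite V] {Y : AddSubgroup V} {U : Submodule F V}
    (h : ∀ v ∈ Y, v ∈ U) : Nat.card Y ≤ Nat.card F ^ finrank F U := by
  rw [← card_submodule]
  exact Nat.card_le_card_of_injective (fun v : Y => (⟨v.1, h v.1 v.2⟩ : U))
    fun _ _ e => Subtype.ext (congrArg (fun z : U => (z : V)) e)

end General

/-- Non-degenerate quadratic spaces. -/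
structure Orth (P : PQ F V (RingHom.id F)) : Prop where
  lam : P.Λ = ⊥
  nd : P.B.SeparatingLeft
  iso : IsoK P 3

variable {P : PQ F V (RingHom.id F)}

namespace Orth

theorem pw (o : Orth P) {d f : V} (h : Pair P d f) : Orth (Pw P d f) :=
  ⟨o.lam, h.nd o.nd, isoK_Pw o.iso d f⟩

theorem mem (o : Orth P) {c : F} : c ∈ P.Λ ↔ c = 0 := by rw [o.lam, AddSubgroup.mem_bot]

theorem sub_mem (o : Orth P) {c c' : F} : c - c' ∈ P.Λ ↔ c = c' := by rw [o.mem, sub_eq_zero]

theorem eps (o : Orth P) : P.ε = 1 := by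
  have := o.sub_mem.1 (P.sub_mem 1)
  simpa using this.symm

theorem q_add (o : Orth P) (x y : V) : P.q (x + y) = P.q x + P.q y + P.B x y := by
  have := o.mem.1 (P.q_add x y)
  linear_combination this

theorem q_smul (o : Orth P) (a : F) (x : V) : P.q (a • x) = a * a * P.q x :=
  o.sub_mem.1 (P.q_smul a x)

theorem q_neg (o : Orth P) (x : V) : P.q (-x) = P.q x := o.sub_mem.1 (P.q_neg x)

theorem q_sub (o : Orth P) (x y : V) : P.q (x - y) = P.q x + P.q y - P.B x y := by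
  rw [sub_eq_add_neg, o.q_add, o.q_neg, map_neg, ← sub_eq_add_neg]

theorem q_zero (o : Orth P) : P.q 0 = 0 := o.mem.1 P.q_zero

theorem symm (o : Orth P) (x y : V) : P.B y x = P.B x y := by rw [P.symm, o.eps, one_mul]; rfl

theorem self (o : Orth P) (x : V) : P.B x x = 2 * P.q x := by
  rw [P.self, o.eps, one_mul, two_mul]; rfl

theorem eu (o : Orth P) (r w : V) (c : F) (x : V) :
    eu P r w c x = x + (P.B w x - c * P.B r x) • r - P.B r x • w := by
  rw [eu_apply, o.eps, one_mul, one_mul]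

theorem eu_comp (o : Orth P) {r w w' : V} (hr : P.q r = 0) (hw : P.B r w = 0) (hw' : P.B r w' = 0)
    (x : V) : H97.eu P r w (P.q w) (H97.eu P r w' (P.q w') x) =
      H97.eu P r (w + w') (P.q (w + w')) x := by
  rw [H97.eu_comp (by simp [o.self, hr]) hw hw', o.q_add]

theorem card_lam (o : Orth P) : Nat.card P.Λ = 1 := by rw [o.lam]; simp

theorem idx (o : Orth P) [Finite F] {d : V} (hd : P.q d ∈ P.Λ) (H : Subgroup (V ≃ₗ[F] V)) :
    (ZS hd H).relIndex P.Λ = 1 := by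
  have := card_ZS_mul hd H
  rw [o.card_lam] at this
  exact Nat.eq_one_of_mul_eq_one_left this

theorem ZS_eq (o : Orth P) {d : V} (hd : P.q d ∈ P.Λ) (H : Subgroup (V ≃ₗ[F] V)) : ZS hd H = P.Λ :=
  le_antisymm (ZS_le hd H) (by rw [o.lam]; exact bot_le)

theorem ZS_bot (o : Orth P) {d : V} (hd : P.q d ∈ P.Λ) (H : Subgroup (V ≃ₗ[F] V)) : ZS hd H = ⊥ := by
  rw [o.ZS_eq, o.lam]

theorem B_of_q (o : Orth P) {A : Submodule F V} (h : ∀ w ∈ A, P.q w = 0) :
    ∀ w ∈ A, ∀ w' ∈ A, P.B w w' = 0 := fun w hw w' hw' => by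
  have := o.q_add w w'
  rw [h _ (A.add_mem hw hw'), h w hw, h w' hw'] at this
  simpa using this.symm

theorem exists_nonsing (o : Orth P) {U : Submodule F V} (h : ¬ perp P U ≤ U) :
    ∃ w ∈ perp P U, P.q w ≠ 0 := by
  by_contra h1
  push Not at h1
  refine h fun w' hw' => ?_
  rw [← perp_perp o.nd U]
  exact mem_perp.2 fun w hw => o.B_of_q h1 w hw w' hw'

theorem exists_q_ne (o : Orth P) (hn : 1 ≤ finrank F V) : ∃ w, P.q w ≠ 0 := by
  obtain ⟨w, -, hw⟩ := o.exists_nonsing (U := ⊥) fun h => by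
    have h1 := finrank_le_perp (P := P) (⊥ : Submodule F V)
    have h2 := Submodule.finrank_mono h
    rw [finrank_bot] at h1 h2
    omega
  exact ⟨w, hw⟩

theorem rich (o : Orth P) (hn : 7 ≤ finrank F V) : Rich P := by
  intro e s y y' h
  obtain ⟨a, b, z, rfl⟩ := h.decomp' y
  obtain ⟨a', b', z', rfl⟩ := h.decomp' y'
  have h1 := h.finrank_W
  obtain ⟨w, hw, hq⟩ := (o.pw h).exists_nonsing (U := Submodule.span F {z, z'}) fun h2 => by
    have h3 := finrank_le_perp (P := Pw P e s) (Submodule.span F {z, z'})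
    have h4 := Submodule.finrank_mono h2
    have h5 := finrank_span_pair_le (F := F) z z'
    omega
  rw [mem_perp_span] at hw
  have h2 : P.B z w = 0 := hw z (by simp)
  have h3 : P.B z' w = 0 := hw z' (by simp)
  exact ⟨w, P.q w, hq, by simp, W_d w, W_f w, by simp [W_d, W_f, h2], by simp [W_d, W_f, h3]⟩

/-- Invariance under the Eichler elements fixing `y`. -/
def Inv (P : PQ F V (RingHom.id F)) (Y : AddSubgroup V) (y : V) : Prop :=
  ∀ r w, P.q r = 0 → P.B r y = 0 → P.B r w = 0 → P.B y w = 0 → ∀ x ∈ Y, H97.eu P r w (P.q w) x ∈ Y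

theorem mem_of_inv (o : Orth P) (hn : 5 ≤ finrank F V) {Y : AddSubgroup V} {y r x : V}
    (hi : Inv P Y y) (hr : P.q r = 0) (hry : P.B r y = 0) (hx : x ∈ Y) (hrx : P.B r x ≠ 0) {w : V}
    (hw : P.B r w = 0) (hyw : P.B y w = 0) : w ∈ Y := by
  have hδ : ∀ w, P.B r w = 0 → P.B y w = 0 → (P.B w x - P.q w * P.B r x) • r - P.B r x • w ∈ Y :=
    fun w h1 h2 => by
      have := Y.sub_mem (hi r w hr hry h1 h2 x hx) hx
      rw [o.eu] at this
      convert this using 1
      abel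
  have h1 := finrank_le_perp (P := P) (Submodule.span F ({r, y} : Set V))
  have h2 := finrank_span_pair_le (F := F) r y
  obtain ⟨u, hu, u', hu', huu⟩ := exists_B_ne_zero_of_lt o.nd (U := Submodule.span F {r, y}) (by omega)
  rw [mem_perp_span] at hu hu'
  have u1 := hu r (by simp)
  have u2 := hu y (by simp)
  have u3 := hu' r (by simp)
  have u4 := hu' y (by simp)
  have hR : ∀ t : F, t • r ∈ Y := fun t => by
    set a := -(t * (P.B r x * P.B u u')⁻¹) with ha
    have := Y.sub_mem (Y.sub_mem (hδ (a • u + u') (by simp [u1, u3]) (by simp [u2, u4]))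
      (hδ (a • u) (by simp [u1]) (by simp [u2]))) (hδ u' u3 u4)
    convert this using 1
    have e : t = -(a * P.B u u' * P.B r x) := by rw [ha]; field_simp
    rw [o.q_add, e]
    simp only [map_add, map_smul, LinearMap.add_apply, LinearMap.smul_apply, smul_eq_mul,
      map_smulₛₗ, RingHom.id_apply]
    module
  have := Y.sub_mem (hR (P.B ((P.B r x)⁻¹ • w) x - P.q ((P.B r x)⁻¹ • w) * P.B r x))
    (hδ ((P.B r x)⁻¹ • w) (by simp [hw]) (by simp [hyw]))
  rwa [sub_sub_cancel, smul_smul, mul_inv_cancel₀ hrx, one_smul] at this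

theorem perp_le_of_inv (o : Orth P) (hn : 5 ≤ finrank F V) {Y : AddSubgroup V} {y x : V}
    (hi : Inv P Y y) (hx : x ∈ Y) (hxy : x ∉ F ∙ y) {v : V} (hv : P.B y v = 0) : v ∈ Y := by
  obtain ⟨r, hr, hry, hrx⟩ := o.iso.exists_sing_perp o.nd (by omega) hxy
  rw [o.mem] at hr
  have h1 := finrank_le_perp (P := P) (Submodule.span F ({r, y} : Set V))
  have h2 := finrank_span_pair_le (F := F) r y
  have h3 := finrank_span_singleton_le (F := F) y
  obtain ⟨x', hx', hx'y⟩ := exists_notMem_of_lt (X := perp P (Submodule.span F ({r, y} : Set V)))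
    (U := F ∙ y) (by omega)
  rw [mem_perp_span] at hx'
  have x1 := hx' r (by simp)
  have x2 := hx' y (by simp)
  have x3 := o.mem_of_inv hn hi hr hry hx hrx x1 x2
  obtain ⟨r', hr', hr'y, hr'x⟩ := o.iso.exists_sing_perp o.nd (by omega) hx'y
  rw [o.mem] at hr'
  set t := P.B r' v * (P.B r' x')⁻¹ with ht
  have h4 := o.mem_of_inv hn hi hr hry hx hrx (w := t • x') (by simp [x1]) (by simp [x2])
  have h5 := o.mem_of_inv hn hi hr' hr'y x3 hr'x (w := v - t • x') (by simp [ht, hr'x]) (by simp [hv, x2])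
  simpa using Y.add_mem h4 h5

theorem eu_pow (o : Orth P) {r w : V} (hr : P.q r = 0) (hw : P.B r w = 0) {γ : V ≃ₗ[F] V}
    (e : ∀ x, γ x = H97.eu P r w (P.q w) x) (n : ℕ) (x : V) :
    (γ ^ n) x = H97.eu P r ((n : F) • w) (P.q ((n : F) • w)) x := by
  induction n generalizing x with
  | zero => simp [o.q_zero, eu_zero]
  | succ n ih =>
    rw [pow_succ, le_mul_apply, ih, e, o.eu_comp hr (by simp [hw]) hw, Nat.cast_succ, add_smul, one_smul]

theorem inv_of_lt [Finite V] (o : Orth P) {p : ℕ} (hp : p.Prime) [CharP F p] {Γ : Subgroup (V ≃ₗ[F] V)}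
    (hΓ : EG P ≤ Γ) {Y : AddSubgroup V} {y : V} (hy : y ∈ Y) (h : (Im Γ Y y).ncard < p) :
    Inv P Y y := by
  intro r w hr hry hw hyw x hx
  obtain ⟨γ, hγ, e⟩ := has_eu_EG (P := P) (o.mem.2 hr) hw (c := P.q w) (by simp)
  have h1 := img_eq_of_lt (k := 1) hp (hΓ hγ) (by rw [e, eu_fix _ hry (P.eq_zero_symm hyw)]) hy
    (by ext z; rw [pow_one, o.eu_pow hr hw e]; simp [o.q_zero, eu_zero]) h
  rw [← e, ← h1]
  exact apply_mem_img.2 hx

theorem sub_or_top [Finite V] (o : Orth P) (hn : 5 ≤ finrank F V) {p : ℕ} (hp : p.Prime) [CharP F p]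
    {Γ : Subgroup (V ≃ₗ[F] V)} (hΓ : EG P ≤ Γ) {Y : AddSubgroup V} {y : V} (hy : y ∈ Y) (hy0 : y ≠ 0)
    (h : (Im Γ Y y).ncard < p) : (∀ v ∈ Y, v ∈ F ∙ y) ∨ Y = ⊤ := by
  by_cases h1 : ∀ v ∈ Y, v ∈ F ∙ y
  · exact Or.inl h1
  push Not at h1
  obtain ⟨x, hx, hxy⟩ := h1
  have h2 := fun v => o.perp_le_of_inv hn (o.inv_of_lt hp hΓ hy h) hx hxy (v := v)
  have h3 := finrank_span_singleton_le (F := F) y
  obtain ⟨e, f, he, hf, hef, he1, hf1⟩ := o.iso.exists_pair o.nd (F ∙ y) (by omega)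
  rw [mem_perp_singleton] at he1 hf1
  have h4 : P.B (e + P.q y • f) f = 1 := by simp [hef, P.self_eq_zero hf]
  have h5 : e + P.q y • f ∈ Y := h2 _ (by simp [he1, hf1])
  have h6 : e + P.q y • f ≠ 0 := fun e => by simp [e] at h4
  have h7 : e + P.q y • f ∉ F ∙ y := fun h => by
    obtain ⟨a, ha⟩ := Submodule.mem_span_singleton.1 h
    rw [← ha] at h4
    simp [hf1] at h4
  obtain ⟨γ, hγ, eγ⟩ := o.iso.exists_EG_apply_eq o.nd (by omega) hy0 h6
    (by simpa using P.Λ.neg_mem (q_pair he hf hef (P.q y)))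
  have h8 := fun v => o.perp_le_of_inv hn (o.inv_of_lt hp hΓ h5
    (by rwa [← eγ, ncard_Im_apply (hΓ hγ)])) hy (not_mem_span_symm hy0 h6 h7) (v := v)
  refine Or.inr (eq_top_iff.2 fun v _ => ?_)
  have := Y.add_mem (h8 (v - P.B (e + P.q y • f) v • f) (by rw [map_sub, map_smul, h4]; simp))
    (h2 (P.B (e + P.q y • f) v • f) (by rw [map_smul, hf1, smul_zero]))
  simpa using this

theorem exists_move (o : Orth P) (hn : 5 ≤ finrank F V) {x y : V} (hx : P.q x = 0) (hy : P.q y = 0)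
    (hxy : P.B x y = 0) (h : x ∉ F ∙ y) : ∃ γ ∈ EG P, γ y = y ∧ P.B (γ x) x ≠ 0 := by
  obtain ⟨r, hr, hry, hrx⟩ := o.iso.exists_sing_perp o.nd (by omega) h
  have h1 := finrank_le_perp (P := P) (Submodule.span F ({r, x, y} : Set V))
  have h2 := finrank_span_triple_le (F := F) r x y
  have h3 := finrank_span_singleton_le (F := F) y
  obtain ⟨w, hw, hq⟩ := o.exists_nonsing (U := Submodule.span F {r, x, y}) fun h4 => by
    obtain ⟨z, hz, hzy⟩ := exists_notMem_of_lt (X := perp P (Submodule.span F ({r, x, y} : Set V)))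
      (U := F ∙ y) (by omega)
    obtain ⟨a, b, c, rfl⟩ := Submodule.mem_span_triple.1 (h4 hz)
    rw [mem_perp_span] at hz
    have z1 := hz r (by simp)
    have z2 := hz x (by simp)
    simp only [map_add, map_smul, smul_eq_mul, P.self_eq_zero hr, hry, o.self x, hx, hxy, mul_zero,
      zero_add, add_zero, mul_eq_zero, hrx, o.symm r x, or_false] at z1 z2
    exact hzy (Submodule.mem_span_singleton.2 ⟨c, by simp [z1, z2]⟩)
  rw [mem_perp_span] at hw
  have w1 := hw r (by simp)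
  have w2 := hw x (by simp)
  have w3 := hw y (by simp)
  obtain ⟨γ, hγ, e⟩ := has_eu_EG (P := P) hr w1 (c := P.q w) (by simp)
  refine ⟨γ, hγ, by rw [e, eu_fix _ hry (P.eq_zero_symm w3)], ?_⟩
  rw [e, o.eu]
  simp [o.self, hx, P.eq_zero_symm w2, hq, hrx]

variable [Finite F] [Finite V]

theorem ts_ge (o : Orth P) (hn : 5 ≤ finrank F V) {Γ : Subgroup (V ≃ₗ[F] V)} (hΓ : EG P ≤ Γ)
    {Y : AddSubgroup V} {U : Submodule F V} (hU : TS P U) (hY : ∀ v ∈ Y, v ∈ U) {x y : V} (hy : y ∈ Y)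
    (hx : x ∈ Y) (hxy : x ∉ F ∙ y) :
    Nat.card F ^ (finrank F V - 2 - finrank F U) + 1 ≤ (Im Γ Y y).ncard := by
  obtain ⟨γ, hγ, e, hne⟩ := o.exists_move hn (o.mem.1 (hU.1 x (hY x hx))) (o.mem.1 (hU.1 y (hY y hy)))
    (hU.2 x (hY x hx) y (hY y hy)) hxy
  have h1 := family_le hΓ (U := U) (Y := Y) (r := γ x) (y := y)
    (isom_q (EG_le_isom hγ) (hU.1 x (hY x hx)))
    (by rw [← e, (EG_le_isom hγ).1]; exact hU.2 x (hY x hx) y (hY y hy)) {Y} (by
      simpa using ⟨self_mem_Im hy, hY, x, hx, hne⟩)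
  rw [Finset.card_singleton, mul_one] at h1
  have h2 : γ x ∉ U := fun h => hne (hU.2 _ h x (hY x hx))
  have h3 : {Y' ∈ Im Γ Y y | γ x ∈ Y' → γ x ∈ U} ⊂ Im Γ Y y :=
    ⟨Set.sep_subset _ _, fun h => h2 ((h (img_mem_Im hy (hΓ hγ) e)).2 (apply_mem_img.2 hx))⟩
  have := Set.ncard_lt_ncard h3
  omega

theorem finrank_ts (o : Orth P) {U : Submodule F V} (hU : TS P U) : 2 * finrank F U ≤ finrank F V :=
  two_mul_finrank_le_of_ts o.nd hU.2

theorem ts_ge' (o : Orth P) (hn : 5 ≤ finrank F V) {Γ : Subgroup (V ≃ₗ[F] V)} (hΓ : EG P ≤ Γ)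
    {Y : AddSubgroup V} {U : Submodule F V} (hU : TS P U) (hY : ∀ v ∈ Y, v ∈ U) {x y : V} (hy : y ∈ Y)
    (hx : x ∈ Y) (hxy : x ∉ F ∙ y) : Nat.card F + 1 ≤ (Im Γ Y y).ncard := by
  have h1 := o.ts_ge hn hΓ hU hY hy hx hxy
  have h2 := o.finrank_ts hU
  have h3 := Nat.pow_le_pow_right (Nat.card_pos (α := F))
    (show 1 ≤ finrank F V - 2 - finrank F U by omega)
  rw [pow_one] at h3
  omega

theorem ts_dim (o : Orth P) (hn : 5 ≤ finrank F V) {Γ : Subgroup (V ≃ₗ[F] V)} (hΓ : EG P ≤ Γ)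
    {Y : AddSubgroup V} {U : Submodule F V} (hU : TS P U) (hY : ∀ v ∈ Y, v ∈ U) {x y : V} (hy : y ∈ Y)
    (hx : x ∈ Y) (hxy : x ∉ F ∙ y) (h : (Im Γ Y y).ncard ≤ Nat.card F ^ 2) :
    finrank F V ≤ finrank F U + 3 := by
  have h1 := o.ts_ge hn hΓ hU hY hy hx hxy
  by_contra h2
  have h3 := Nat.pow_le_pow_right (Nat.card_pos (α := F))
    (show 2 ≤ finrank F V - 2 - finrank F U by omega)
  omega

theorem smul_mem_of_lt (o : Orth P) (hn : 5 ≤ finrank F V) {Γ : Subgroup (V ≃ₗ[F] V)} (hΓ : EG P ≤ Γ)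
    {Y : AddSubgroup V} {U : Submodule F V} (hU : TS P U) (hY : ∀ v ∈ Y, v ∈ U) {x y : V} (hy : y ∈ Y)
    (hx : x ∈ Y) (hxy : x ∉ F ∙ y) (h : (Im Γ Y y).ncard < 2 * Nat.card F) (a : F) : a • y ∈ Y := by
  obtain ⟨w, hw, hwx⟩ := exists_orth_of_notMem P.σσ P.B o.nd _ hxy
  have hq := hU.1 y (hY y hy)
  have w1 : P.B y (a • w) = 0 := by
    rw [map_smul, o.symm, hw y (Submodule.mem_span_singleton_self y), smul_zero]
  obtain ⟨τ, hτ, e⟩ := has_eu_EG (P := P) hq w1 (c := P.q (a • w)) (by simp)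
  have e1 : ∀ u ∈ U, τ u = u + P.B (a • w) u • y := fun u hu => by
    rw [e, o.eu, hU.2 y (hY y hy) u hu]
    simp
  have e2 : τ y = y := by rw [e1 y (hY y hy), o.symm, w1]; simp
  have e3 : τ x = x + a • y := by rw [e1 x (hY x hx)]; simp [hwx]
  by_cases hτY : img τ Y = Y
  · have : τ x ∈ Y := by rw [← hτY]; exact apply_mem_img.2 hx
    simpa [e3] using Y.sub_mem this hx
  obtain ⟨r, hr, hry, hrx⟩ := o.iso.exists_sing_perp o.nd (by omega) hxy
  have h1 := family_le hΓ (U := U) (Y := Y) hr hry {img τ Y, Y} (by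
    simp only [Finset.mem_insert, Finset.mem_singleton, forall_eq_or_imp, forall_eq]
    refine ⟨⟨img_mem_Im hy (hΓ hτ) e2, ?_, τ x, apply_mem_img.2 hx, by simpa [e3, hry]⟩,
      self_mem_Im hy, hY, x, hx, hrx⟩
    rintro _ ⟨u, hu, rfl⟩
    change τ u ∈ U
    rw [e1 u (hY u hu)]
    exact U.add_mem (hY u hu) (U.smul_mem _ (hY y hy)))
  rw [Finset.card_pair hτY] at h1
  have h2 := o.finrank_ts hU
  have h3 := Nat.pow_le_pow_right (Nat.card_pos (α := F))
    (show 1 ≤ finrank F V - 2 - finrank F U by omega)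
  have h4 : {Y' ∈ Im Γ Y y | r ∈ Y' → r ∈ U}.ncard ≤ (Im Γ Y y).ncard :=
    Set.ncard_le_ncard (Set.sep_subset _ _)
  rw [pow_one] at h3
  omega

/-- A totally singular subgroup with few images is a subspace. -/
theorem eq_span_of_lt (o : Orth P) (hn : 5 ≤ finrank F V) {Γ : Subgroup (V ≃ₗ[F] V)} (hΓ : EG P ≤ Γ)
    {Y : AddSubgroup V} (hU : TS P (Submodule.span F (Y : Set V))) {x y : V} (hy : y ∈ Y)
    (hy0 : y ≠ 0) (hx : x ∈ Y) (hxy : x ∉ F ∙ y)
    (h : ∀ v ∈ Y, v ≠ 0 → (Im Γ Y v).ncard < 2 * Nat.card F) :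
    Y = (Submodule.span F (Y : Set V)).toAddSubgroup := by
  have h1 : ∀ (a : F), ∀ v ∈ Y, a • v ∈ Y := fun a v hv => by
    by_cases hv0 : v = 0
    · simp [hv0]
    by_cases h2 : x ∈ F ∙ v
    · refine o.smul_mem_of_lt hn hΓ hU (fun v hv => Submodule.subset_span hv) hv hy (fun h3 => ?_)
        (h v hv hv0) a
      obtain ⟨b, rfl⟩ := Submodule.mem_span_singleton.1 h2
      obtain ⟨c, rfl⟩ := Submodule.mem_span_singleton.1 h3
      have hc : c ≠ 0 := fun e => hy0 (by simp [e])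
      exact hxy (Submodule.mem_span_singleton.2 ⟨b * c⁻¹, by simp [smul_smul, hc]⟩)
    · exact o.smul_mem_of_lt hn hΓ hU (fun v hv => Submodule.subset_span hv) hv hx h2 (h v hv hv0) a
  refine le_antisymm (fun v hv => Submodule.subset_span hv) fun v hv => ?_
  induction hv using Submodule.span_induction with
  | mem x hx => exact hx
  | zero => exact Y.zero_mem
  | add x y _ _ h4 h5 => exact Y.add_mem h4 h5
  | smul a x _ h4 => exact h1 a x h4

end Orth

theorem force_eq_orthA : True := by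
  have := @lvl.eq_1.{0,0}
  have := @lvl.eq_def.{0,0}
  have := @Orth.Inv.eq_1.{0,0}
  have := @Orth.Inv.eq_def.{0,0}
  trivial

end H20.MD
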