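import Cfsg.Agent.Lib.MinDeg.OrthN
import Cfsg.Agent.Lib.Orth12.Forms

/-! Minimal degrees of the orthogonal groups. -/

set_option autoImplicit false
set_option linter.unusedSectionVars false
set_option linter.unusedSimpArgs false
set_option linter.unusedVariables false

namespace H20.MD

open Module H28 H97
open scoped Classical

universe u v

section General

variable {F : Type u} {V : Type v} [Field F] [AddCommGroup V] [Module F V] [FiniteDimensional F V]
  [Finite F] [Finite V] {σ : F →+* F} {P : PQ F V σ}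

/-- Every action without fixed points has at least `N` points. -/
def MinAct (P : PQ F V σ) (N : ℕ) : Prop :=
  ∀ (Ω : Type v) [MulAction (EG P) Ω] [Fintype Ω] [Nonempty Ω], (∀ ω : Ω, ¬ EG P ≤ St P ω) →
    N ≤ Nat.card Ω

theorem finish {G : Type*} [Group G] (e : G ≃* EG P) {N : ℕ} (h1 : MinAct P N)
    (h2 : ∃ H : Subgroup (EG P), Subgroup.center (EG P) ≤ H ∧ H.index = N) :
    (∀ H : Subgroup (G ⧸ Subgroup.center G), H ≠ ⊤ → N ≤ H.index) ∧
      ∃ H : Subgroup (G ⧸ Subgroup.center G), H.index = N :=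
  quot_of_equiv e N (fun H hH => by
    have := Fintype.ofFinite (EG P ⧸ H)
    exact h1 (EG P ⧸ H) (not_le_St_quot hH)) h2

theorem exists_index_point {k : ℕ} (hK : IsoK P k) (hP : P.B.SeparatingLeft) (hn : k + 2 ≤ finrank F V)
    (h4 : 4 ≤ finrank F V) {c : F} {s : ℕ} (hs : (cls P c).card = s) (h0 : 0 < (lvl P c).card) :
    ∃ H : Subgroup (EG P), Subgroup.center (EG P) ≤ H ∧ H.index = s / (Nat.card F - 1) := by
  obtain ⟨v, hv⟩ := Finset.card_pos.1 h0
  obtain ⟨hv0, hq⟩ := mem_lvl.1 hv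
  refine ⟨_, center_le_stabA hK hP hn h4 (F ∙ v), ?_⟩
  have h1 := index_stab_point hK hP hn hv0
  have h2 : cls P (P.q v) = cls P c := by
    ext x
    simp only [mem_cls]
    refine and_congr_right fun _ => exists_congr fun a => and_congr_right fun _ => ⟨fun h => ?_, fun h => ?_⟩
    · convert P.Λ.add_mem h (P.norm_mem a _ hq) using 1
      ring
    · convert P.Λ.sub_mem h (P.norm_mem a _ hq) using 1
      ring
  have h3 : 1 < Nat.card F := Finite.one_lt_card
  rw [← hs, ← h2, ← h1, Nat.mul_div_cancel _ (by omega)]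

theorem div_le_of_le {s n k : ℕ} (h : s ≤ n * k) : s / k ≤ n := Nat.div_le_of_le_mul (by rwa [mul_comm])

theorem three_eq_zero (hq : Nat.card F = 3) : (3 : F) = 0 := by
  have := Orth.cast_card_eq_zero (F := F)
  rw [hq] at this
  exact_mod_cast this

theorem Orth.exists_minus (hq : Nat.card F = 3) (m : ℕ) : ∀ {V : Type v} [AddCommGroup V] [Module F V]
    [FiniteDimensional F V] [Finite V] {P : PQ F V (RingHom.id F)} (_ : Orth P)
    (_ : finrank F V = 2 * m + 1), ∃ c, c ≠ 0 ∧ cnt P c + 3 ^ m = 3 ^ (2 * m) := by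
  induction m with
  | zero =>
    intro V _ _ _ _ P o hn
    obtain ⟨u, hu⟩ := o.exists_q_ne (by omega)
    refine ⟨-P.q u, neg_ne_zero.2 hu, ?_⟩
    have : IsEmpty {x : V // P.q x - -P.q u ∈ P.Λ} := ⟨fun ⟨x, hx⟩ => by
      obtain ⟨a, rfl⟩ := (finrank_eq_one_iff_of_nonzero' u fun e => hu (by rw [e, o.q_zero])).1 hn x
      rw [o.sub_mem, o.q_smul] at hx
      have h1 : a * a = -1 := mul_right_cancel₀ hu (by rw [hx, neg_one_mul])
      have ha : a ≠ 0 := by rintro rfl; simp at h1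
      have := Fintype.ofFinite F
      have h2 := FiniteField.pow_card_sub_one_eq_one a ha
      rw [← Nat.card_eq_fintype_card, hq] at h2
      have h3 : (3 : F) = 0 := three_eq_zero hq
      exact one_ne_zero (by linear_combination h3 - h1 + h2 : (1 : F) = 0)⟩
    rw [cnt_def, Nat.card_of_isEmpty]
    rfl
  | succ m ih =>
    intro V _ _ _ _ P o hn
    obtain ⟨d, f, h⟩ := o.exists_pair (by omega)
    have h1 := h.finrank_W
    obtain ⟨c, hc, h2⟩ := ih (o.pw h) (by omega)
    refine ⟨c, hc, ?_⟩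
    rw [cnt_pair h, o.card_lam, card_submodule, hq, show finrank F (Wp P d f) = 2 * m + 1 by omega]
    calc _ = 3 * (cnt (Pw P d f) c + 3 ^ m) + 2 * 3 ^ (2 * m + 1) := by ring
      _ = _ := by rw [h2]; ring

theorem cls_eq_lvl_of_le {P : PQ F V (RingHom.id F)} (hq : Nat.card F = 2 ∨ Nat.card F = 3) (c : F) :
    cls P c = lvl P c := by
  refine le_antisymm (fun x hx => ?_) (lvl_subset_cls c)
  obtain ⟨h0, a, ha, h⟩ := mem_cls.1 hx
  have := Fintype.ofFinite F
  have h2 := FiniteField.pow_card_sub_one_eq_one a ha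
  rw [← Nat.card_eq_fintype_card] at h2
  have h3 : a * a = 1 := by
    rcases hq with hq | hq <;> rw [hq] at h2
    · have : a = 1 := by simpa using h2
      simp [this]
    · rw [← h2]; ring
  exact mem_lvl.2 ⟨h0, by simpa [h3] using h⟩

theorem orth_ofQuad {Q : QuadraticForm F V} (hQ : H12.Nondeg Q) : Orth (PQ.ofQuad Q) :=
  ⟨rfl, hQ, isoK_quad Q⟩

theorem card_lvl_ofQuad (Q : QuadraticForm F V) :
    (lvl (PQ.ofQuad Q) 0).card + 1 = Nat.card {v // Q v = 0} := by
  rw [card_lvl_of_mem (zero_mem _), cnt_def]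
  exact Nat.card_congr (Equiv.subtypeEquivRight fun x => by rw [sub_zero, ofQuad_q_mem])

theorem lvl_zero_le_of_even (hq : Nat.card F = 3) {Q : QuadraticForm F V} (hQ : H12.Nondeg Q)
    (he : Even (finrank F V)) (h : 3 * (lvl (PQ.ofQuad Q) 0).card + 1 ≤ Nat.card V) (c : F) :
    (lvl (PQ.ofQuad Q) 0).card ≤ (lvl (PQ.ofQuad Q) c).card := by
  have o := orth_ofQuad hQ
  by_cases hc : c = 0
  · rw [hc]
  obtain ⟨φ, hφ⟩ := exists_anti_isometry (Q := Q) (W := ⊤) (by
    rw [top_inf_eq, eq_bot_iff]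
    exact fun x hx => hQ x fun w => mem_perp'.1 hx w trivial) (by rwa [finrank_top])
  have h1 : (lvl (PQ.ofQuad Q) (-c)).card ≤ (lvl (PQ.ofQuad Q) c).card :=
    Finset.card_le_card_of_injOn (fun x => (φ ⟨x, trivial⟩ : V)) (fun x hx => by
      obtain ⟨h0, h1⟩ := o.mem_lvl'.1 hx
      refine o.mem_lvl'.2 ⟨fun e => h0 (congrArg Subtype.val
        ((map_eq_zero_iff φ φ.injective).1 (Subtype.ext e))), (hφ _).trans ?_⟩
      change Q x = -c at h1
      simp [h1]) fun x _ y _ e => congrArg Subtype.val (φ.injective (Subtype.ext e))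
  have := Fintype.ofFinite F
  have h3 : (3 : F) = 0 := three_eq_zero hq
  have h4 : c ≠ -c := fun e => hc (by linear_combination c * h3 - e)
  have h2 := o.sum_lvl
  rw [show (Finset.univ : Finset F) = {0, c, -c} from (Finset.eq_univ_of_card _ (by
    rw [Finset.card_eq_three.2 ⟨0, c, -c, Ne.symm hc, (neg_ne_zero.2 hc).symm, h4, rfl⟩,
      ← Nat.card_eq_fintype_card, hq])).symm, Finset.sum_insert (by simp [hc, Ne.symm hc]),
    Finset.sum_pair h4] at h2
  omega

end General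

variable {F : Type u} [Field F] [Fintype F]

/-- The commutator subgroup of the isometry group is generated by Eichler elements. -/
noncomputable def omegaEquiv {ι : Type} [Fintype ι] [DecidableEq ι] {Q : QuadraticForm F (ι → F)}
    (hQ : H12.Nondeg Q) (hn : 5 ≤ Fintype.card ι) : Cfsg.Omega F Q ≃* EG (PQ.ofQuad Q) :=
  (((Cfsg.Omega F Q).equivMapOfInjective _ (Subgroup.subtype_injective _)).trans
    (MulEquiv.subgroupCongr (omegaGL_eq hQ hn))).trans (pullEquiv _)

theorem orth_sing {ι : Type} [Fintype ι] [DecidableEq ι] {Q : QuadraticForm F (ι → F)}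
    (hQ : H12.Nondeg Q) (hn : 7 ≤ Fintype.card ι) {s : ℕ} (hs : (lvl (PQ.ofQuad Q) 0).card = s)
    (h1 : MinAct (PQ.ofQuad Q) (s / (Nat.card F - 1))) :
    (∀ H : Subgroup (Cfsg.POmega F Q), H ≠ ⊤ → s / (Nat.card F - 1) ≤ H.index) ∧
      ∃ H : Subgroup (Cfsg.POmega F Q), H.index = s / (Nat.card F - 1) := by
  have o := orth_ofQuad hQ
  have h2 : finrank F (ι → F) = Fintype.card ι := finrank_fintype_fun_eq_card F
  obtain ⟨d, f, h⟩ := o.exists_pair (by omega)
  exact finish (omegaEquiv hQ (by omega)) h1 (exists_index_point o.iso o.nd (by omega) (by omega) (c := 0)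
    (by rw [cls_eq_lvl_of_mem (zero_mem _), hs])
    (Finset.card_pos.2 ⟨d, mem_lvl.2 ⟨h.d_ne, by simpa using h.hd⟩⟩))

theorem orth_four {ι : Type} [Fintype ι] [DecidableEq ι] {Q : QuadraticForm F (ι → F)}
    (hQ : H12.Nondeg Q) (hn : 7 ≤ Fintype.card ι) (hq : 4 ≤ Nat.card F) {s : ℕ}
    (hs : (lvl (PQ.ofQuad Q) 0).card = s) :
    (∀ H : Subgroup (Cfsg.POmega F Q), H ≠ ⊤ → s / (Nat.card F - 1) ≤ H.index) ∧
      ∃ H : Subgroup (Cfsg.POmega F Q), H.index = s / (Nat.card F - 1) :=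
  orth_sing hQ hn hs fun Ω _ _ _ hne => div_le_of_le (hs ▸ (orth_ofQuad hQ).min_four
    (by rwa [finrank_fintype_fun_eq_card]) hq hne)

theorem lvl_QOdd (m : ℕ) : (lvl (PQ.ofQuad (H12.QOdd F m)) 0).card = Nat.card F ^ (2 * m) - 1 := by
  have h1 := card_lvl_ofQuad (H12.QOdd F m)
  have h2 : Nat.card {v // H12.QOdd F m v = 0} = Nat.card F ^ (2 * m) := by
    exact_mod_cast H12.card_zero_QOdd (F := F) m
  omega

theorem lvl_QPlus (m : ℕ) : (lvl (PQ.ofQuad (H12.QPlus F (m + 1))) 0).card =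
    (Nat.card F ^ (m + 1) - 1) * (Nat.card F ^ m + 1) := by
  have h1 := card_lvl_ofQuad (H12.QPlus F (m + 1))
  have h2 := H12.card_zero_QPlus (F := F) m
  have h3 : 1 ≤ Nat.card F ^ (m + 1) := Nat.one_le_pow _ _ Nat.card_pos
  zify [h3] at h1 ⊢
  linear_combination h1 + h2

theorem lvl_QMinus {a b : F} (h : H12.Aniso a b) (m : ℕ) :
    (lvl (PQ.ofQuad (H12.QMinus m a b)) 0).card = (Nat.card F ^ (m + 1) + 1) * (Nat.card F ^ m - 1) := by
  have h1 := card_lvl_ofQuad (H12.QMinus m a b)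
  have h2 := H12.card_zero_QMinus h m
  have h3 : 1 ≤ Nat.card F ^ m := Nat.one_le_pow _ _ Nat.card_pos
  zify [h3] at h1 ⊢
  linear_combination h1 + h2

theorem min_odd_three (hq : Nat.card F = 3) {m : ℕ} (hm : 3 ≤ m) :
    (∀ H : Subgroup (Cfsg.POmega F (H12.QOdd F m)), H ≠ ⊤ → 3 ^ m * (3 ^ m - 1) / 2 ≤ H.index) ∧
      ∃ H : Subgroup (Cfsg.POmega F (H12.QOdd F m)), H.index = 3 ^ m * (3 ^ m - 1) / 2 := by
  have h3 : (3 : F) = 0 := three_eq_zero hq
  have hQ := H12.nondeg_QOdd (F := F)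
    (fun h2 => one_ne_zero (by linear_combination h3 - h2 : (1 : F) = 0)) m
  have o := orth_ofQuad hQ
  have hn := H12.finrank_odd (F := F) m
  have e0 : 1 ≤ 3 ^ m := Nat.one_le_pow _ _ (by norm_num)
  have e1 : 3 ^ m * (3 ^ m - 1) + 3 ^ m = 3 ^ (2 * m) := by
    zify [e0]
    ring
  refine finish (omegaEquiv hQ (by simp; omega)) (fun Ω _ _ _ hne => ?_) ?_
  · by_contra hlt
    obtain ⟨c, hc⟩ := o.min_three (by omega) hq hne (by rw [hn, Nat.add_sub_cancel]; omega)
      (fun h => by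
        obtain rfl : m = 3 := by omega
        omega) (by omega)
    have := o.lvl_ge (j := m) (t := m) le_rfl (by omega) c
    rw [hq, ← two_mul] at this
    omega
  · obtain ⟨c, hc, h1⟩ := Orth.exists_minus hq m o hn
    rw [← card_lvl_of_not_mem (mt o.mem.1 hc)] at h1
    have h2 := exists_index_point o.iso o.nd (by omega) (by omega) (c := c) (s := 3 ^ m * (3 ^ m - 1))
      (by rw [cls_eq_lvl_of_le (Or.inr hq)]; omega) (by
        have : 1 < 3 ^ m := Nat.one_lt_pow (by omega) (by norm_num)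
        have : 0 < 3 ^ m * (3 ^ m - 1) := Nat.mul_pos (by omega) (by omega)
        omega)
    rwa [hq] at h2

theorem min_plus_two (hq : Nat.card F = 2) {m : ℕ} (hm : 3 ≤ m) :
    (∀ H : Subgroup (Cfsg.POmega F (H12.QPlus F (m + 1))), H ≠ ⊤ → 2 ^ m * (2 ^ (m + 1) - 1) ≤ H.index) ∧
      ∃ H : Subgroup (Cfsg.POmega F (H12.QPlus F (m + 1))), H.index = 2 ^ m * (2 ^ (m + 1) - 1) := by
  have hQ := H12.nondeg_QPlus (F := F) (m + 1)
  have o := orth_ofQuad hQ
  have hn := H12.finrank_plus (F := F) (m + 1)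
  have h0 := lvl_QPlus (F := F) m
  have h1 := o.lvl_two hq
  rw [card_space (F := F), hn, h0, hq] at h1
  rw [hq] at h0
  have h2 : 8 ≤ 2 ^ m := Nat.pow_le_pow_right two_pos hm
  have h3 : 1 ≤ 2 ^ (m + 1) := Nat.one_le_two_pow
  have e1 : (lvl (PQ.ofQuad (H12.QPlus F (m + 1))) 1).card = 2 ^ m * (2 ^ (m + 1) - 1) := by
    zify [h3] at h1 ⊢
    linear_combination h1
  have e2 : 2 ^ m * (2 ^ (m + 1) - 1) + 2 ^ m = 2 ^ (2 * (m + 1) - 1) := by
    rw [show 2 * (m + 1) - 1 = 2 * m + 1 by omega]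
    zify [h3]
    ring
  refine finish (omegaEquiv hQ (by simp; omega)) (fun Ω _ _ _ hne => ?_) ?_
  · by_contra hlt
    obtain ⟨c, hc⟩ := o.min_two (by omega) hq hne (by rw [hn]; omega) (fun h => by
        obtain rfl : m = 3 := by omega
        omega)
    by_cases hc0 : c = 0
    · rw [hc0, h0, mul_comm, add_mul] at hc
      omega
    · rw [Orth.eq_one_of_card_two hq c hc0] at hc
      omega
  · have h4 := exists_index_point o.iso o.nd (by omega) (by omega) (c := 1)
      ((congrArg Finset.card (cls_eq_lvl_of_le (Or.inl hq) 1)).trans e1)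
      (by rw [e1]; exact Nat.mul_pos (by omega) (by rw [pow_succ]; omega))
    rwa [hq, Nat.div_one] at h4

theorem min_minus {a b : F} (h : H12.Aniso a b) {m : ℕ} (hm : 3 ≤ m) :
    (∀ H : Subgroup (Cfsg.POmega F (H12.QMinus m a b)), H ≠ ⊤ →
      (Nat.card F ^ (m + 1) + 1) * (Nat.card F ^ m - 1) / (Nat.card F - 1) ≤ H.index) ∧
    ∃ H : Subgroup (Cfsg.POmega F (H12.QMinus m a b)),
      H.index = (Nat.card F ^ (m + 1) + 1) * (Nat.card F ^ m - 1) / (Nat.card F - 1) := by
  have hQ := H12.nondeg_QMinus h m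
  have o := orth_ofQuad hQ
  have hn := H12.finrank_minus (F := F) m
  have h0 := lvl_QMinus h m
  have h1 : 2 ≤ Nat.card F := Finite.one_lt_card
  have hc : 7 ≤ Fintype.card ((Fin m ⊕ Fin m) ⊕ Fin 2) := by simp; omega
  have hV := card_space (F := F) (V := (Fin m ⊕ Fin m) ⊕ Fin 2 → F)
  rw [hn] at hV
  have e1 : (Nat.card F ^ (m + 1) + 1) * (Nat.card F ^ m - 1) + Nat.card F ^ (m + 1) + 1 =
      Nat.card F ^ (2 * m + 1) + Nat.card F ^ m := by
    have : 1 ≤ Nat.card F ^ m := Nat.one_le_pow _ _ Nat.card_pos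
    zify [this]
    ring
  rcases (by omega : Nat.card F = 2 ∨ Nat.card F = 3 ∨ 4 ≤ Nat.card F) with hq | hq | hq
  · refine orth_sing hQ hc h0 fun Ω _ _ _ hne => ?_
    by_contra hlt
    have h2 := o.lvl_two hq
    rw [hV] at h2
    rw [hq] at h0 hlt h2 e1
    have h3 : 8 ≤ 2 ^ m := Nat.pow_le_pow_right two_pos hm
    rw [pow_succ 2 m] at e1 h0 hlt
    obtain ⟨c, hc⟩ := o.min_two (by omega) hq hne (by rw [hn, show 2 * m + 2 - 1 = 2 * m + 1 by omega]; omega)
      (fun h => by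
        obtain rfl : m = 3 := by omega
        omega)
    by_cases hc0 : c = 0
    · rw [hc0] at hc
      omega
    · rw [Orth.eq_one_of_card_two hq c hc0] at hc
      rw [pow_succ 2 (2 * m + 1)] at h2
      omega
  · refine orth_sing hQ hc h0 fun Ω _ _ _ hne => ?_
    by_contra hlt
    rw [hq] at h0 hlt e1 hV
    rw [pow_succ 3 m] at e1 h0 hlt
    obtain ⟨c, hc⟩ := o.min_three (by omega) hq hne
      (by rw [hn, show 2 * m + 2 - 1 = 2 * m + 1 by omega]; omega) (by omega) (fun h => by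
        obtain rfl : m = 3 := by omega
        omega)
    have := lvl_zero_le_of_even hq hQ (by rw [hn]; exact ⟨m + 1, by ring⟩) (by
      rw [hV, pow_succ 3 (2 * m + 1)]
      have : 1 ≤ 3 ^ m := Nat.one_le_pow _ _ (by norm_num)
      omega) c
    omega
  · exact orth_four hQ hc hq h0

theorem force_eq_orthF : True := by
  have := @MinAct.eq_1.{0,0}
  have := @MinAct.eq_def.{0,0}
  have := @omegaEquiv.eq_1.{0}
  have := @omegaEquiv.eq_def.{0}
  trivial

end H20.MD
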