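import Cfsg.Agent.Lib.MinDeg.Reg

/-! Orthogonal groups: the exceptional annihilators in dimensions seven and eight. -/

set_option autoImplicit false
set_option linter.unusedSectionVars false
set_option linter.unusedSimpArgs false
set_option linter.unusedVariables false

namespace H20.MD

open Module H28 H97
open scoped Classical

variable {F V : Type*} [Field F] [AddCommGroup V] [Module F V] [FiniteDimensional F V]
  [Finite F] [Finite V]

section General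

variable {σ : F →+* F} {P : PQ F V σ} {d f : V}

theorem img_eq_of_smul {W : Type*} [AddCommGroup W] [Module F W] [Finite W] {γ : W ≃ₗ[F] W}
    {U : Submodule F W} (h : ∀ u ∈ U, γ u ∈ U) : img γ U.toAddSubgroup = U.toAddSubgroup :=
  img_eq_of_maps h

theorem Lev.YS_eq {Ω : Type*} [MulAction (EG P) Ω] {h : Pair P d f} {g : EG P} {a : F}
    (hg : Lev d f g a) {ω : Ω} {U : Submodule F (Wp P d f)} (hY : YS h (St P ω) = U.toAddSubgroup)
    (hU : ∀ u ∈ U, ∀ u' : Wp P d f, g.1 u = u' → u' ∈ U) : YS h (St P (g • ω)) = U.toAddSubgroup := by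
  rw [hg.YS_smul (γ := hg.rho) (fun y => by
    rw [hg.rho_apply, smul_smul, mul_inv_cancel₀ hg.ne, one_smul]), hY]
  refine img_eq_of_smul fun u hu => ?_
  have : hg.rho u = a⁻¹ • ⟨g.1 u, hg.mem_W u⟩ := Subtype.ext rfl
  rw [this]
  exact U.smul_mem _ (hU u hu _ rfl)

theorem Pair.mem_XS_of_perp (hP : P.B.SeparatingLeft) (h : Pair P d f) {H : Subgroup (V ≃ₗ[F] V)}
    {U : Submodule F (Wp P d f)} (hY : YS h H = U.toAddSubgroup) {w : Wp P d f}
    (hw : ∀ u ∈ U, P.B w u = 0) : w ∈ XS h H :=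
  mem_of_annR (h.nd hP) fun y hy => hw y (by rw [← YS_def, hY] at hy; exact hy)

/-- Images through `f` of a subgroup `L` map onto the images of `L ∩ W`. -/
theorem ncard_Im_comap_le (h : Pair P d f) {L : AddSubgroup V} (hf : f ∈ L) :
    (Im (EG (Pw P d f)) (L.comap (Wp P d f).subtype.toAddMonoidHom) 0).ncard ≤
      (Im (EG P) L f).ncard := by
  refine le_trans (Set.ncard_le_ncard ?_) (Set.ncard_image_le
    (f := fun L' : AddSubgroup V => L'.comap (Wp P d f).subtype.toAddMonoidHom))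
  rintro _ ⟨⟨γ, hγ, rfl⟩, -⟩
  obtain ⟨g, hg, e⟩ := exists_ext hγ
  refine ⟨img g.1 L, img_mem_Im hf g.2 (by simpa using hg.gf), ?_⟩
  ext y
  obtain ⟨y, rfl⟩ := γ.surjective y
  rw [apply_mem_img]
  change (γ y : V) ∈ img g.1 L ↔ (y : V) ∈ L
  rw [← e, apply_mem_img]

/-- The span of the points whose full unipotent radical lies in `H`. -/
def XSpan (P : PQ F V σ) (H : Subgroup (V ≃ₗ[F] V)) : Submodule F V :=
  Submodule.span F {s | P.q s ∈ P.Λ ∧ XLe P H s}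

theorem mem_XSpan {H : Subgroup (V ≃ₗ[F] V)} {s : V} (h1 : P.q s ∈ P.Λ) (h2 : XLe P H s) :
    s ∈ XSpan P H := Submodule.subset_span ⟨h1, h2⟩

theorem XSpan_maps {H : Subgroup (V ≃ₗ[F] V)} (hH : H ≤ P.Isom) {g : V ≃ₗ[F] V} (hg : g ∈ H) :
    ∀ v ∈ XSpan P H, g v ∈ XSpan P H := by
  intro v hv
  induction hv using Submodule.span_induction with
  | mem x hx => exact mem_XSpan (isom_q (hH hg) hx.1) (hx.2.apply hg (hH hg))
  | zero => simp
  | add x y _ _ h4 h5 => rw [map_add]; exact Submodule.add_mem _ h4 h5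
  | smul a x _ h4 => rw [map_smul]; exact Submodule.smul_mem _ _ h4

theorem XSpan_ts (hP : P.B.SeparatingLeft) {H : Subgroup (V ≃ₗ[F] V)} (hne : ¬ EG P ≤ H) :
    TS P (XSpan P H) := by
  have h3 : ∀ u ∈ XSpan P H, ∀ u' ∈ XSpan P H, P.B u u' = 0 := by
    intro u hu u' hu'
    have : XSpan P H ≤ perp P (XSpan P H) :=
      Submodule.span_le.2 fun x hx => mem_perp_span.2 fun v hv => by
        by_contra h
        exact hne (EG_le_of_xle hP hv.1 hx.1 hv.2 hx.2 h)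
    exact mem_perp.1 (this hu') u hu
  refine ⟨fun u hu => ?_, h3⟩
  induction hu using Submodule.span_induction with
  | mem x hx => exact hx.1
  | zero => exact P.q_zero
  | add x y hx hy h4 h5 => exact sing_add h4 h5 (h3 x hx y hy)
  | smul a x _ h4 => exact P.q_smul_mem h4 a

theorem card_lvl_le_of_stab {k : ℕ} (hK : IsoK P k) (hP : P.B.SeparatingLeft)
    (hn : k + 2 ≤ finrank F V) {Ω : Type*} [MulAction (EG P) Ω] [Finite Ω] {ω : Ω} {v : V} (hv : v ≠ 0)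
    (hq : P.q v ∈ P.Λ) (h : St P ω ≤ stab (F ∙ v)) :
    (lvl P 0).card ≤ Nat.card Ω * (Nat.card F - 1) :=
  le_card_of_le_stab hv h _ fun y hy => exists_smul_EG hK hP hn hv (mem_lvl.1 hy).1 one_ne_zero
    (by simpa using P.Λ.sub_mem (mem_lvl.1 hy).2 hq)

/-- The exceptional type of annihilator. -/
def TypeM (h : Pair P d f) (H : Subgroup (V ≃ₗ[F] V)) : Prop :=
  ∃ U : Submodule F (Wp P d f), TS (Pw P d f) U ∧ YS h H = U.toAddSubgroup ∧ 2 ≤ finrank F U ∧
    finrank F (Wp P d f) ≤ finrank F U + 3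

end General

variable {P : PQ F V (RingHom.id F)} {d f : V}

namespace Orth

theorem ts_all (o : Orth P) (hn : 5 ≤ finrank F V) {Γ : Subgroup (V ≃ₗ[F] V)} (hΓ : EG P ≤ Γ)
    {U : Submodule F V} (hU : TS P U) (h2 : 2 ≤ finrank F U) {y : V} (hy : y ∈ lvl P 0) :
    Nat.card F + 1 ≤ (Im Γ U.toAddSubgroup y).ncard := by
  obtain ⟨y₀, hy₀, hy₀0⟩ := exists_ne_zero_mem (X := U) (by omega)
  have h3 := finrank_span_singleton_le (F := F) y₀
  obtain ⟨x, hx, hxy⟩ := exists_notMem_of_lt (X := U) (U := F ∙ y₀) (by omega)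
  obtain ⟨γ, hγ, rfl⟩ := o.iso.exists_EG_apply_eq o.nd hn hy₀0 (mem_lvl.1 hy).1
    (P.Λ.sub_mem (hU.1 _ hy₀) (by simpa using (mem_lvl.1 hy).2))
  rw [ncard_Im_apply (hΓ hγ)]
  exact o.ts_ge' hn hΓ hU (fun v hv => hv) hy₀ hx hxy

variable {Ω : Type*} [MulAction (EG P) Ω] [Fintype Ω]

theorem exists_xle_of_typeM (o : Orth P) (hn : 7 ≤ finrank F V) (hq : 4 ≤ Nat.card F) (h : Pair P d f)
    (hb : ∀ y ∈ lvl (Pw P d f) 0, mult h (Set.univ : Set Ω) y < Nat.card F + 2) {ω : Ω}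
    (hM : TypeM h (St P ω)) : ∃ ω' : Ω, XLe P (St P ω') d := by
  obtain ⟨U, hU, hY, h2, -⟩ := hM
  have hW := h.finrank_W
  have hβ := fun y => (o.pw h).ts_all (by omega) EG_le_LevAut hU h2 (y := y)
  obtain ⟨e, he, he0⟩ := exists_ne_zero_mem (X := U) (by omega)
  have he1 : e ∈ lvl (Pw P d f) 0 := mem_lvl.2 ⟨he0, by simpa using hU.1 e he⟩
  have heq : P.q e ∈ P.Λ := hU.1 e he
  have uniq : ∀ ω₁ ω₂ : Ω, YS h (St P ω₁) = U.toAddSubgroup → YS h (St P ω₂) = U.toAddSubgroup →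
      ω₂ ∈ Orb h ω₁ := fun ω₁ ω₂ e₁ e₂ => by
    by_contra hne
    have h3 := mult_ge_Im_two o.nd (closed_univ h) e trivial trivial (e₂.trans e₁.symm) hne
    rw [o.idx, o.idx, e₁] at h3
    have h4 : ((Nat.card F + 1 : ℕ) : ℚ) ≤ _ := Nat.cast_le.2 (hβ e he1)
    have h5 := hb e he1
    have h6 : (4 : ℚ) ≤ Nat.card F := by exact_mod_cast hq
    push_cast at h3 h4
    linarith
  obtain ⟨a, ha, ha1⟩ := exists_sq_ne_one hq
  obtain ⟨t, ht, hw, hf⟩ := o.exists_tor (by omega) h ha ha1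
  obtain ⟨ω', ho, hfix⟩ := ht.exists_fix h hf (uniq _ _ hY (ht.YS_eq hY fun u hu u' e => by
    rw [hw] at e; exact Subtype.ext e ▸ hu))
  have hY' : YS h (St P ω') = U.toAddSubgroup := by rw [YS_eq_of_Orb ho, hY]
  have h3 : ∀ w : Wp P d f, P.B e w = 0 → Has (St P ω') (H97.eu P e w (P.q w)) := fun w hw1 =>
    has_of_tor h ht hw hf hfix heq hw1 (by simp) (uniq _ _ hY' ((lev_euG _ _ _).YS_eq hY'
      fun u hu u' e1 => by
        have h4 : P.B e u = 0 := hU.2 e he u hu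
        rw [euG_apply, o.eu, h4] at e1
        have : u' = u + P.B w u • e := Subtype.ext (by rw [← e1]; simp)
        rw [this]
        exact U.add_mem hu (U.smul_mem _ he)))
  have h4 : ∀ b : F, Has (St P ω') (H97.eu P e (b • d) 0) := has_swap' fun a => by
    obtain ⟨c, hc, h5⟩ := h.mem_XS_of_perp o.nd hY' (w := a • e) fun u hu => by
      have : P.B e u = 0 := hU.2 e he u hu
      simp [this]
    have : c = 0 := by simpa [o.mem, o.q_smul, o.mem.1 heq] using hc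
    exact this ▸ h5
  have h5 : XRel P (St P ω') e d := by
    intro w c hw1 hw2 hc
    obtain ⟨α, β, w', rfl⟩ := h.decomp' w
    rw [h.B_d_comb] at hw2
    subst hw2
    simp only [zero_smul, add_zero, map_add, map_smul, W_d', smul_zero, zero_add] at hw1 hc ⊢
    have h6 := has_eu_add heq (by simp [W_d']) hw1 (h4 α) (h3 w' hw1)
    rw [o.sub_mem.1 hc, o.q_add, o.q_smul, o.mem.1 h.hd]
    simpa using h6
  obtain ⟨g, hg, eg⟩ := o.iso.exists_EG_apply_eq o.nd (by omega) (x := (e : V)) (by simpa using he0)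
    h.d_ne (P.Λ.sub_mem heq h.hd)
  have h6 := h5.st ⟨g, hg⟩
  simp only [eg] at h6
  obtain ⟨α, β, y, ey⟩ := h.decomp' (g d)
  have h7 : β = 0 := by
    rw [← h.B_d_comb α β y, ← ey, ← W_d' e, ← (EG_le_isom hg).1 e d, eg]
  have h8 : P.q y = 0 := by
    have := o.sub_mem.1 (h.q_comb α β y)
    rw [← ey, o.sub_mem.1 ((EG_le_isom hg).2 d), o.mem.1 h.hd, h7] at this
    simpa using this.symm
  have h9 : XRel P (St P ((⟨g, hg⟩ : EG P) • ω')) d y := by
    have := h6.add_smul (-α)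
    rwa [ey, h7, show α • d + (0 : F) • f + (y : V) + -α • d = y by module] at this
  have h10 := h.YS_sub_of_xrel o.nd h9
  refine ⟨(⟨g, hg⟩ : EG P) • ω', h.xle_iff.2 ⟨(annR_eq_bot_iff (h.nd o.nd)).1 (eq_bot_iff.2 fun v hv => ?_),
    o.ZS_eq _ _⟩⟩
  by_contra hv0
  have hv1 : v ∈ lvl (Pw P d f) 0 := by
    obtain ⟨b, rfl⟩ := Submodule.mem_span_singleton.1 (h10 v hv)
    exact mem_lvl.2 ⟨hv0, by simp [o.mem, Pw_q, o.q_smul, h8]⟩
  have hS := closed_card (Ω := Ω) h fun _ b => b ≤ Nat.card F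
  have h11 := mult_ge_Im o.nd ((closed_univ h).inter hS) v (ω := (⟨g, hg⟩ : EG P) • ω') ⟨trivial, by
    have := card_le_of_le h10
    exact this.trans (by simpa using (Nat.pow_le_pow_right Nat.card_pos (finrank_span_singleton_le y)))⟩
  have h12 := mult_ge_Im o.nd ((closed_univ h).inter hS.compl) v (ω := ω) ⟨trivial, by
    change ¬ Nat.card (YS h (St P ω)) ≤ Nat.card F
    rw [hY]
    have h13 : Nat.card U.toAddSubgroup = Nat.card F ^ finrank F U := card_submodule U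
    have h14 := Nat.pow_le_pow_right (Nat.card_pos (α := F)) h2
    rw [h13]
    nlinarith⟩
  have h13 := hb v hv1
  rw [mult_union h _ {ω : Ω | Nat.card (YS h (St P ω)) ≤ Nat.card F}] at h13
  rw [o.idx] at h11 h12
  rw [hY] at h12
  have h14 : ((Nat.card F + 1 : ℕ) : ℚ) ≤ _ := Nat.cast_le.2 (hβ v hv1)
  have h15 : ((1 : ℕ) : ℚ) ≤ _ := Nat.cast_le.2 (one_le_ncard_Im (Γ := LevAut P d f) hv)
  push_cast at h11 h12 h14 h15
  rw [← YS_def] at h15
  linarith

theorem card_ge_of_solid (o : Orth P) (h : Pair P d f) (hW : finrank F (Wp P d f) = 6) {ω : Ω}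
    (hne : ¬ EG P ≤ St P ω) (hf : XLe P (St P ω) f) {U : Submodule F (Wp P d f)}
    (hU : TS (Pw P d f) U) (h3 : finrank F U = 3) (hX : ∀ u ∈ U, u ∈ XS h (St P ω)) :
    (lvl P 0).card ≤ Nat.card Ω * (Nat.card F - 1) := by
  have hn := h.finrank_W
  have hL := XSpan_ts o.nd hne
  have hfL := mem_XSpan h.hf hf
  have hUL : ∀ u ∈ U, (u : V) ∈ XSpan P (St P ω) := fun u hu => by
    obtain ⟨c, hc, g, hg, e⟩ := hX u hu
    have h1 := XSpan_maps (St_le_isom ω) hg f hfL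
    have : c = 0 := by rw [o.sub_mem.1 hc]; exact o.mem.1 (hU.1 u hu)
    rw [e, h.eu_f, this, o.eps] at h1
    simpa using Submodule.sub_mem _ hfL h1
  have hc : (XSpan P (St P ω)).comap (Wp P d f).subtype = U := by
    symm
    refine Submodule.eq_of_le_of_finrank_le (fun u hu => hUL u hu) ?_
    have := (o.pw h).finrank_ts (U := (XSpan P (St P ω)).comap (Wp P d f).subtype)
      ⟨fun u hu => hL.1 _ hu, fun u hu u' hu' => hL.2 _ hu _ hu'⟩
    omega
  have h1 := ncard_Im_comap_le h (L := (XSpan P (St P ω)).toAddSubgroup) hfL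
  rw [show (XSpan P (St P ω)).toAddSubgroup.comap (Wp P d f).subtype.toAddMonoidHom =
    U.toAddSubgroup by rw [← hc]; rfl] at h1
  have h2 := mul_le_ncard_Im (Γ := EG (Pw P d f)) (Y := U.toAddSubgroup) _ (zero_not_mem_lvl 0)
    fun y hy => (o.pw h).ts_all (by omega) le_rfl hU (by omega) hy
  have h4 := mul_le_ncard_Im (Γ := EG P) (Y := (XSpan P (St P ω)).toAddSubgroup) _
    (zero_not_mem_lvl (P := P) 0) (t := (Im (EG (Pw P d f)) U.toAddSubgroup 0).ncard) fun y hy => by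
      obtain ⟨γ, hγ, rfl⟩ := o.iso.exists_EG_apply_eq o.nd (by omega) h.f_ne (mem_lvl.1 hy).1
        (P.Λ.sub_mem h.hf (by simpa using (mem_lvl.1 hy).2))
      rwa [ncard_Im_apply hγ]
  have h5 := ncard_Im_le_card (ω := ω) (L := (XSpan P (St P ω)).toAddSubgroup)
    fun g hg => XSpan_maps (St_le_isom ω) hg
  have h6 := cnt_ge 3 (h.nd o.nd) hU h3.ge 0
  rw [if_pos (zero_mem _), ← card_lvl_of_mem (zero_mem _), Pw_Λ, o.card_lam, card_submodule, hW] at h6
  have h7 : Nat.card U.toAddSubgroup = Nat.card F ^ 3 := by rw [← h3]; exact card_submodule U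
  have h8 : Nat.card (XSpan P (St P ω)).toAddSubgroup ≤ Nat.card F ^ 4 := by
    have := o.finrank_ts hL
    exact (card_submodule (XSpan P (St P ω))).le.trans (Nat.pow_le_pow_right Nat.card_pos (by omega))
  rw [h7] at h2
  have h9 := h4.trans (Nat.mul_le_mul h5 (Nat.sub_le_sub_right h8 1))
  obtain ⟨q, hq⟩ : ∃ q, Nat.card F = q + 2 := ⟨Nat.card F - 2, by
    have : 2 ≤ Nat.card F := Finite.one_lt_card
    omega⟩
  rw [hq] at h2 h6 h9 ⊢
  generalize (lvl P 0).card = s at *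
  generalize (lvl (Pw P d f) 0).card = s' at *
  generalize (Im (EG (Pw P d f)) U.toAddSubgroup 0).ncard = t at *
  have e3 : (q + 2) ^ 3 - 1 = (q + 1) * ((q + 2) ^ 2 + (q + 2) + 1) := by
    rw [Nat.sub_eq_of_eq_add]; ring
  have e4 : (q + 2) ^ 4 - 1 = (q + 1) * ((q + 3) * ((q + 2) ^ 2 + 1)) := by
    rw [Nat.sub_eq_of_eq_add]; ring
  have h10 : ((q + 2) ^ 3 - 1) * ((q + 2) ^ 2 + 1) ≤ s' := by
    refine Nat.le_of_mul_le_mul_right ?_ (show 0 < (q + 2) ^ 4 by positivity)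
    rw [e3]
    have e5 : (q + 1) * ((q + 2) ^ 2 + (q + 2) + 1) * ((q + 2) ^ 2 + 1) * (q + 2) ^ 4 + (q + 2) ^ 4 +
      1 * (q + 2) ^ 6 = (q + 2) ^ 3 * (1 * (q + 2) ^ 6) + (q + 2) ^ (2 * 3 + 1) := by ring
    have e6 : (s' + 1) * (q + 2) ^ (3 + 1) = s' * (q + 2) ^ 4 + (q + 2) ^ 4 := by ring
    omega
  have h11 : (q + 3) * ((q + 2) ^ 2 + 1) ≤ t := by
    refine Nat.le_of_mul_le_mul_right ?_ (show 0 < (q + 2) ^ 3 - 1 by rw [e3]; positivity)
    refine le_trans ?_ h2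
    calc _ = ((q + 2) ^ 3 - 1) * ((q + 2) ^ 2 + 1) * (q + 2 + 1) := by ring
      _ ≤ _ := Nat.mul_le_mul_right _ h10
  refine Nat.le_of_mul_le_mul_right ?_ (show 0 < (q + 3) * ((q + 2) ^ 2 + 1) by positivity)
  refine (Nat.mul_le_mul_left s h11).trans (h9.trans_eq ?_)
  rw [e4, show q + 2 - 1 = q + 1 from rfl]
  ring

theorem card_ge_of_typeM (o : Orth P) (hn : 7 ≤ finrank F V) (hq : 4 ≤ Nat.card F) (h : Pair P d f)
    (hne : ∀ ω : Ω, ¬ EG P ≤ St P ω)
    (hb : ∀ y ∈ lvl (Pw P d f) 0, mult h (Set.univ : Set Ω) y < Nat.card F + 2)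
    (hY : ∀ ω : Ω, YS h (St P ω) = ⊤ ∨ (∃ y, ∀ v ∈ YS h (St P ω), v ∈ F ∙ y) ∨ TypeM h (St P ω))
    {ω : Ω} (hM : TypeM h (St P ω)) : (lvl P 0).card ≤ Nat.card Ω * (Nat.card F - 1) := by
  obtain ⟨ω₁, h1⟩ := o.exists_xle_of_typeM hn hq h hb hM
  by_cases hst : St P ω₁ ≤ stab (F ∙ d)
  · exact card_lvl_le_of_stab o.iso o.nd (by omega) h.d_ne h.hd hst
  obtain ⟨s, d', hs, hsd, hds, h2, hd', h3, h4, h5⟩ :=
    exists_bad_of_xle o.iso o.nd (by omega) (St_le_isom ω₁) (hne ω₁) h.hd h.d_ne h1 hst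
  obtain ⟨g, g1, g2⟩ := (pair_of_ne hd' h.hd h4).exists_EG o.iso o.nd (by omega) h
  have h6 : XLe P (St P (g • ω₁)) f := by rw [← g2]; exact xle_st (h1.smul _) g
  have h7 := xle_st h2 g
  have h8 : g.1 s ∈ Wp P d f := ⟨by rw [← g1, EG_B, h3], by rw [← g2, EG_B]; simp [hds]⟩
  have h9 : g.1 s ≠ 0 := by
    rw [ne_eq, map_eq_zero_iff _ g.1.injective]
    rintro rfl
    exact hsd (zero_mem _)
  have hW := h.finrank_W
  rcases hY (g • ω₁) with h10 | ⟨y, h10⟩ | ⟨U, hU, h10, h11, h12⟩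
  · have h11 : (⟨g.1 s, h8⟩ : Wp P d f) ∈ XS h (St P (g • ω₁)) :=
      ⟨0, zero_valid (EG_sing g hs), by simpa using has_of_xle h7 h.hd h8.1 1⟩
    rw [(annR_eq_top_iff (h.nd o.nd)).1 h10, AddSubgroup.mem_bot] at h11
    exact absurd (congrArg Subtype.val h11) h9
  · exact absurd (EG_le_of_tt o.nd (o.rich hn) h.hf h.hd h6 (h.tt_of o.nd (o.ZS_eq _ _) h10)
      (by simp [h.hdf])) (hne _)
  have hX : ∀ w ∈ perp (Pw P d f) U, w ∈ XS h (St P (g • ω₁)) := fun w hw =>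
    h.mem_XS_of_perp o.nd h10 (mem_perp'.1 hw)
  have h13 : perp (Pw P d f) U ≤ U := by
    by_contra h13
    obtain ⟨w, hw, hq⟩ := (o.pw h).exists_nonsing h13
    obtain ⟨c, hc, k, hk, e⟩ := hX w hw
    refine hne _ (EG_le_of_xle o.nd h.hf (isom_q (St_le_isom _ hk) h.hf) h6
      (h6.apply hk (St_le_isom _ hk)) ?_)
    rw [e, h.eu_f, o.sub_mem.1 hc]
    simpa [h.ff, h.fd, o.eps, W_f] using hq
  have h14 := Submodule.finrank_mono h13
  have h15 := finrank_le_perp (P := Pw P d f) U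
  have h16 := (o.pw h).finrank_ts hU
  exact o.card_ge_of_solid h (by omega) (hne _) h6 hU (by omega)
    fun u hu => hX u (mem_perp.2 fun u' hu' => hU.2 u' hu' u hu)

end Orth

theorem force_eq_orthM : True := by
  have := @XSpan.eq_1.{0,0}
  have := @XSpan.eq_def.{0,0}
  have := @TypeM.eq_1.{0,0}
  have := @TypeM.eq_def.{0,0}
  trivial

end H20.MD
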