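import Cfsg.Agent.Lib.MinDeg.OrthM

/-! Orthogonal groups: the numerical analysis. -/

set_option autoImplicit false
set_option linter.unusedSectionVars false
set_option linter.unusedSimpArgs false
set_option linter.unusedVariables false

namespace H20.MD

open Module H28 H97
open scoped Classical

variable {F V : Type*} [Field F] [AddCommGroup V] [Module F V] [FiniteDimensional F V]
  [Finite F] [Finite V]

section General

variable {σ : F →+* F} {P : PQ F V σ} {d f : V}

/-- The non-zero vectors whose value is a norm multiple of `c`. -/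
noncomputable def cls (P : PQ F V σ) (c : F) : Finset V :=
  (Set.toFinite {x | x ≠ 0 ∧ ∃ a : F, a ≠ 0 ∧ P.q x - σ a * a * c ∈ P.Λ}).toFinset

theorem mem_cls {c : F} {x : V} :
    x ∈ cls P c ↔ x ≠ 0 ∧ ∃ a : F, a ≠ 0 ∧ P.q x - σ a * a * c ∈ P.Λ := by simp [cls]

theorem lvl_subset_cls (c : F) : lvl P c ⊆ cls P c := fun x hx =>
  mem_cls.2 ⟨(mem_lvl.1 hx).1, 1, one_ne_zero, by simpa using (mem_lvl.1 hx).2⟩

theorem cls_eq_lvl_of_mem {c : F} (hc : c ∈ P.Λ) : cls P c = lvl P 0 := by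
  ext x
  rw [mem_cls, mem_lvl, sub_zero]
  refine and_congr_right fun _ => ⟨fun ⟨a, _, h⟩ => ?_, fun h => ⟨1, one_ne_zero, ?_⟩⟩
  · simpa using P.Λ.add_mem h (P.norm_mem a c hc)
  · simpa using P.Λ.sub_mem h hc

theorem lvl_congr {c c' : F} (h : c - c' ∈ P.Λ) : lvl P c = lvl P c' := by
  ext x
  rw [mem_lvl, mem_lvl]
  exact and_congr_right fun _ => ⟨fun h1 => by simpa using P.Λ.add_mem h1 h,
    fun h1 => by simpa using P.Λ.sub_mem h1 h⟩

theorem self_mem_lvl {x : V} (hx : x ≠ 0) : x ∈ lvl P (P.q x) := mem_lvl.2 ⟨hx, by simp⟩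

theorem cnt_ge_pow (hP : P.B.SeparatingLeft) {U : Submodule F V} (hU : TS P U) {j t : ℕ}
    (hj : j ≤ finrank F U) (hn : finrank F V = j + 1 + t) (c : F) :
    Nat.card P.Λ * Nat.card F ^ (j + t) + (if c ∈ P.Λ then Nat.card F ^ j else 0) ≤
      cnt P c + Nat.card P.Λ * Nat.card F ^ t := by
  have h1 := cnt_ge j hP hU hj c
  rw [card_space (F := F) (V := V), hn] at h1
  refine Nat.le_of_mul_le_mul_right ?_ (pow_pos (Nat.card_pos (α := F)) (j + 1))
  refine le_trans (le_of_eq ?_) (h1.trans (le_of_eq ?_))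
  · split_ifs <;> ring
  · ring

theorem index_stab_point {k : ℕ} (hK : IsoK P k) (hP : P.B.SeparatingLeft) (hn : k + 2 ≤ finrank F V)
    {v : V} (hv : v ≠ 0) :
    (stabA (EG P) (F ∙ v).toAddSubgroup).index * (Nat.card F - 1) = (cls P (P.q v)).card := by
  rw [index_stabA]
  refine ncard_Im_point hv _ fun y => ⟨fun hy => ?_, ?_⟩
  · obtain ⟨h0, a, ha, h⟩ := mem_cls.1 hy
    exact exists_smul_EG hK hP hn hv h0 ha h
  · rintro ⟨a, ha, γ, hγ, rfl⟩
    refine mem_cls.2 ⟨smul_ne_zero ha (by simpa using hv), a, ha, ?_⟩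
    have := P.Λ.add_mem (P.q_smul a (γ v)) (P.norm_mem a _ ((EG_le_isom hγ).2 v))
    convert this using 1
    ring

theorem center_le_stabA {k : ℕ} (hK : IsoK P k) (hP : P.B.SeparatingLeft) (hn : k + 2 ≤ finrank F V)
    (h4 : 4 ≤ finrank F V) (L : Submodule F V) :
    Subgroup.center (EG P) ≤ stabA (EG P) L.toAddSubgroup := fun z hz =>
  img_eq_of_maps fun v hv => (Submodule.span_singleton_le_iff_mem v L).2 hv
    (center_smul hK hP hn h4 hz v)

theorem card_cls_le_of_stab {k : ℕ} (hK : IsoK P k) (hP : P.B.SeparatingLeft)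
    (hn : k + 2 ≤ finrank F V) {Ω : Type*} [MulAction (EG P) Ω] [Finite Ω] {ω : Ω} {v : V} (hv : v ≠ 0)
    (h : St P ω ≤ stab (F ∙ v)) : (cls P (P.q v)).card ≤ Nat.card Ω * (Nat.card F - 1) :=
  le_card_of_le_stab hv h _ fun y hy => by
    obtain ⟨h0, a, ha, h⟩ := mem_cls.1 hy
    exact exists_smul_EG hK hP hn hv h0 ha h

theorem Pair.beta_cls {k : ℕ} (hK : IsoK P k) (hP : P.B.SeparatingLeft) (hn : k + 4 ≤ finrank F V)
    (h : Pair P d f) (Y : AddSubgroup (Wp P d f)) {y y' : Wp P d f} (hy : y ≠ 0)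
    (hy' : y' ∈ cls (Pw P d f) (P.q y)) :
    (Im (LevAut P d f) Y y').ncard = (Im (LevAut P d f) Y y).ncard := by
  obtain ⟨h0, a, ha, h1⟩ := mem_cls.1 hy'
  obtain ⟨γ, hγ, rfl⟩ := h.exists_levAut hK hP hn hy h0 ha h1
  exact ncard_Im_apply hγ

variable {Ω : Type*} [MulAction (EG P) Ω] [Fintype Ω]

theorem Pair.cls_mult_le {k : ℕ} (hK : IsoK P k) (hP : P.B.SeparatingLeft) (hn : k + 4 ≤ finrank F V)
    (h : Pair P d f) {S : Set Ω} (hS : Closed h S) {y : Wp P d f} (hy : y ≠ 0) :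
    (cls (Pw P d f) (P.q y)).card * mult h S y ≤ S.ncard := by
  rw [← sum_mult_class hS fun y' hy' => by
    obtain ⟨h0, a, ha, h1⟩ := mem_cls.1 hy'
    exact h.exists_levAut hK hP hn hy h0 ha h1]
  exact sum_mult_le h S _

theorem Pair.sum_beta_le (hP : P.B.SeparatingLeft) (h : Pair P d f) (ω : Ω) (C : Finset (Wp P d f))
    {t : ℕ} (ht : ∀ y ∈ C, t ≤ (Im (LevAut P d f) (YS h (St P ω)) y).ncard) :
    C.card * t * (ZS h.hd (St P ω)).relIndex P.Λ ≤ Nat.card Ω := by
  have h1 := sum_Im_le hP (closed_univ h) (ω := ω) trivial C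
  rw [Set.ncard_univ] at h1
  exact (Nat.mul_le_mul_right _ (by simpa using Finset.sum_le_sum ht)).trans h1

theorem Pair.sum_beta_le_frac (hP : P.B.SeparatingLeft) (h : Pair P d f) (ω : Ω)
    (C : Finset (Wp P d f)) (h0 : 0 ∉ C) {M : ℕ} (hM : Nat.card (YS h (St P ω)) ≤ M)
    {t : ℕ} (ht : ∀ y ∈ C, t ≤ (Im (LevAut P d f) (YS h (St P ω)) y).ncard) :
    M * (C.card * t * (ZS h.hd (St P ω)).relIndex P.Λ) ≤ (M - 1) * Nat.card Ω :=
  (Nat.mul_le_mul_left _ (Nat.mul_le_mul_right _ (by simpa using Finset.sum_le_sum ht))).trans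
    (sum_Im_le_frac hP h hM C h0)

end General

theorem card_sq_image [Fintype F] {c : F} (hc : c ≠ 0) :
    Nat.card F - 1 ≤ 2 * ((Finset.univ.erase (0 : F)).image fun a => a * a * c).card := by
  rw [Nat.card_eq_fintype_card, ← Finset.card_univ, ← Finset.card_erase_of_mem (Finset.mem_univ (0 : F))]
  refine Finset.card_le_mul_card_image _ 2 fun s hs => ?_
  obtain ⟨a, -, rfl⟩ := Finset.mem_image.1 hs
  refine le_trans (Finset.card_le_card (t := {a, -a}) fun b hb => ?_) Finset.card_le_two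
  have := mul_right_cancel₀ hc (Finset.mem_filter.1 hb).2
  simpa using mul_self_eq_mul_self_iff.1 this

theorem card_sq_image_two [Fintype F] (h2 : (2 : F) = 0) {c : F} (hc : c ≠ 0) :
    ((Finset.univ.erase (0 : F)).image fun a => a * a * c).card = Nat.card F - 1 := by
  rw [Nat.card_eq_fintype_card, ← Finset.card_univ, ← Finset.card_erase_of_mem (Finset.mem_univ (0 : F))]
  refine Finset.card_image_of_injective _ fun a b e => ?_
  rcases mul_self_eq_mul_self_iff.1 (mul_right_cancel₀ hc e) with h | h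
  · exact h
  · linear_combination h - b * h2

theorem char_cases (hq : 4 ≤ Nat.card F) : ∃ p : ℕ, p.Prime ∧ CharP F p ∧
    ((p = 2 ∧ (2 : F) = 0) ∨ (p = 5 ∧ Nat.card F = 5) ∨ (3 ≤ p ∧ 7 ≤ Nat.card F)) := by
  have := Fintype.ofFinite F
  obtain ⟨p, hp⟩ := CharP.exists F
  obtain ⟨n, hp', hn⟩ := FiniteField.card F p
  rw [← Nat.card_eq_fintype_card] at hn
  refine ⟨p, hp', hp, ?_⟩
  by_cases h2 : p = 2
  · subst h2
    exact Or.inl ⟨rfl, by simpa using CharP.cast_eq_zero F 2⟩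
  have h3 : Odd (Nat.card F) := hn ▸ (hp'.odd_of_ne_two h2).pow
  have h4 := hp'.two_le
  by_cases h5 : Nat.card F = 5
  · refine Or.inr (Or.inl ⟨?_, h5⟩)
    have : p ∣ 5 := by rw [← h5, hn]; exact dvd_pow_self p n.ne_zero
    exact (Nat.prime_dvd_prime_iff_eq hp' Nat.prime_five).1 this
  · obtain ⟨k, hk⟩ := h3
    exact Or.inr (Or.inr ⟨by omega, by omega⟩)

theorem charP_of_card {p : ℕ} (hp : p.Prime) (hq : Nat.card F = p) : CharP F p :=
  (CharP.charP_iff_prime_eq_zero hp).2 (by simpa [hq] using Orth.cast_card_eq_zero (F := F))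

variable {P : PQ F V (RingHom.id F)} {d f : V}

namespace Orth

theorem mem_lvl' (o : Orth P) {c : F} {x : V} : x ∈ lvl P c ↔ x ≠ 0 ∧ P.q x = c := by
  rw [mem_lvl, o.sub_mem]

theorem disjoint_lvl (o : Orth P) {c c' : F} (h : c ≠ c') : Disjoint (lvl P c) (lvl P c') :=
  Finset.disjoint_left.2 fun x h1 h2 => h ((o.mem_lvl'.1 h1).2.symm.trans (o.mem_lvl'.1 h2).2)

theorem card_biUnion (o : Orth P) (S : Finset F) :
    (S.biUnion (lvl P)).card = ∑ c ∈ S, (lvl P c).card :=
  Finset.card_biUnion fun _ _ _ _ h => o.disjoint_lvl h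

theorem sum_lvl (o : Orth P) [Fintype F] : ∑ c : F, (lvl P c).card + 1 = Nat.card V := by
  have := Fintype.ofFinite V
  rw [← o.card_biUnion, Nat.card_eq_fintype_card, ← Finset.card_univ,
    ← Finset.card_erase_add_one (Finset.mem_univ (0 : V))]
  congr 2
  ext x
  simp [o.mem_lvl']

theorem cnt_ge (o : Orth P) {j t : ℕ} (hj : j ≤ t) (hn : finrank F V = j + 1 + t) (c : F) :
    Nat.card F ^ (j + t) + (if c = 0 then Nat.card F ^ j else 0) ≤ cnt P c + Nat.card F ^ t := by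
  obtain ⟨U, hU, h1⟩ := exists_TS o.iso j (by omega)
  simpa [o.card_lam, o.mem] using cnt_ge_pow o.nd hU h1 hn c

theorem lvl_ge (o : Orth P) {j t : ℕ} (hj : j ≤ t) (hn : finrank F V = j + 1 + t) (c : F) :
    Nat.card F ^ (j + t) ≤ (lvl P c).card + Nat.card F ^ t := by
  have h1 := o.cnt_ge hj hn c
  by_cases hc : c = 0
  · rw [if_pos hc, ← card_lvl_of_mem (o.mem.2 hc)] at h1
    have : 0 < Nat.card F ^ j := pow_pos Nat.card_pos j
    omega
  · rw [if_neg hc, ← card_lvl_of_not_mem (mt o.mem.1 hc)] at h1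
    omega

theorem lvl_ge_ts (o : Orth P) {U : Submodule F V} (hU : TS P U) {j t : ℕ}
    (hj : j ≤ finrank F U) (hn : finrank F V = j + 1 + t) :
    Nat.card F ^ (j + t) + Nat.card F ^ j ≤ (lvl P 0).card + 1 + Nat.card F ^ t := by
  have := cnt_ge_pow o.nd hU hj hn 0
  rw [← card_lvl_of_mem (zero_mem _)] at this
  simpa [o.card_lam] using this

theorem cls_ge (o : Orth P) [Fintype F] {c : F} {μ : ℕ} (hμ : ∀ c, μ ≤ (lvl P c).card) :
    ((Finset.univ.erase (0 : F)).image fun a => a * a * c).card * μ ≤ (cls P c).card := by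
  refine le_trans ?_ (Finset.card_le_card (s := Finset.biUnion
    ((Finset.univ.erase (0 : F)).image fun a => a * a * c) (lvl P)) fun x hx => ?_)
  · rw [o.card_biUnion]
    simpa using Finset.sum_le_sum fun c' (_ : c' ∈ (Finset.univ.erase (0 : F)).image fun a => a * a * c)
      => hμ c'
  · obtain ⟨_, h1, h2⟩ := Finset.mem_biUnion.1 hx
    obtain ⟨a, ha, rfl⟩ := Finset.mem_image.1 h1
    exact mem_cls.2 ⟨(o.mem_lvl'.1 h2).1, a, (Finset.mem_erase.1 ha).1, by simp [(o.mem_lvl'.1 h2).2]⟩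

theorem lvl_zero_le (o : Orth P) {μ : ℕ} (hμ : ∀ c, μ ≤ (lvl P c).card) :
    (lvl P 0).card + 1 + (Nat.card F - 1) * μ ≤ Nat.card V := by
  have := Fintype.ofFinite F
  rw [← o.sum_lvl, ← Finset.add_sum_erase _ _ (Finset.mem_univ (0 : F))]
  have := Finset.sum_le_sum fun c (_ : c ∈ Finset.univ.erase (0 : F)) => hμ c
  rw [Finset.sum_const, Finset.card_erase_of_mem (Finset.mem_univ _), Finset.card_univ,
    ← Nat.card_eq_fintype_card, smul_eq_mul] at this
  omega

/-- The basic numerical data of a space of dimension at least five. -/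
theorem data (o : Orth P) (hn : 5 ≤ finrank F V) {q : ℕ} (hq : Nat.card F = q + 1) :
    ∃ m, (q + 1) ^ 2 ≤ m ∧ Nat.card V = (q + 1) ^ 3 * m ∧ (∀ c, q * (q + 2) * m ≤ (lvl P c).card) ∧
      (lvl P 0).card + 1 ≤ (q ^ 2 + 3 * q + 1) * m := by
  obtain ⟨t, ht⟩ : ∃ t, finrank F V = 2 + 1 + t := ⟨finrank F V - 3, by omega⟩
  have h1 : Nat.card V = (q + 1) ^ 3 * (q + 1) ^ t := by rw [card_space (F := F), hq, ht]; ring
  have h2 : ∀ c, q * (q + 2) * (q + 1) ^ t ≤ (lvl P c).card := fun c => by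
    have := o.lvl_ge (by omega) ht c
    rw [hq, pow_add] at this
    nlinarith
  refine ⟨(q + 1) ^ t, Nat.pow_le_pow_right (by omega) (by omega), h1, h2, ?_⟩
  have := o.lvl_zero_le h2
  rw [hq, h1, Nat.add_sub_cancel] at this
  nlinarith

theorem lvl_pair (o : Orth P) (h : Pair P d f) {q : ℕ} (hq : Nat.card F = q + 1) :
    (lvl P 0).card = (q + 1) * (lvl (Pw P d f) 0).card + q * (Nat.card (Wp P d f) + 1) := by
  have h1 := cnt_pair h 0
  rw [← card_lvl_of_mem (zero_mem _), ← card_lvl_of_mem (zero_mem _), o.card_lam, hq,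
    Nat.add_sub_cancel] at h1
  nlinarith

variable {Ω : Type*} [MulAction (EG P) Ω] [Fintype Ω]

theorem ts_span (o : Orth P) {Y : AddSubgroup V} (h : ∀ v ∈ Y, P.q v = 0) :
    TS P (Submodule.span F (Y : Set V)) :=
  TS.span (fun v hv => o.mem.2 (h v hv)) fun u hu u' hu' => by
    have := o.q_add u u'
    rw [h _ (Y.add_mem hu hu'), h u hu, h u' hu'] at this
    simpa using this.symm

theorem exists_pair (o : Orth P) (hn : 3 ≤ finrank F V) : ∃ d f, Pair P d f := by
  obtain ⟨e, f, -, h, -⟩ := o.exists_pair_nonsing hn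
  exact ⟨e, f, h⟩

theorem arith1 {n q s m : ℕ} (hq : 3 ≤ q) (hm : (q + 1) ^ 2 ≤ m)
    (hlt : n * q < (q + 1) * s + q * ((q + 1) ^ 3 * m + 1)) (h : q * (q + 2) * m ≤ s) :
    n < s * (q + 3) := by
  refine Nat.lt_of_mul_lt_mul_right (a := q) (hlt.trans_le ?_)
  obtain ⟨r, rfl⟩ : ∃ r, q = r + 3 := ⟨q - 3, by omega⟩
  obtain ⟨t, rfl⟩ := Nat.exists_eq_add_of_le h
  have h0 : 0 < (r + 3 + 1) ^ 2 := by positivity
  obtain ⟨u, rfl⟩ : ∃ u, m = u + 1 := ⟨m - 1, by omega⟩
  ring_nf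
  omega

theorem arith2 {n q s m : ℕ} (hlt : n * q < (q + 1) * s + q * ((q + 1) ^ 3 * m + 1))
    (h : s + 1 ≤ (q ^ 2 + 3 * q + 1) * m) : n * q < (q ^ 4 + 4 * q ^ 3 + 7 * q ^ 2 + 5 * q + 1) * m := by
  nlinarith [Nat.mul_le_mul_left (q + 1) h]

theorem arith3 {n q m c p k : ℕ} (hlt : n * q < (q ^ 4 + 4 * q ^ 3 + 7 * q ^ 2 + 5 * q + 1) * m)
    (hq : 3 ≤ q) (hc : k * (q * (q + 2) * m) ≤ c) (hk : q ≤ 2 * k)
    (hp : (p = 2 ∧ k = q) ∨ (p = 5 ∧ q = 4) ∨ (3 ≤ p ∧ 6 ≤ q)) : n < c * p := by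
  refine Nat.lt_of_mul_lt_mul_right (a := q) (hlt.trans_le (le_trans ?_
    (Nat.mul_le_mul_right _ (Nat.mul_le_mul_right _ hc))))
  rcases hp with ⟨rfl, rfl⟩ | ⟨rfl, rfl⟩ | ⟨hp, hq⟩
  · obtain ⟨r, rfl⟩ := Nat.exists_eq_add_of_le hq
    ring_nf
    omega
  · nlinarith [Nat.mul_le_mul_right m (show 2 ≤ k by omega)]
  · refine Nat.le_of_mul_le_mul_left (c := 2) ?_ two_pos
    calc _ ≤ q * (q * (q + 2) * m) * 3 * q := by
          obtain ⟨r, rfl⟩ := Nat.exists_eq_add_of_le hq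
          ring_nf
          omega
      _ ≤ (2 * k) * (q * (q + 2) * m) * p * q := by gcongr
      _ = _ := by ring

theorem arith4 {n q m : ℕ} (hlt : n * q < (q ^ 4 + 4 * q ^ 3 + 7 * q ^ 2 + 5 * q + 1) * m)
    (hq : 3 ≤ q) : n < 2 * ((q + 1) ^ 3 * m) := by
  refine Nat.lt_of_mul_lt_mul_right (a := q) (hlt.trans_le ?_)
  obtain ⟨r, rfl⟩ := Nat.exists_eq_add_of_le hq
  ring_nf
  omega

theorem arith5 {q s m c k : ℕ} (hq : 3 ≤ q) (h : s + 1 ≤ (q ^ 2 + 3 * q + 1) * m)
    (hc : k * (q * (q + 2) * m) ≤ c) (hk : q ≤ 2 * k) : s ≤ c := by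
  refine Nat.le_of_mul_le_mul_left (c := 2) ?_ two_pos
  calc 2 * s ≤ 2 * ((q ^ 2 + 3 * q + 1) * m) := by omega
    _ ≤ q * (q * (q + 2) * m) := by
        obtain ⟨r, rfl⟩ := Nat.exists_eq_add_of_le hq
        ring_nf
        omega
    _ ≤ (2 * k) * (q * (q + 2) * m) := by gcongr
    _ ≤ 2 * c := by rw [mul_assoc]; omega

theorem sub_or_pair {W : Type*} [AddCommGroup W] [Module F W] (Y : AddSubgroup W) :
    (∃ y, ∀ v ∈ Y, v ∈ F ∙ y) ∨ ∃ x ∈ Y, ∃ y ∈ Y, y ≠ 0 ∧ x ∉ F ∙ y := by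
  by_contra h
  push Not at h
  obtain ⟨y, hy, hy0⟩ := h.1 0
  obtain ⟨x, hx, hxy⟩ := h.1 y
  exact hxy (h.2 x hx y hy fun e => hy0 (by simp [e]))

theorem min_four (o : Orth P) (hn : 7 ≤ finrank F V) (hq4 : 4 ≤ Nat.card F) [Nonempty Ω]
    (hne : ∀ ω : Ω, ¬ EG P ≤ St P ω) : (lvl P 0).card ≤ Nat.card Ω * (Nat.card F - 1) := by
  by_contra hlt0
  obtain ⟨d, f, h⟩ := o.exists_pair (by omega)
  have hW := h.finrank_W
  have := Fintype.ofFinite F
  obtain ⟨q, hq⟩ : ∃ q, Nat.card F = q + 1 := ⟨Nat.card F - 1, by omega⟩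
  have hq3 : 3 ≤ q := by omega
  have ow := o.pw h
  obtain ⟨m, hm, hM, h1, h2⟩ := ow.data (by omega) hq
  have hlt := hlt0
  rw [hq, Nat.add_sub_cancel, not_le, o.lvl_pair h hq, hM] at hlt
  have hb : ∀ y ∈ lvl (Pw P d f) 0, mult h (Set.univ : Set Ω) y < Nat.card F + 2 := fun y hy => by
    have h4 := h.cls_mult_le o.iso o.nd hn (closed_univ (Ω := Ω) h) (mem_lvl.1 hy).1
    rw [cls_eq_lvl_of_mem (by simpa using (mem_lvl.1 hy).2), Set.ncard_univ] at h4
    have h6 : (Nat.card Ω : ℚ) < (lvl (Pw P d f) 0).card * (q + 3) := by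
      exact_mod_cast arith1 hq3 hm hlt (h1 0)
    have h7 := lt_of_mul_lt_mul_left (h4.trans_lt h6) (Nat.cast_nonneg _)
    rw [hq]
    push_cast
    linarith
  have h3 := arith2 hlt h2
  obtain ⟨p, hp, hpF, hc⟩ := char_cases hq4
  have hY : ∀ ω : Ω, YS h (St P ω) = ⊤ ∨ (∃ y, ∀ v ∈ YS h (St P ω), v ∈ F ∙ y) ∨ TypeM h (St P ω) := by
    intro ω
    by_cases hs : ∀ v ∈ YS h (St P ω), P.q v = 0
    swap
    · push Not at hs
      obtain ⟨y, hy, hqy⟩ := hs
      have hy0 : y ≠ 0 := fun e => hqy (by simp [e, o.q_zero])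
      have h4 := h.sum_beta_le o.nd ω _ fun y' hy' => (h.beta_cls o.iso o.nd hn _ hy0 hy').ge
      have h5 := arith3 (p := p) h3 hq3 (ow.cls_ge (c := P.q y) h1) (by
        have := card_sq_image hqy
        rwa [hq] at this) (by
        rcases hc with ⟨h6, h7⟩ | ⟨h6, h7⟩ | ⟨h6, h7⟩
        · exact Or.inl ⟨h6, by rw [card_sq_image_two h7 hqy, hq]; rfl⟩
        · exact Or.inr (Or.inl ⟨h6, by omega⟩)
        · exact Or.inr (Or.inr ⟨h6, by omega⟩))
      rw [o.idx, mul_one] at h4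
      rcases ow.sub_or_top (by omega) hp EG_le_LevAut hy hy0
        (lt_of_mul_lt_mul_left (h4.trans_lt h5) (Nat.zero_le _)) with h6 | h6
      · exact Or.inr (Or.inl ⟨y, h6⟩)
      · exact Or.inl h6
    rcases sub_or_pair (F := F) (YS h (St P ω)) with h4 | ⟨x, hx, y, hy, hy0, hxy⟩
    · exact Or.inr (Or.inl h4)
    have hU := ow.ts_span hs
    have h4 : ∀ v ∈ YS h (St P ω), v ≠ 0 →
        (Im (LevAut P d f) (YS h (St P ω)) v).ncard < Nat.card F + 2 := fun v hv hv0 => by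
      have h5 := (mult_ge_Im o.nd (closed_univ h) v (ω := ω) trivial).trans_lt
        (hb v (ow.mem_lvl'.2 ⟨hv0, hs v hv⟩))
      rw [o.idx] at h5
      exact_mod_cast (by simpa using h5 : ((Im (LevAut P d f) (YS h (St P ω)) v).ncard : ℚ) <
        Nat.card F + 2)
    refine Or.inr (Or.inr ⟨_, hU, ow.eq_span_of_lt (by omega) EG_le_LevAut hU hy hy0 hx hxy
      fun v hv hv0 => (h4 v hv hv0).trans_le (by omega),
      two_le_finrank (Submodule.subset_span hx) (Submodule.subset_span hy) hy0 hxy,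
      ow.ts_dim (by omega) EG_le_LevAut hU (fun v hv => Submodule.subset_span hv) hy hx hxy ?_⟩)
    have := h4 y hy hy0
    nlinarith
  by_cases hM' : ∃ ω : Ω, TypeM h (St P ω)
  · obtain ⟨ω, hω⟩ := hM'
    exact hlt0 (o.card_ge_of_typeM hn hq4 h hne hb hY hω)
  obtain ⟨ω, v, hv, hst⟩ := o.exists_point hn h hne (hM ▸ arith4 h3 hq3) fun ω =>
    (hY ω).imp id fun h4 => h4.resolve_right fun h5 => hM' ⟨ω, h5⟩
  have h4 := card_cls_le_of_stab o.iso o.nd (by omega) hv hst
  refine hlt0 (le_trans ?_ h4)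
  by_cases hqv : P.q v = 0
  · rw [cls_eq_lvl_of_mem (o.mem.2 hqv)]
  obtain ⟨m', -, -, h5, h6⟩ := o.data (by omega) hq
  exact arith5 hq3 h6 (o.cls_ge h5) (by
    have := card_sq_image hqv
    rwa [hq] at this)

theorem min_three (o : Orth P) (hn : 7 ≤ finrank F V) (hq : Nat.card F = 3) [Nonempty Ω]
    (hne : ∀ ω : Ω, ¬ EG P ≤ St P ω) (hΩ : 2 * Nat.card Ω ≤ 3 ^ (finrank F V - 1))
    (h7 : finrank F V = 7 → Nat.card Ω < 360) (h8 : finrank F V = 8 → Nat.card Ω < 1080) :
    ∃ c, (lvl P c).card ≤ Nat.card Ω * 2 := by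
  obtain ⟨d, f, h⟩ := o.exists_pair (by omega)
  have hW := h.finrank_W
  have ow := o.pw h
  obtain ⟨m, hm, hM, h1, -⟩ := ow.data (q := 2) (by omega) hq
  have hΩ' : 2 * Nat.card Ω ≤ 81 * m := by
    rw [card_submodule, hq] at hM
    rw [show finrank F V - 1 = finrank F (Wp P d f) + 1 by omega, pow_succ, hM] at hΩ
    omega
  have := charP_of_card Nat.prime_three hq
  have h3 : (3 : F) = 0 := by simpa using CharP.cast_eq_zero F 3
  obtain ⟨ω, v, hv, hst⟩ := o.exists_point hn h hne (by omega) fun ω => by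
    by_cases hs : ∃ y ∈ YS h (St P ω), y ≠ 0 ∧ (Im (LevAut P d f) (YS h (St P ω)) y).ncard < 3
    · obtain ⟨y, hy, hy0, h2⟩ := hs
      exact (ow.sub_or_top (by omega) Nat.prime_three EG_le_LevAut hy hy0 h2).symm.imp id fun h => ⟨y, h⟩
    push Not at hs
    rcases sub_or_pair (F := F) (YS h (St P ω)) with h4 | ⟨x, hx, y, hy, hy0, hxy⟩
    · exact Or.inr h4
    exfalso
    have hβ : ∀ v ∈ YS h (St P ω), v ≠ 0 → ∀ y' ∈ lvl (Pw P d f) (P.q v),
        (Im (LevAut P d f) (YS h (St P ω)) y').ncard = (Im (LevAut P d f) (YS h (St P ω)) v).ncard :=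
      fun v _ hv0 y' hy' => h.beta_cls o.iso o.nd hn _ hv0 (lvl_subset_cls _ hy')
    have h2 : ∀ v ∈ YS h (St P ω), v ≠ 0 → P.q v = P.q y := fun v hv hv0 => by
      by_contra hne
      have h4 := h.sum_beta_le o.nd ω (lvl (Pw P d f) (P.q v) ∪ lvl (Pw P d f) (P.q y)) (t := 3)
        fun y' hy' => by
          rcases Finset.mem_union.1 hy' with h5 | h5
          · rw [hβ v hv hv0 y' h5]; exact hs v hv hv0
          · rw [hβ y hy hy0 y' h5]; exact hs y hy hy0
      rw [o.idx, Finset.card_union_of_disjoint (ow.disjoint_lvl hne)] at h4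
      have := h1 (P.q v)
      have := h1 (P.q y)
      omega
    have h4 : P.q y = 0 := by
      have e1 := h2 x hx fun e => hxy (by simp [e])
      have e2 := h2 (x + y) (add_mem hx hy) fun e => hxy (by
        rw [eq_neg_of_add_eq_zero_left e]; exact neg_mem (Submodule.mem_span_singleton_self y))
      have e3 := h2 (x - y) (AddSubgroup.sub_mem _ hx hy) fun e => hxy (by
        rw [sub_eq_zero.1 e]; exact Submodule.mem_span_singleton_self y)
      rw [Submodule.coe_add, o.q_add, e1] at e2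
      rw [Submodule.coe_sub, o.q_sub, e1] at e3
      linear_combination -e2 - e3 + P.q y * h3
    have hU := ow.ts_span (Y := YS h (St P ω)) fun v hv => by
      by_cases hv0 : v = 0
      · rw [hv0, ow.q_zero]
      · exact (h2 v hv hv0).trans h4
    have hY : ∀ v ∈ YS h (St P ω), v ∈ Submodule.span F (YS h (St P ω) : Set (Wp P d f)) :=
      fun v hv => Submodule.subset_span hv
    have h5 := h.sum_beta_le o.nd ω _ fun y' hy' => (hβ y hy hy0 y' hy').ge
    have h6 := ow.ts_dim (by omega) EG_le_LevAut hU hY hy hx hxy (by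
      have := h1 (P.q y)
      rw [o.idx] at h5
      rw [hq]
      by_contra h6
      have := Nat.mul_le_mul this (not_le.1 h6)
      omega)
    have h9 := ow.finrank_ts hU
    have h10 := h.sum_beta_le_frac o.nd ω _ (zero_not_mem_lvl _) (card_le_of_le hY) fun y' hy' =>
      (ow.ts_ge' (by omega) EG_le_LevAut hU hY hy hx hxy).trans (hβ y hy hy0 y' hy').ge
    rw [o.idx, h4, hq] at h10
    rcases (by omega : finrank F V = 7 ∨ finrank F V = 8) with h11 | h11
    · have h12 := ow.lvl_ge_ts hU (j := 2) (t := 2) (by omega) (by omega)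
      rw [show finrank F (Submodule.span F (YS h (St P ω) : Set (Wp P d f))) = 2 by omega] at h10
      rw [hq] at h12
      have := h7 h11
      omega
    · have h12 := ow.lvl_ge_ts hU (j := 3) (t := 2) (by omega) (by omega)
      rw [show finrank F (Submodule.span F (YS h (St P ω) : Set (Wp P d f))) = 3 by omega] at h10
      rw [hq] at h12
      have := h8 h11
      omega
  have h4 := card_cls_le_of_stab o.iso o.nd (by omega) hv hst
  rw [hq] at h4
  exact ⟨_, (Finset.card_le_card (lvl_subset_cls _)).trans h4⟩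

theorem lvl_two (o : Orth P) (hq : Nat.card F = 2) : (lvl P 0).card + (lvl P 1).card + 1 = Nat.card V := by
  have := Fintype.ofFinite F
  rw [← o.sum_lvl, show (Finset.univ : Finset F) = {0, 1} by
    ext x
    by_cases hx : x = 0
    · simp [hx]
    · simp [eq_one_of_card_two hq x hx], Finset.sum_pair zero_ne_one]

theorem min_two (o : Orth P) (hn : 8 ≤ finrank F V) (hq : Nat.card F = 2) [Nonempty Ω]
    (hne : ∀ ω : Ω, ¬ EG P ≤ St P ω) (hΩ : Nat.card Ω + 2 < 2 ^ (finrank F V - 1))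
    (h8 : finrank F V = 8 → Nat.card Ω < 120) : ∃ c, (lvl P c).card ≤ Nat.card Ω := by
  obtain ⟨d, f, h⟩ := o.exists_pair (by omega)
  have hW := h.finrank_W
  have ow := o.pw h
  obtain ⟨m, hm, hM, h1, -⟩ := ow.data (q := 1) (by omega) hq
  have hΩ' : Nat.card Ω + 2 < 16 * m := by
    rw [card_submodule, hq] at hM
    rw [show finrank F V - 1 = finrank F (Wp P d f) + 1 by omega, pow_succ, hM] at hΩ
    omega
  have := charP_of_card Nat.prime_two hq
  have h01 := eq_one_of_card_two hq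
  obtain ⟨ω, v, hv, hst⟩ := o.exists_point (by omega) h hne (by omega) fun ω => by
    by_cases hs : ∃ y ∈ YS h (St P ω), y ≠ 0 ∧ (Im (LevAut P d f) (YS h (St P ω)) y).ncard < 2
    · obtain ⟨y, hy, hy0, h2⟩ := hs
      exact (ow.sub_or_top (by omega) Nat.prime_two EG_le_LevAut hy hy0 h2).symm.imp id fun h => ⟨y, h⟩
    push Not at hs
    rcases sub_or_pair (F := F) (YS h (St P ω)) with h4 | ⟨x, hx, y, hy, hy0, hxy⟩
    · exact Or.inr h4
    exfalso
    have hβ : ∀ v ∈ YS h (St P ω), v ≠ 0 → ∀ y' ∈ lvl (Pw P d f) (P.q v),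
        (Im (LevAut P d f) (YS h (St P ω)) y').ncard = (Im (LevAut P d f) (YS h (St P ω)) v).ncard :=
      fun v _ hv0 y' hy' => h.beta_cls o.iso o.nd (by omega) _ hv0 (lvl_subset_cls _ hy')
    have h2 : ∀ v ∈ YS h (St P ω), v ≠ 0 → P.q v = P.q y := fun v hv hv0 => by
      by_contra hne
      have h4 := h.sum_beta_le o.nd ω (lvl (Pw P d f) (P.q v) ∪ lvl (Pw P d f) (P.q y)) (t := 2)
        fun y' hy' => by
          rcases Finset.mem_union.1 hy' with h5 | h5
          · rw [hβ v hv hv0 y' h5]; exact hs v hv hv0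
          · rw [hβ y hy hy0 y' h5]; exact hs y hy hy0
      rw [o.idx, Finset.card_union_of_disjoint (ow.disjoint_lvl hne)] at h4
      have h5 := ow.lvl_two hq
      by_cases h6 : P.q v = 0
      · rw [h6, h01 (P.q y) (by rwa [h6, eq_comm] at hne)] at h4
        omega
      · have h7 : P.q y = 0 := by
          by_contra h7
          exact hne ((h01 _ h6).trans (h01 _ h7).symm)
        rw [h7, h01 _ h6] at h4
        omega
    have hY : ∀ v ∈ YS h (St P ω), v ∈ Submodule.span F (YS h (St P ω) : Set (Wp P d f)) :=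
      fun v hv => Submodule.subset_span hv
    by_cases h4 : P.q y = 0
    · have hU := ow.ts_span (Y := YS h (St P ω)) fun v hv => by
        by_cases hv0 : v = 0
        · rw [hv0, ow.q_zero]
        · exact (h2 v hv hv0).trans h4
      have h5 := h.sum_beta_le o.nd ω _ fun y' hy' => (hβ y hy hy0 y' hy').ge
      have h6 := ow.ts_dim (by omega) EG_le_LevAut hU hY hy hx hxy (by
        rw [o.idx, h4] at h5
        rw [hq]
        by_contra h6
        have h7 := Nat.mul_le_mul_left (lvl (Pw P d f) 0).card (not_le.1 h6)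
        by_cases h9 : finrank F V = 8
        · have h12 := ow.cnt_ge (j := 2) (t := 3) (by omega) (by omega) 0
          rw [← card_lvl_of_mem (zero_mem _), hq, if_pos rfl] at h12
          have := h8 h9
          omega
        · obtain ⟨t, ht⟩ : ∃ t, finrank F (Wp P d f) = 3 + 1 + t := ⟨finrank F (Wp P d f) - 4, by omega⟩
          have h12 := ow.lvl_ge (j := 3) (t := t) (by omega) ht 0
          rw [show finrank F V - 1 = 5 + t by omega, pow_add] at hΩ
          rw [hq, pow_add] at h12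
          omega)
      have h9 := ow.finrank_ts hU
      have h10 := h.sum_beta_le_frac o.nd ω _ (zero_not_mem_lvl _) (card_le_of_le hY) fun y' hy' =>
        (ow.ts_ge' (by omega) EG_le_LevAut hU hY hy hx hxy).trans (hβ y hy hy0 y' hy').ge
      rw [o.idx, h4, hq] at h10
      have h12 := ow.lvl_ge_ts hU (j := 3) (t := 2) (by omega) (by omega)
      rw [show finrank F (Submodule.span F (YS h (St P ω) : Set (Wp P d f))) = 3 by omega] at h10
      rw [hq] at h12
      have := h8 (by omega)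
      omega
    have h5 : ∀ v ∈ Submodule.span F (YS h (St P ω) : Set (Wp P d f)), v ∈ YS h (St P ω) := by
      intro v hv
      induction hv using Submodule.span_induction with
      | mem x hx => exact hx
      | zero => exact zero_mem _
      | add x y _ _ h4 h5 => exact add_mem h4 h5
      | smul a x _ h4 =>
        by_cases ha : a = 0
        · simp [ha]
        · rwa [h01 a ha, one_smul]
    have h6 : finrank F (Submodule.span F (YS h (St P ω) : Set (Wp P d f))) ≤ 2 := by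
      by_contra h6
      obtain ⟨v, hv, hv0, h7⟩ := ow.iso _ (not_le.1 h6)
      exact h4 ((h2 v (h5 v hv) hv0).symm.trans (o.mem.1 h7))
    obtain ⟨r, hr, hry, hrx⟩ := ow.iso.exists_sing_perp ow.nd (by omega) hxy
    have h7 := family_le EG_le_LevAut (Y := YS h (St P ω)) hr hry {YS h (St P ω)} (by
      intro Y' hY'
      rw [Finset.mem_singleton.1 hY']
      exact ⟨self_mem_Im hy, hY, x, hx, hrx⟩)
    have h9 : 2 ^ 2 ≤ (Im (LevAut P d f) (YS h (St P ω)) y).ncard := by
      rw [hq, Finset.card_singleton, mul_one] at h7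
      exact (Nat.pow_le_pow_right two_pos (by omega)).trans
        (h7.trans (Set.ncard_le_ncard (Set.sep_subset _ _)))
    have h10 := h.sum_beta_le_frac o.nd ω _ (zero_not_mem_lvl _) (M := 2 ^ 2) ((card_le_of_le hY).trans
      (by rw [hq]; exact Nat.pow_le_pow_right two_pos h6)) fun y' hy' => h9.trans (hβ y hy hy0 y' hy').ge
    rw [o.idx] at h10
    have := h1 (P.q y)
    omega
  have h4 := card_cls_le_of_stab o.iso o.nd (by omega) hv hst
  rw [hq] at h4
  exact ⟨_, (Finset.card_le_card (lvl_subset_cls _)).trans (by simpa using h4)⟩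

end Orth

theorem force_eq_orthN : True := by
  have := @cls.eq_1.{0,0}
  have := @cls.eq_def.{0,0}
  trivial

end H20.MD
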