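import Cfsg.Agent.Lib.MinDeg.OrthA

/-! Actions in which all unipotent radicals act regularly. -/

set_option autoImplicit false
set_option linter.unusedSectionVars false
set_option linter.unusedSimpArgs false
set_option linter.unusedVariables false

namespace H20.MD

open Module H28 H97
open scoped Classical

theorem exists_fix_one {G Ω : Type*} [Group G] [MulAction G Ω] [Finite Ω] {p : ℕ} (hp : p.Prime)
    (hΩ : ¬ p ∣ Nat.card Ω) {g : G} (hg : g ^ p = 1) : ∃ ω : Ω, g • ω = ω := by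
  have := Fintype.ofFinite Ω
  have : Fact p.Prime := ⟨hp⟩
  exact Equiv.Perm.exists_fixed_point_of_prime (n := 1) (σ := MulAction.toPermHom G Ω g)
    (by rwa [← Nat.card_eq_fintype_card]) (by rw [pow_one, ← map_pow, hg, map_one])

theorem exists_fix_two {G Ω : Type*} [Group G] [MulAction G Ω] [Finite Ω] {p : ℕ} (hp : p.Prime)
    (hΩ : ¬ p ∣ Nat.card Ω) {g k : G} (hg : g ^ p = 1) (hk : k ^ p = 1) (hc : g * k = k * g) :
    ∃ ω : Ω, g • ω = ω ∧ k • ω = ω := by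
  have := Fintype.ofFinite Ω
  have : Fact p.Prime := ⟨hp⟩
  have h1 := Equiv.Perm.card_fixedPoints_modEq (p := p) (n := 1) (f := fun ω : Ω => g • ω) (by
    rw [pow_one]
    exact (map_pow (MulAction.toEndHom : G →* Function.End Ω) g p).symm.trans (by rw [hg, map_one]))
  let _ : MulAction (Subgroup.zpowers k) (Function.fixedPoints fun ω : Ω => g • ω) :=
    { smul := fun a ω => ⟨a.1 • ω.1, by
        have h2 : g • ω.1 = ω.1 := ω.2
        have h3 : Commute g a.1 := by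
          obtain ⟨n, hn⟩ := a.2
          rw [← hn]
          exact Commute.zpow_right hc n
        change g • a.1 • ω.1 = a.1 • ω.1
        rw [← mul_smul, h3.eq, mul_smul, h2]⟩
      one_smul := fun ω => Subtype.ext (one_smul G ω.1)
      mul_smul := fun a b ω => Subtype.ext (mul_smul a.1 b.1 ω.1) }
  obtain ⟨ω, hω⟩ := exists_fix_one (G := Subgroup.zpowers k)
    (Ω := Function.fixedPoints fun ω : Ω => g • ω) hp (fun h => hΩ (by
      rw [Nat.card_eq_fintype_card] at h ⊢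
      exact (h1.dvd_iff dvd_rfl).2 h)) (g := ⟨k, Subgroup.mem_zpowers k⟩) (Subtype.ext hk)
  exact ⟨ω.1, ω.2, congrArg Subtype.val hω⟩

variable {F V : Type*} [Field F] [AddCommGroup V] [Module F V] [FiniteDimensional F V]

section General

variable {σ : F →+* F} {P : PQ F V σ} {d f : V} {Ω : Type*} [MulAction (EG P) Ω] [Finite F] [Finite V]

theorem Pair.YS_top (hP : P.B.SeparatingLeft) (h : Pair P d f) {H : Subgroup (V ≃ₗ[F] V)}
    (hr : Reg P H d) : YS h H = ⊤ := (annR_eq_top_iff (h.nd hP)).2 (h.reg_iff.1 hr).1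

theorem Pair.card_Orb_reg (hP : P.B.SeparatingLeft) (h : Pair P d f) {ω : Ω}
    (hr : Reg P (St P ω) d) : Nat.card (Orb h ω) = Nat.card (Wp P d f) * Nat.card P.Λ := by
  rw [card_Orb hP, h.YS_top hP hr, idx_of_bot _ (h.reg_iff.1 hr).2, AddSubgroup.card_top]

theorem Pair.mem_Orb_of_reg [Finite Ω] (hP : P.B.SeparatingLeft) (h : Pair P d f)
    (hlt : Nat.card Ω < 2 * (Nat.card (Wp P d f) * Nat.card P.Λ)) {ω ω' : Ω}
    (hr : Reg P (St P ω) d) (hr' : Reg P (St P ω') d) : ω' ∈ Orb h ω := by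
  by_contra hne
  have := two_orbits_le hne
  rw [h.card_Orb_reg hP hr, h.card_Orb_reg hP hr'] at this
  omega

theorem Pair.card_eq_of_reg (hP : P.B.SeparatingLeft) (h : Pair P d f) {ω : Ω}
    (hr : Reg P (St P ω) d) (ho : ∀ ω', ω' ∈ Orb h ω) :
    Nat.card Ω = Nat.card (Wp P d f) * Nat.card P.Λ := by
  rw [← h.card_Orb_reg hP hr, Set.eq_univ_of_forall ho, Nat.card_univ]

theorem Reg.lev {ω : Ω} (hr : Reg P (St P ω) d) {g : EG P} {a : F} (hg : Lev d f g a) :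
    Reg P (St P (g • ω)) d := by
  have h1 := hr.st g
  rw [hg.gd] at h1
  intro w c hw hc hh x
  have hσ := sigma_ne (σ := σ) hg.ne
  have e : ∀ x, eu P d w c x = eu P (a • d) ((σ a)⁻¹ • w) ((σ a)⁻¹ * a⁻¹ * c) x := fun x => by
    rw [eu_smul, smul_smul, mul_inv_cancel₀ hσ, one_smul]
    congr 1
    field_simp [hg.ne]
  rw [e]
  refine h1 _ _ (by simp [hw]) ?_ (hh.congr e) x
  have := valid_smul' a⁻¹ hc
  rwa [map_inv₀] at this

/-- The torus argument. -/
theorem has_of_tor (h : Pair P d f) {t : EG P} {a : F} (ht : Lev d f t a)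
    (hw : ∀ w : Wp P d f, t.1 w = w) (hf : ∀ x, ht.cj x = x → x = 1) {ω : Ω} (h1 : t • ω = ω)
    {r w : Wp P d f} {c : F} (hr : P.q r ∈ P.Λ) (hrw : P.B r w = 0) (hc : c - P.q w ∈ P.Λ)
    (ho : euG hr hrw hc • ω ∈ Orb h ω) : Has (St P ω) (eu P r w c) :=
  (has_St_iff (euG_apply hr hrw hc)).2
    (ht.fix_of_comm h hf h1 (ht.comm_of_triv h hw (lev_euG hr hrw hc)) ho)

theorem Pair.YS_sub_of_xrel (hP : P.B.SeparatingLeft) (h : Pair P d f) {H : Subgroup (V ≃ₗ[F] V)}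
    {y : Wp P d f} (hx : XRel P H d y) : ∀ v ∈ YS h H, v ∈ F ∙ y := by
  intro v hv
  rw [← perp_perp (h.nd hP) (F ∙ y), mem_perp]
  intro x hx'
  rw [mem_perp_singleton, Pw_B] at hx'
  exact B_eq_zero_of_smul_mem (X := XS h H) (fun a => mem_XS.2 ⟨P.q (a • x), by simp,
    hx _ _ (W_d _) (by simp [hx']) (by simp)⟩) hv

variable [Fintype Ω]

theorem sum_Im_le (hP : P.B.SeparatingLeft) {h : Pair P d f} {S : Set Ω} (hS : Closed h S) {ω : Ω}
    (hω : ω ∈ S) (C : Finset (Wp P d f)) :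
    (∑ y ∈ C, (Im (LevAut P d f) (YS h (St P ω)) y).ncard) * (ZS h.hd (St P ω)).relIndex P.Λ ≤
      S.ncard := by
  have h1 := (Finset.sum_le_sum fun y (_ : y ∈ C) => mult_ge_Im hP hS y hω).trans (sum_mult_le h S C)
  rw [← Finset.sum_mul] at h1
  exact_mod_cast h1

theorem sum_Im_le_frac (hP : P.B.SeparatingLeft) (h : Pair P d f) {ω : Ω} {M : ℕ}
    (hω : Nat.card (YS h (St P ω)) ≤ M) (C : Finset (Wp P d f)) (h0 : 0 ∉ C) :
    M * ((∑ y ∈ C, (Im (LevAut P d f) (YS h (St P ω)) y).ncard) * (ZS h.hd (St P ω)).relIndex P.Λ) ≤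
      (M - 1) * Nat.card Ω := by
  have hS := closed_card (Ω := Ω) h fun _ b => b ≤ M
  have hM : 0 < M := lt_of_lt_of_le Nat.card_pos hω
  have h1 := Finset.sum_le_sum fun y (_ : y ∈ C) => mult_ge_Im hP hS y hω
  have h2 := sum_mult_le_frac h _ C h0 (M := M) (fun ω (hω : ω ∈ {ω : Ω | Nat.card (YS h (St P ω)) ≤ M})
    => hω) hM
  rw [← Finset.sum_mul] at h1
  have h3 := (mul_le_mul_of_nonneg_left h1 (Nat.cast_nonneg M)).trans h2
  have h4 : {ω : Ω | Nat.card (YS h (St P ω)) ≤ M}.ncard ≤ Nat.card Ω := by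
    rw [← Set.ncard_univ]
    exact Set.ncard_le_ncard (Set.subset_univ _)
  refine le_trans ?_ (Nat.mul_le_mul_left _ h4)
  rw [← Nat.cast_one, ← Nat.cast_sub hM] at h3
  exact_mod_cast h3

end General

variable {P : PQ F V (RingHom.id F)} {d f : V}

/-- The product of two Eichler elements lies in `H`. -/
def ORel (P : PQ F V (RingHom.id F)) (H : Subgroup (V ≃ₗ[F] V)) (d e w v : V) : Prop :=
  Has H fun z => eu P d v (P.q v) (eu P e w (P.q w) z)

namespace Orth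

variable {H : Subgroup (V ≃ₗ[F] V)} {e : V}

theorem rel_add (o : Orth P) (hd : P.q d = 0) (he : P.q e = 0) (hde : P.B e d = 0) {w w' v v' : V}
    (hw : P.B e w = 0) (hw' : P.B e w' = 0) (hwd : P.B w d = 0) (hv : P.B d v = 0) (hv' : P.B d v' = 0)
    (h1 : ORel P H d e w v) (h2 : ORel P H d e w' v') :
    ORel P H d e (w + w') (v + H97.eu P e w (P.q w) v') := by
  obtain ⟨γ, hγ, eγ⟩ := has_eu_isom (P := P) (o.mem.2 he) hw (c := P.q w) (by simp)
  have h3 : γ d = d := by rw [eγ, eu_fix _ hde hwd]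
  refine (h1.comp h2).congr fun z => ?_
  have h4 := eu_conj hγ d v' (P.q v') (γ (H97.eu P e w' (P.q w') z))
  rw [le_inv_apply_apply, h3] at h4
  have h5 : P.q (γ v') = P.q v' := o.sub_mem.1 (hγ.2 v')
  rw [← eγ, h4, ← h5, o.eu_comp hd hv (by rw [← h3, hγ.1, hv']), eγ (H97.eu P e w' _ z),
    o.eu_comp he hw hw', eγ]

theorem rel_conj (o : Orth P) {w v : V} (h : ORel P H d e w v) {g : V ≃ₗ[F] V} (hg : g ∈ H)
    (hg' : g ∈ P.Isom) (h1 : g d = d) (h2 : g e = e) : ORel P H d e (g w) (g v) := by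
  refine (h.conj hg).congr fun z => ?_
  have h4 := eu_conj hg' d v (P.q v) (g (H97.eu P e w (P.q w) (g⁻¹ z)))
  rw [le_inv_apply_apply, h1] at h4
  rw [h4, eu_conj hg', h2, o.sub_mem.1 (hg'.2 v), o.sub_mem.1 (hg'.2 w)]

theorem rel_zero (o : Orth P) (h : Pair P d f) (hr : Reg P H d) {v : V} (hv : P.B d v = 0)
    (hv' : P.B f v = 0) (h1 : ORel P H d e 0 v) : v = 0 := by
  have h2 := hr v (P.q v) hv (by simp) (h1.congr fun z => by rw [o.q_zero, eu_zero])
  obtain ⟨a, rfl⟩ := Submodule.mem_span_singleton.1 (mem_span_of_eu_eq o.nd h.d_ne h2)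
  have : a = 0 := by simpa [h.fd, o.eps] using hv'
  simp [this]

theorem rel_final (o : Orth P) (h : Pair P d f) (he : P.q e = 0) (he0 : e ≠ 0) (hde : P.B d e = 0)
    (hfe : P.B f e = 0) {a : V} (hda : P.B d a = 0) (hea : P.B e a = 0) (hq : P.q a ≠ 0) {α γ : F}
    (h1 : ORel P H d e a (α • a + γ • e)) : ¬ Reg P H (e + α • d) := by
  intro hr
  have hdd := h.dd
  have hd := o.mem.1 h.hd
  have hee : P.B e e = 0 := by simp [o.self, he]
  have h2 : P.q (a + (P.q a * α - γ) • d) = P.q a := by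
    simp [o.q_add, o.q_smul, hd, o.symm d a, hda]
  have h0 : e + α • d ≠ 0 := fun e1 => by
    have h3 := congrArg (P.B f) e1
    simp only [map_add, hfe, map_smul, h.fd, o.eps, map_zero, smul_eq_mul, mul_one, zero_add] at h3
    exact he0 (by simpa [h3] using e1)
  have h3 := hr (a + (P.q a * α - γ) • d) (P.q a) (by simp [hea, hda, hdd, o.symm d e, hde])
    (by simp [h2]) (h1.congr fun z => by
      have h4 : P.q (α • a + γ • e) = α * α * P.q a := by
        simp [o.q_add, o.q_smul, he, o.symm e a, hea]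
      simp only [h4, o.eu, map_add, map_sub, map_smul, LinearMap.add_apply, LinearMap.smul_apply,
        smul_eq_mul, map_smulₛₗ, RingHom.id_apply, hde, hda, hea, o.symm e a, o.self a, hee]
      module)
  obtain ⟨t, ht⟩ := Submodule.mem_span_singleton.1 (mem_span_of_eu_eq o.nd h0 h3)
  rw [← ht, o.q_smul, o.q_add, o.q_smul, he, hd] at h2
  simp [o.symm d e, hde] at h2
  exact hq h2.symm

theorem exists_rel (o : Orth P) {Ω : Type*} [MulAction (EG P) Ω] (h : Pair P d f) {ω : Ω}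
    (ho : ∀ ω', ω ∈ Orb h ω') (he : P.q e = 0) {w : V} (hw : P.B e w = 0) :
    ∃ v : Wp P d f, ORel P (St P ω) d e w v := by
  obtain ⟨x, hx⟩ := mem_Orb.1 (ho (euG (o.mem.2 he) hw (c := P.q w) (by simp) • ω))
  rw [← mul_smul] at hx
  refine ⟨x.w, (has_St_iff fun z => ?_).2 hx⟩
  rw [EG_mul_apply, h.toG_apply, euG_apply, o.sub_mem.1 x.valid]

theorem exists_refl (o : Orth P) {a : V} (ha : P.q a ≠ 0) :
    ∃ ρ ∈ P.Isom, ∀ x, ρ x = x - ((P.q a)⁻¹ * P.B a x) • a := by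
  obtain ⟨ρ, hρ, e⟩ := has_qrefl_isom o.nd (c := -(P.q a)⁻¹) (d := a) (by
    simp [o.mem, o.eps, ha])
  exact ⟨ρ, hρ, fun x => by rw [e, P.qrefl_apply]; module⟩

theorem exists_refl_mul (o : Orth P) (hn : 5 ≤ finrank F V) {a b : V} (ha : P.q a ≠ 0)
    (hb : P.q b = P.q a) : ∃ g : EG P, ∀ x, g.1 x = x - ((P.q a)⁻¹ * P.B b x) • b -
      ((P.q a)⁻¹ * (P.B a x - (P.q a)⁻¹ * P.B b x * P.B a b)) • a := by
  obtain ⟨ρ, hρ, e⟩ := o.exists_refl ha
  have ha0 : a ≠ 0 := fun h => ha (by rw [h, o.q_zero])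
  have hb0 : b ≠ 0 := fun h => ha (by rw [← hb, h, o.q_zero])
  obtain ⟨k, hk, ek⟩ := o.iso.exists_EG_apply_eq o.nd (by omega) ha0 hb0 (o.sub_mem.2 hb.symm)
  have hk' := EG_le_isom hk
  have h1 : ∀ x, ρ⁻¹ x = ρ x := fun x => inv_apply_of_eq (by
    rw [e, e x, map_sub, map_smul, o.self, smul_eq_mul]
    have : (P.q a)⁻¹ * (P.B a x - (P.q a)⁻¹ * P.B a x * (2 * P.q a)) = -((P.q a)⁻¹ * P.B a x) := by
      field_simp
      ring
    rw [this]
    module)
  refine ⟨⟨ρ * k * ρ⁻¹ * k⁻¹, o.iso.commutator_mem_EG o.nd (by omega) hρ hk'⟩, fun x => ?_⟩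
  have h2 : k (ρ (k⁻¹ x)) = x - ((P.q a)⁻¹ * P.B b x) • b := by
    rw [e, map_sub, map_smul, le_apply_inv, ← hk'.1 a, le_apply_inv, ek]
  simp only [le_mul_apply, h1]
  rw [h2, e]
  simp only [map_sub, map_smul, smul_eq_mul]

theorem exists_pair_nonsing (o : Orth P) (hn : 3 ≤ finrank F V) :
    ∃ e f u, Pair P e f ∧ P.B e u = 0 ∧ P.B f u = 0 ∧ P.q u ≠ 0 := by
  obtain ⟨e, -, he0, he⟩ := o.iso ⊤ (by rwa [finrank_top])
  obtain ⟨f, h⟩ := exists_pair o.nd he he0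
  have h1 := h.finrank_W
  obtain ⟨u, hu⟩ := (o.pw h).exists_q_ne (by omega)
  exact ⟨e, f, u, h, W_d u, W_f u, hu⟩

theorem exists_three (o : Orth P) (hn : 3 ≤ finrank F V) (h3 : (3 : F) = 0) :
    ∃ a b c, P.q a ≠ 0 ∧ P.q b = P.q a ∧ P.q c = P.q a ∧ P.B a b = 0 ∧ P.B a c = 0 ∧ P.B b c = 0 := by
  obtain ⟨e, f, u, h, h1, h2, hu⟩ := o.exists_pair_nonsing hn
  have h4 := o.mem.1 h.hd
  have h5 := o.mem.1 h.hf
  have h6 : P.B f e = 1 := by rw [o.symm, h.hdf]
  have h7 : (2 : F) ≠ 0 := fun h2 => one_ne_zero (by linear_combination h3 - h2 : (1 : F) = 0)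
  refine ⟨u + (e + P.q u • f), u - (e + P.q u • f), e - P.q u • f, ?_, ?_, ?_, ?_, ?_, ?_⟩ <;>
    simp only [o.q_add, o.q_sub, o.q_smul, h4, h5, h6, h.hdf, h.dd, h.ff, h1, h2, o.symm e u, o.symm f u,
      o.self u, map_add, map_sub, map_smul, LinearMap.add_apply, LinearMap.sub_apply,
      LinearMap.smul_apply, smul_eq_mul, map_smulₛₗ, RingHom.id_apply]
  · simpa [← two_mul] using ⟨h7, hu⟩
  · ring
  · linear_combination (-P.q u) * h3
  · ring
  · ring
  · ring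

variable [Finite F] [Finite V] {Ω : Type*} [MulAction (EG P) Ω] [Finite Ω]

theorem not_all_reg_three (o : Orth P) (hn : 7 ≤ finrank F V) (h3 : (3 : F) = 0) (h : Pair P d f)
    (ho : ∀ ω ω' : Ω, ω ∈ Orb h ω') (hΩ : ¬ 2 ∣ Nat.card Ω)
    (hr : ∀ (ω : Ω) e, P.q e = 0 → e ≠ 0 → Reg P (St P ω) e) : False := by
  have h1 := h.finrank_W
  obtain ⟨e, -, he0, he⟩ := (o.pw h).iso ⊤ (by rw [finrank_top]; omega)
  obtain ⟨e', h'⟩ := exists_pair (o.pw h).nd he he0
  have h2 := h'.finrank_W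
  obtain ⟨a, b, c, ha, hb, hc, hab, hac, hbc⟩ := ((o.pw h).pw h').exists_three (by omega) h3
  have key : ∀ x : Wp (Pw P d f) e e', P.B d x = 0 ∧ P.B f x = 0 ∧ P.B e x = 0 :=
    fun x => ⟨W_d x.1, W_f x.1, W_d x⟩
  obtain ⟨a1, a2, a3⟩ := key a
  obtain ⟨b1, b2, b3⟩ := key b
  obtain ⟨c1, c2, c3⟩ := key c
  have he1 : P.q e = 0 := o.mem.1 he
  have he2 := W_d e
  have he3 := W_f e
  change P.q a ≠ 0 at ha
  change P.q b = P.q a at hb
  change P.q c = P.q a at hc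
  change P.B a b = 0 at hab
  change P.B a c = 0 at hac
  change P.B b c = 0 at hbc
  have he4 : (e : V) ≠ 0 := by simpa using he0
  generalize (a : V) = a at *
  generalize (b : V) = b at *
  generalize (c : V) = c at *
  generalize (e : V) = e at *
  obtain ⟨g, eg⟩ := o.exists_refl_mul (by omega) ha hb
  obtain ⟨k, ek⟩ := o.exists_refl_mul (by omega) ha hc
  simp only [hab, hac, mul_zero, sub_zero] at eg ek
  have sq : ∀ {b : V} {g : EG P}, P.q b = P.q a → P.B a b = 0 →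
      (∀ x, g.1 x = x - ((P.q a)⁻¹ * P.B b x) • b - ((P.q a)⁻¹ * P.B a x) • a) →
      g ^ 2 = 1 ∧ g.1 a = -a := fun {b g} hb hab eg => by
    refine ⟨EG_ext fun x => ?_, ?_⟩
    · rw [pow_two, EG_mul_apply, eg, eg]
      change _ = x
      simp only [map_sub, map_smul, smul_eq_mul, o.self, hb, hab, o.symm a b]
      match_scalars <;> field_simp <;> ring
    · rw [eg, o.symm a b, hab, o.self]
      match_scalars <;> field_simp <;> ring
  obtain ⟨ω, hg, hk⟩ := exists_fix_two (Ω := Ω) Nat.prime_two hΩ (sq hb hab eg).1 (sq hc hac ek).1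
    (EG_ext fun x => by
      simp only [EG_mul_apply, eg, ek, map_sub, map_smul, smul_eq_mul, o.self, hb, hc, hab, hac, hbc,
        o.symm a b, o.symm a c, o.symm b c]
      module)
  obtain ⟨v, hv⟩ := o.exists_rel h (ho ω) he1 a3
  have hd := o.mem.1 h.hd
  have step : ∀ {b : V} {g : EG P}, P.q b = P.q a → P.B a b = 0 → P.B d b = 0 → P.B f b = 0 →
      P.B e b = 0 → g • ω = ω →
      (∀ x, g.1 x = x - ((P.q a)⁻¹ * P.B b x) • b - ((P.q a)⁻¹ * P.B a x) • a) →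
      ∃ s t : F, (2 : F) • (v : V) = s • a + ((P.q a)⁻¹ * P.B b v) • b + t • e :=
    fun {b g} hb hab b1 b2 b3 hg eg => by
      have h4 := o.rel_conj hv (coe_mem_St.2 hg) (EG_le_isom g.2)
        (by rw [eg]; simp [o.symm d, a1, b1]) (by rw [eg]; simp [o.symm e, a3, b3])
      rw [(sq hb hab eg).2] at h4
      have h5 := o.rel_add hd he1 (by rw [o.symm, he2]) (by simp [a3]) a3 (by simp [o.symm d, a1])
        (by rw [eg]; simp [W_d, a1, b1]) (W_d v) h4 hv
      rw [neg_add_cancel] at h5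
      have h6 := o.rel_zero h (hr ω d hd h.d_ne) (by rw [eg, o.eu]; simp [W_d, a1, b1, he2])
        (by rw [eg, o.eu]; simp [W_f, a2, b2, he3]) h5
      rw [eg, o.eu] at h6
      exact ⟨(P.q a)⁻¹ * P.B a v - P.B e v, -(P.B (-a) v - P.q (-a) * P.B e v),
        by linear_combination (norm := module) h6⟩
  have h7 : (2 : F) ≠ 0 := fun h2 => one_ne_zero (by linear_combination h3 - h2 : (1 : F) = 0)
  obtain ⟨s, t, e1⟩ := step hb hab b1 b2 b3 hg eg
  obtain ⟨s', t', e2⟩ := step hc hac c1 c2 c3 hk ek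
  have h8 : P.B b v = 0 := by
    have := congrArg (P.B b) e2
    simpa [o.symm a b, hab, hbc, o.symm e b, b3, h7] using this
  have h9 : (v : V) = (2⁻¹ * s) • a + (2⁻¹ * t) • e := by
    apply smul_right_injective V h7
    simp only [e1, h8, smul_add, smul_smul, mul_inv_cancel_left₀ h7]
    simp
  rw [h9] at hv
  refine o.rel_final h he1 he4 he2 he3 a1 a3 ha hv (hr ω _ ?_ fun e1 => ?_)
  · simp [o.q_add, o.q_smul, he1, hd, o.symm d e, he2]
  · have h3 := congrArg (P.B f) e1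
    simp only [map_add, he3, map_smul, h.fd, o.eps, map_zero, smul_eq_mul, mul_one, zero_add] at h3
    exact he4 (by simpa [h3] using e1)

theorem not_all_reg_two (o : Orth P) (hn : 7 ≤ finrank F V) (h01 : ∀ x : F, x ≠ 0 → x = 1)
    (h : Pair P d f) (ho : ∀ ω ω' : Ω, ω ∈ Orb h ω') (hΩ : ¬ 3 ∣ Nat.card Ω)
    (hr : ∀ (ω : Ω) e, P.q e = 0 → e ≠ 0 → Reg P (St P ω) e) : False := by
  have h2 : (2 : F) = 0 := by
    by_contra h2
    exact one_ne_zero (by linear_combination h01 2 h2 : (1 : F) = 0)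
  have h1 := h.finrank_W
  obtain ⟨e, -, he0, he⟩ := (o.pw h).iso ⊤ (by rw [finrank_top]; omega)
  obtain ⟨e', h'⟩ := exists_pair (o.pw h).nd he he0
  have h3 := h'.finrank_W
  have o' := (o.pw h).pw h'
  obtain ⟨e₁, e₂, u, hp, u1, u2, u3⟩ := o'.exists_pair_nonsing (by omega)
  obtain ⟨a, b, ha, hb, hab⟩ : ∃ a b : Wp (Pw P d f) e e', P.q a = 1 ∧ P.q b = 1 ∧ P.B a b = 1 := by
    refine ⟨e₁ + e₂, e₁ + u, ?_, ?_, ?_⟩
    · exact (o'.q_add e₁ e₂).trans (by rw [o'.mem.1 hp.hd, o'.mem.1 hp.hf, hp.hdf]; simp)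
    · exact (o'.q_add e₁ u).trans (by rw [o'.mem.1 hp.hd, h01 _ u3, u1]; simp)
    · change (Pw (Pw P d f) e e').B (e₁ + e₂) (e₁ + u) = 1
      simp only [map_add, LinearMap.add_apply, hp.dd, hp.fd, o'.eps, u1, u2]
      simp
  have key : ∀ x : Wp (Pw P d f) e e', P.B d x = 0 ∧ P.B f x = 0 ∧ P.B e x = 0 :=
    fun x => ⟨W_d x.1, W_f x.1, W_d x⟩
  obtain ⟨a1, a2, a3⟩ := key a
  obtain ⟨b1, b2, b3⟩ := key b
  have he1 : P.q e = 0 := o.mem.1 he
  have he2 := W_d e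
  have he3 := W_f e
  have he4 : (e : V) ≠ 0 := by simpa using he0
  generalize (a : V) = a at *
  generalize (b : V) = b at *
  generalize (e : V) = e at *
  obtain ⟨g, eg'⟩ := o.exists_refl_mul (a := a) (b := b) (by omega) (by simp [ha]) (by rw [ha, hb])
  have haa : P.B a a = 0 := by simp [o.self, h2]
  have hbb : P.B b b = 0 := by simp [o.self, h2]
  have hee : P.B e e = 0 := by simp [o.self, h2]
  have hba : P.B b a = 1 := by rw [o.symm, hab]
  have eg : ∀ x, g.1 x = x - P.B b x • b - (P.B a x - P.B b x) • a := fun x => by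
    simpa [ha, hab] using eg' x
  have z2 : ∀ x : V, (2 : F) • x = 0 := fun x => by rw [h2, zero_smul]
  obtain ⟨ω, hg⟩ := exists_fix_one (Ω := Ω) Nat.prime_three hΩ (g := g) (EG_ext fun x => by
    rw [pow_three, EG_mul_apply, EG_mul_apply, eg, eg, eg]
    change _ = x
    simp only [map_sub, map_smul, smul_eq_mul, haa, hbb, hab, hba]
    linear_combination (norm := module) z2 (-(4 * P.B b x - 2 * P.B a x) • b -
      (4 * P.B a x - 6 * P.B b x) • a))
  obtain ⟨v, hv⟩ := o.exists_rel h (ho ω) he1 a3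
  have hd := o.mem.1 h.hd
  have hR := hr ω d hd h.d_ne
  have g1 : g.1 d = d := by rw [eg]; simp [o.symm d, a1, b1]
  have g2 : g.1 e = e := by rw [eg]; simp [o.symm e, a3, b3]
  have g3 : g.1 a = -b + a + a := by rw [eg, hba, haa]; module
  have g4 : g.1 b = b - a := by rw [eg, hbb, hab]; module
  have hed : P.B e d = 0 := by rw [o.symm, he2]
  have h4 := o.rel_add hd he1 hed a3 a3 (by rw [o.symm, a1]) (W_d v) (W_d v) hv hv
  rw [← two_smul F a, z2] at h4
  have h5 := o.rel_zero h hR (by rw [o.eu]; simp [W_d, a1, he2]) (by rw [o.eu]; simp [W_f, a2, he3]) h4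
  rw [o.eu] at h5
  have h6 : P.B e v = 0 := by
    have := congrArg (P.B b) h5
    simp only [map_add, map_sub, map_smul, smul_eq_mul, o.symm e b, b3, hba, map_zero] at this
    linear_combination -this + P.B b v * h2
  have h7 : P.B a v = 0 := by
    have : P.B a v • e = 0 := by
      rw [h6] at h5
      linear_combination (norm := module) h5 - z2 v
    exact (smul_eq_zero.1 this).resolve_right he4
  have r1 := o.rel_conj hv (coe_mem_St.2 hg) (EG_le_isom g.2) g1 g2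
  have r2 := o.rel_conj r1 (coe_mem_St.2 hg) (EG_le_isom g.2) g1 g2
  have v1 : g.1 v = v - P.B b v • b + P.B b v • a := by rw [eg, h7]; module
  have v2 : g.1 (g.1 v) = v - P.B b v • (b - a) - P.B b v • b + P.B b v • a +
      P.B b v • (-b + a + a) := by
    rw [v1, map_add, map_sub, map_smul, map_smul, v1, g3, g4]; module
  have a4 : g.1 a = b := by rw [g3]; linear_combination (norm := module) z2 a - z2 b
  rw [a4] at r1
  rw [a4, g4] at r2
  have r3 := o.rel_add hd he1 hed a3 b3 (by rw [o.symm, a1]) (W_d v)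
    (by rw [v1]; simp [W_d, a1, b1]) hv r1
  have r4 := o.rel_add hd he1 hed (by simp [a3, b3]) (by simp [a3, b3]) (by simp [o.symm d, a1, b1])
    (by rw [o.eu, v1]; simp [W_d, a1, b1, he2]) (by rw [v2]; simp [W_d, a1, b1]) r3 r2
  rw [show a + b + (b - a) = 0 by linear_combination (norm := module) z2 b] at r4
  have h8 := o.rel_zero h hR (by rw [o.eu, o.eu, v2, v1]; simp [W_d, a1, b1, he2])
    (by rw [o.eu, o.eu, v2, v1]; simp [W_f, a2, b2, he3]) r4
  have e1 : P.B e (g.1 v) = 0 := by rw [← g2, EG_B, h6]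
  have e2 : P.B e (g.1 (g.1 v)) = 0 := by rw [← g2, EG_B, e1]
  rw [o.eu, o.eu, e1, e2] at h8
  have h9 : (v : V) = P.B b v • a + (P.B a (g.1 v) + P.B (a + b) (g.1 (g.1 v))) • e := by
    generalize P.B a (g.1 v) = s at h8 ⊢
    generalize P.B (a + b) (g.1 (g.1 v)) = t at h8 ⊢
    rw [v2, v1] at h8
    linear_combination (norm := module) h8 - z2 v - z2 ((s + t) • e) - z2 ((3 * P.B b v) • a) +
      z2 ((2 * P.B b v) • b)
  rw [h9] at hv
  refine o.rel_final h he1 he4 he2 he3 a1 a3 (by simp [ha]) hv (hr ω _ ?_ fun e1 => ?_)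
  · simp [o.q_add, o.q_smul, he1, hd, hed]
  · have h3 := congrArg (P.B f) e1
    simp only [map_add, he3, map_smul, h.fd, o.eps, map_zero, smul_eq_mul, mul_one, zero_add] at h3
    exact he4 (by simpa [h3] using e1)

theorem exists_tor (o : Orth P) (hn : 5 ≤ finrank F V) (h : Pair P d f) {a : F} (ha : a ≠ 0)
    (ha1 : a * a ≠ 1) : ∃ (t : EG P) (ht : Lev d f t (a * a)), (∀ w : Wp P d f, t.1 w = w) ∧
      ∀ x, ht.cj x = x → x = 1 := by
  obtain ⟨t, ht, hw⟩ := h.exists_tor o.iso o.nd hn ha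
  exact ⟨t, ht, hw, ht.fpf_of_triv hw ha1 fun l hl _ => o.mem.1 hl⟩

theorem not_all_reg_tor (o : Orth P) (hn : 7 ≤ finrank F V) {a : F} (ha : a ≠ 0) (ha1 : a * a ≠ 1)
    (h : Pair P d f) [Nonempty Ω] (ho : ∀ ω ω' : Ω, ω ∈ Orb h ω')
    (hr : ∀ (ω : Ω) e, P.q e = 0 → e ≠ 0 → Reg P (St P ω) e) : False := by
  obtain ⟨t, ht, hw, hf⟩ := o.exists_tor (by omega) h ha ha1
  obtain ⟨ω⟩ := ‹Nonempty Ω›
  obtain ⟨ω', -, h1⟩ := ht.exists_fix h hf (ho _ ω)
  have h2 := h.finrank_W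
  obtain ⟨r, -, hr0, hr1⟩ := (o.pw h).iso ⊤ (by rw [finrank_top]; omega)
  have h3 := finrank_le_perp (P := Pw P d f) (F ∙ r)
  have h4 := finrank_span_singleton_le (F := F) r
  obtain ⟨w, hw1, hw2⟩ := exists_notMem_of_lt (X := perp (Pw P d f) (F ∙ r)) (U := F ∙ r) (by omega)
  rw [mem_perp_singleton, Pw_B] at hw1
  have hr2 : (r : V) ≠ 0 := by simpa using hr0
  refine not_reg_of_has o.nd hr2 hw1 (c := P.q w) (by simp)
    (has_of_tor h ht hw hf h1 hr1 hw1 (by simp) (ho _ _)) (fun h5 => hw2 ?_) (hr ω' r (o.mem.1 hr1) hr2)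
  obtain ⟨b, hb⟩ := Submodule.mem_span_singleton.1 h5
  exact Submodule.mem_span_singleton.2 ⟨b, Subtype.ext hb⟩

theorem exists_sq_ne_one (hq : 4 ≤ Nat.card F) : ∃ a : F, a ≠ 0 ∧ a * a ≠ 1 := by
  by_contra h
  push Not at h
  have := Fintype.ofFinite F
  have := card_le_three_of_sq h
  rw [Nat.card_eq_fintype_card] at hq
  omega

theorem eq_one_of_card_two (hq : Nat.card F = 2) (x : F) (hx : x ≠ 0) : x = 1 := by
  obtain ⟨y, -, hy⟩ := (Nat.card_eq_two_iff' (0 : F)).1 hq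
  rw [hy x hx, hy 1 one_ne_zero]

theorem cast_card_eq_zero : ((Nat.card F : ℕ) : F) = 0 := by
  have := Fintype.ofFinite F
  rw [Nat.card_eq_fintype_card, FiniteField.cast_card_eq_zero]

/-- If all annihilators are points or everything, some stabiliser fixes a point. -/
theorem exists_point (o : Orth P) (hn : 7 ≤ finrank F V) (h : Pair P d f) [Nonempty Ω]
    (hne : ∀ ω : Ω, ¬ EG P ≤ St P ω) (hlt : Nat.card Ω < 2 * Nat.card (Wp P d f))
    (hY : ∀ ω : Ω, YS h (St P ω) = ⊤ ∨ ∃ y, ∀ v ∈ YS h (St P ω), v ∈ F ∙ y) :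
    ∃ (ω : Ω) (v : V), v ≠ 0 ∧ St P ω ≤ stab (F ∙ v) := by
  have hD := dich_of_point (Ω := Ω) o.iso o.nd (by omega) h.hd h.d_ne fun ω hω => by
    rcases hY ω with h1 | ⟨y, h1⟩
    · exact absurd (h.reg_iff.2 ⟨(annR_eq_top_iff (h.nd o.nd)).1 h1, o.ZS_bot _ _⟩) hω
    · exact h.tt_of o.nd (o.ZS_eq _ _) h1
  by_cases hr : ∀ (ω : Ω) e, P.q e = 0 → e ≠ 0 → Reg P (St P ω) e
  swap
  · push Not at hr
    obtain ⟨ω, e, he, he0, h1⟩ := hr
    exact ⟨ω, exists_le_stab' o.iso o.nd hn (St_le_isom ω) (o.rich hn) (hD ω) (hne ω) (o.mem.2 he)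
      he0 h1⟩
  exfalso
  have hd := o.mem.1 h.hd
  have ho : ∀ ω ω' : Ω, ω ∈ Orb h ω' := fun ω ω' => h.mem_Orb_of_reg o.nd
    (by rwa [o.card_lam, mul_one]) (hr ω' d hd h.d_ne) (hr ω d hd h.d_ne)
  obtain ⟨ω⟩ := ‹Nonempty Ω›
  have hc := h.card_eq_of_reg o.nd (hr ω d hd h.d_ne) fun ω' => ho ω' ω
  rw [o.card_lam, mul_one, card_submodule] at hc
  have h2 : 2 ≤ Nat.card F := Finite.one_lt_card
  rcases (by omega : Nat.card F = 2 ∨ Nat.card F = 3 ∨ 4 ≤ Nat.card F) with hq | hq | hq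
  · refine o.not_all_reg_two hn (eq_one_of_card_two hq) h ho (fun h3 => ?_) hr
    rw [hc, hq] at h3
    exact absurd (Nat.prime_three.dvd_of_dvd_pow h3) (by norm_num)
  · refine o.not_all_reg_three hn (by simpa [hq] using cast_card_eq_zero (F := F)) h ho (fun h3 => ?_) hr
    rw [hc, hq] at h3
    exact absurd (Nat.prime_two.dvd_of_dvd_pow h3) (by norm_num)
  · obtain ⟨a, ha, ha1⟩ := exists_sq_ne_one hq
    exact o.not_all_reg_tor hn ha ha1 h ho hr

end Orth

theorem force_eq_reg : True := by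
  have := @ORel.eq_1.{0,0}
  have := @ORel.eq_def.{0,0}
  trivial

end H20.MD
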