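import Cfsg.Agent.Lib.MinDeg.Trans

/-! Symplectic spaces: local lemmas. -/

set_option autoImplicit false
set_option linter.unusedSectionVars false
set_option linter.unusedSimpArgs false
set_option linter.unusedVariables false

namespace H20.MD

open Module H28 H97
open scoped Classical

variable {F V : Type*} [Field F] [AddCommGroup V] [Module F V] [FiniteDimensional F V]

section Ann

variable [Finite F]

theorem card_annF (Z : AddSubgroup F) :
    Nat.card {b // ∀ x ∈ Z, psi F (b * x) = 1} * Nat.card Z = Nat.card F := by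
  refine card_ann (fun b => (psi F).mulShift b) ⟨fun a b e => ?_, fun χ => ?_⟩ Z
  · refine sub_eq_zero.1 (eq_zero_of_psi fun t => ?_)
    have h1 : psi F (a * t) = psi F (b * t) := DFunLike.congr_fun e t
    rw [show t * (a - b) = a * t - b * t by ring, AddChar.map_sub_eq_div, h1,
      div_self (AddChar.val_isUnit _ _).ne_zero]
  · obtain ⟨κ, h⟩ := exists_eq_psi χ
    exact ⟨κ, AddChar.ext _ _ fun t => (h t).symm⟩

end Ann

theorem zf_zero {σ : F →+* F} {P : PQ F V σ} {H : Subgroup (V ≃ₗ[F] V)} : ZF P H 0 := fun l _ =>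
  has_id.congr fun x => (eu_zero_left _ _ _).symm

theorem exists_perp_ne {σ : F →+* F} {P : PQ F V σ} (hP : P.B.SeparatingLeft) {U : Submodule F V} {x : V}
    (hx : x ∉ U) (s : F) : ∃ w, (∀ u ∈ U, P.B u w = 0) ∧ P.B x w = s := by
  obtain ⟨w, h1, h2⟩ := exists_orth_of_notMem P.σσ P.B hP U hx
  refine ⟨(s * P.ε) • w, fun u hu => by simp [P.eq_zero_symm (h1 u hu)], ?_⟩
  rw [map_smul, P.symm, h2, map_one, smul_eq_mul]
  linear_combination s * P.εε

theorem exists_B_eq {σ : F →+* F} {P : PQ F V σ} (hP : P.B.SeparatingLeft) {x : V} (hx : x ≠ 0) (s : F) :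
    ∃ w, P.B x w = s := by
  obtain ⟨w, -, h⟩ := exists_perp_ne hP (U := ⊥) (x := x) (by simpa using hx) s
  exact ⟨w, h⟩

/-- Non-degenerate alternating forms. -/
structure Symp (P : PQ F V (RingHom.id F)) : Prop where
  lam : P.Λ = ⊤
  nd : P.B.SeparatingLeft
  eps : P.ε = -1

variable {P : PQ F V (RingHom.id F)} {d f : V} {H : Subgroup (V ≃ₗ[F] V)}

namespace Symp

theorem pw (o : Symp P) (h : Pair P d f) : Symp (Pw P d f) := ⟨o.lam, h.nd o.nd, o.eps⟩

theorem mem (o : Symp P) (c : F) : c ∈ P.Λ := o.lam ▸ AddSubgroup.mem_top c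

theorem iso (o : Symp P) : IsoK P 1 := fun X hX => by
  obtain ⟨x, h1, h2⟩ := exists_ne_zero_mem hX
  exact ⟨x, h1, h2, o.mem _⟩

theorem alt (o : Symp P) (x : V) : P.B x x = 0 := P.self_eq_zero (o.mem _)

theorem skew (o : Symp P) (x y : V) : P.B y x = -P.B x y := by rw [P.symm, o.eps]; simp

theorem eu (o : Symp P) (d w : V) (c : F) (x : V) :
    eu P d w c x = x + (P.B w x + c * P.B d x) • d + P.B d x • w := by
  rw [eu_apply, o.eps]; module

theorem card_lam (o : Symp P) : Nat.card P.Λ = Nat.card F := by rw [o.lam, AddSubgroup.card_top]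

theorem isom_le (o : Symp P) : P.Isom ≤ EG P :=
  isom_le_of_qrefl o.nd EG_le_isom (fun c d hc => has_qrefl_EG_of_sing (o.mem _) hc) le_rfl

theorem exists_apply_eq (o : Symp P) {x y : V} (hx : x ≠ 0) (hy : y ≠ 0) : ∃ γ ∈ EG P, γ x = y := by
  obtain ⟨g, hg, e, -⟩ := P.witt_step o.nd ⊥ (u := x) (v := y) (by simpa using hx) (by simpa using hy)
    (o.mem _) (by simp)
  exact ⟨g, o.isom_le hg, e⟩

theorem exists_tor (o : Symp P) (h : Pair P d f) {a : F} (ha : a ≠ 0) :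
    ∃ g : EG P, Lev d f g a ∧ ∀ w : Wp P d f, g.1 w = w := by
  obtain ⟨g, hg, h1, h2, h3⟩ := h.exists_tor_isom o.nd ha
  exact ⟨⟨g, o.isom_le hg⟩, ⟨ha, h1, h2⟩, h3⟩

theorem exists_lev (o : Symp P) (h : Pair P d f) {y y' : Wp P d f} (hy : y ≠ 0) (hy' : y' ≠ 0) {a : F}
    (ha : a ≠ 0) : ∃ g : EG P, Lev d f g a ∧ g.1 y = a • (y' : V) := by
  obtain ⟨t, ht, hw⟩ := o.exists_tor h ha
  obtain ⟨γ, hγ, e⟩ := (o.pw h).exists_apply_eq hy (smul_ne_zero ha hy')
  obtain ⟨g, hg, e'⟩ := exists_ext hγ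
  exact ⟨t * g, by simpa using ht.mul hg, by rw [EG_mul_apply, e', hw, e, Submodule.coe_smul]⟩

theorem levAut (o : Symp P) (h : Pair P d f) {y y' : Wp P d f} (hy : y ≠ 0) (hy' : y' ≠ 0) :
    ∃ γ ∈ LevAut P d f, γ y = y' := by
  obtain ⟨γ, hγ, e⟩ := (o.pw h).exists_apply_eq hy hy'
  exact ⟨γ, EG_le_LevAut hγ, e⟩

theorem exists_pair (o : Symp P) {e : V} (he : e ≠ 0) : ∃ f, Pair P e f := MD.exists_pair o.nd (o.mem _) he

theorem mem_lvl (o : Symp P) [Finite V] {x : V} : x ∈ lvl P 0 ↔ x ≠ 0 := by simp [MD.mem_lvl, o.mem]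

theorem card_lvl (o : Symp P) [Finite F] [Finite V] : (lvl P 0).card + 1 = Nat.card V := by
  rw [card_lvl_of_mem (zero_mem _), cnt_def]
  exact Nat.card_congr (Equiv.subtypeUnivEquiv fun x => o.mem _)

theorem exists_sub (o : Symp P) (h2 : (2 : F) ≠ 0) : ∀ l ∈ P.Λ, ∃ t, l = t - P.ε * RingHom.id F t :=
  fun l _ => ⟨l / 2, by rw [o.eps, RingHom.id_apply]; field_simp; ring⟩

/-- Subgroups with a unique image through each of their vectors. -/
theorem sub_or_top (o : Symp P) [Finite F] [Finite V] {Γ : Subgroup (V ≃ₗ[F] V)} (hΓ : EG P ≤ Γ) {Y : AddSubgroup V}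
    (hβ : ∀ y ∈ Y, y ≠ 0 → (Im Γ Y y).ncard ≤ 1) : (∃ y, ∀ v ∈ Y, v ∈ F ∙ y) ∨ Y = ⊤ := by
  rcases Orth.sub_or_pair (F := F) Y with h | ⟨x, hx, y, hy, hy0, hxy⟩
  · exact Or.inl h
  have key : ∀ y ∈ Y, y ≠ 0 → ∀ r, P.B r y = 0 → ∀ x ∈ Y, P.B r x ≠ 0 → ∀ a : F, a • r ∈ Y := by
    intro y hy hy0 r hry x hx hrx a
    obtain ⟨γ, hγ, e⟩ := has_eu_EG (P := P) (d := r) (w := 0) (c := a / P.B r x) (o.mem _) (map_zero _)
      (o.mem _)
    have h1 := img_eq_of_le_one (hΓ hγ) (by rw [e, o.eu]; simp [hry]) hy (hβ y hy hy0)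
    have h2 : γ x ∈ Y := by rw [← h1, apply_mem_img]; exact hx
    have h3 := Y.sub_mem h2 hx
    rw [e, o.eu] at h3
    simpa [div_mul_cancel₀ a hrx] using h3
  obtain ⟨u, hu, v, hv, huv⟩ : ∃ u ∈ Y, ∃ v ∈ Y, P.B u v ≠ 0 := by
    obtain ⟨r, h1, h2⟩ := exists_perp_ne o.nd hxy 1
    have h3 : P.B r x ≠ 0 := B_ne_zero_symm (by simp [h2])
    have h4 := key y hy hy0 r (P.eq_zero_symm (h1 y (Submodule.mem_span_singleton_self y))) x hx h3 1
    exact ⟨r, by simpa using h4, x, hx, h3⟩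
  have hu0 : u ≠ 0 := fun e => huv (by simp [e])
  have hv0 : v ≠ 0 := fun e => huv (by simp [e])
  have h1 := key u hu hu0 u (o.alt u) v hv huv
  have h2 := key v hv hv0 v (o.alt v) u hu (B_ne_zero_symm huv)
  have h3 : ∀ r, P.B r v ≠ 0 → r ∈ Y := fun r hr => by
    refine (one_smul F r) ▸ key (u + (-(P.B r u / P.B r v)) • v) (Y.add_mem hu (h2 _)) (fun e => ?_) r
      (by simp [div_mul_cancel₀ _ hr]) v hv hr 1
    have := congrArg (fun z => P.B z v) e
    simp [o.alt, huv] at this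
  refine Or.inr (eq_top_iff.2 fun r _ => ?_)
  by_cases hr : P.B r v = 0
  · simpa using Y.sub_mem (h3 (r + u) (by simpa [hr] using huv)) hu
  · exact h3 r hr

theorem al_symm (o : Symp P) {r : V} {c a l : F} (h : AL P H d r c a l) : AL P H r d l a c := by
  refine Has.congr h fun x => ?_
  simp only [o.eps, RingHom.id_apply]
  module

theorem al_conj (o : Symp P) (hH : H ≤ P.Isom) (hX : XF P H d) {r : V} (hdr : P.B d r = 0)
    (hr : r ∉ F ∙ d) {c a l : F} (h : AL P H d r c a l) (s : F) :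
    AL P H d r (2 * a * s - l * s * s) (l * s) 0 := by
  obtain ⟨w, h1, h2⟩ := exists_perp_ne o.nd hr s
  have hw := h1 d (Submodule.mem_span_singleton_self d)
  obtain ⟨c₀, -, h3⟩ := hX w hw
  obtain ⟨g, hg, e⟩ := h
  have h4 := has_eu_conj h3 hg (hH hg)
  have e1 : g d = d := by rw [e]; simp [o.alt, P.eq_zero_symm hdr]
  have e2 : g w = (w + (l * s) • r) + (a * s) • d := by
    rw [e]; simp only [hw, h2, o.eps, RingHom.id_apply]; module
  rw [e1, e2] at h4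
  have h5 := has_eu_add (o.mem _) (by simp [hw, hdr]) (by simp [hw])
    (h4.congr (eu_add_smul _ _ _ _)) (has_eu_neg (o.mem _) hw h3)
  rw [show w + (l * s) • r + -w = (l * s) • r by module] at h5
  rw [al_left]
  convert h5 using 3
  simp only [map_neg, map_add, LinearMap.add_apply, B_smul_left, o.alt, h2, o.eps, RingHom.id_apply]
  ring

theorem zf_of_al (o : Symp P) {s : F} (hs0 : s ≠ 0) (hs1 : s ≠ 1) (hH : H ≤ P.Isom) (hX : XF P H d) {r : V}
    (hdr : P.B d r = 0) (hr : r ∉ F ∙ d) (h : ∀ l, ∃ c a, 2 * a = 0 ∧ AL P H d r c a l) : ZF P H d := by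
  intro z _
  have hs := sub_ne_zero.2 hs1
  obtain ⟨c, a, ha, h1⟩ := h (z / (s - 1))
  obtain ⟨c', a', ha', h2⟩ := h (z / (s - 1) / s)
  have h3 := (o.al_conj hH hX hdr hr h1 1).sub (o.alt _) (o.alt _) hdr (o.al_conj hH hX hdr hr h2 s)
  have h4 := al_left.1 (h3.congr (c' := z) (a' := 0) (by rw [ha, ha']; field_simp; ring)
    (by field_simp; ring) (by ring))
  simpa using h4

theorem zf_of_zf (o : Symp P) {s : F} (hs0 : s ≠ 0) (hs1 : s ≠ 1) (hH : H ≤ P.Isom) (hX : XF P H d) {r : V}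
    (hdr : P.B d r = 0) (hr : r ∉ F ∙ d) (h : ZF P H r) : ZF P H d :=
  o.zf_of_al hs0 hs1 hH hX hdr hr fun l => ⟨0, 0, by simp,
    ((al_right (o.mem l) 0).2 (by simpa using h l (o.mem l))).congr rfl (by simp) rfl⟩

theorem eq_zero_of_xf (o : Symp P) [Finite F] (h2 : (2 : F) = 0) {s : F} (hs0 : s ≠ 0) (hs1 : s ≠ 1)
    (hH : H ≤ P.Isom) (hd0 : d ≠ 0) (hX : XF P H d) (hZ : ¬ ZF P H d) {r : V}
    (hdr : P.B d r = 0) (hr : r ∉ F ∙ d) (hX' : XF P H r) {c a : F} (h : AL P H d r c a 0) : c = 0 := by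
  by_contra hc
  refine hZ (o.zf_of_al hs0 hs1 hH hX hdr hr fun l => ?_)
  have : CharP F 2 := CharTwo.of_one_ne_zero_of_two_eq_zero one_ne_zero h2
  obtain ⟨t, ht⟩ := surjective_frobenius F 2 (l / c)
  have h3 := o.al_conj hH hX' (P.eq_zero_symm hdr)
    (not_mem_span_symm hd0 (fun e => hr (by simp [e])) hr) (o.al_symm h) t
  refine ⟨0, c * t, by simp [h2], (o.al_symm h3).congr rfl rfl ?_⟩
  rw [frobenius_def] at ht
  field_simp at ht
  linear_combination (a * t - c * t * t) * h2 + ht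

theorem EG_le_of_zf (o : Symp P) (hn : 1 ≤ finrank F V) (h : ∀ e, ZF P H e) : EG P ≤ H := by
  have h1 : ∀ d, XLe P H d := fun d => (h d).xle (o.mem _) fun w hw => by
    have := has_two (o.alt d) (o.alt w) hw (o.mem 1) (h (w + (1 : F) • d) 1 (o.mem _))
      (h (w + (0 : F) • d) 1 (o.mem _))
    exact ⟨_, o.mem _, by simpa using this⟩
  obtain ⟨d, -, hd⟩ := exists_ne_zero_mem (X := (⊤ : Submodule F V)) (by rwa [finrank_top])
  obtain ⟨f, hf⟩ := o.exists_pair hd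
  exact EG_le_of_xle o.nd (o.mem _) (o.mem _) (h1 d) (h1 f) (by simp [hf.hdf])

theorem exists_W (o : Symp P) (h : Pair P d f) (hn : 3 ≤ finrank F V) :
    ∃ r r' : Wp P d f, P.B r r' = 1 := by
  have := h.finrank_W
  obtain ⟨r, -, hr⟩ := exists_ne_zero_mem (X := (⊤ : Submodule F (Wp P d f))) (by rw [finrank_top]; omega)
  exact ⟨r, exists_B_eq (h.nd o.nd) hr 1⟩

theorem W_not_mem (h : Pair P d f) {r : Wp P d f} (hr : r ≠ 0) : (r : V) ∉ F ∙ d := fun hm => by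
  obtain ⟨a, e⟩ := Submodule.mem_span_singleton.1 hm
  exact hr (h.smul_d_add_eq_zero (a := -a) (w := r) (by rw [← e]; simp)).2

/-- In even characteristic: all points of the two full types force the whole group. -/
theorem EG_le_of_types (o : Symp P) [Finite F] (h2 : (2 : F) = 0) {s : F} (hs0 : s ≠ 0) (hs1 : s ≠ 1)
    (hn : 3 ≤ finrank F V) (hH : H ≤ P.Isom) (h : ∀ e, e ≠ 0 → ZF P H e ∨ XF P H e) : EG P ≤ H := by
  refine o.EG_le_of_zf (by omega) fun d => ?_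
  by_cases hd0 : d = 0
  · exact hd0 ▸ zf_zero
  by_contra hZ
  have hX := (h d hd0).resolve_left hZ
  obtain ⟨f, hf⟩ := o.exists_pair hd0
  have key : ∀ (r : Wp P d f) c, r ≠ 0 → Has H (H97.eu P d r c) → c = 0 := fun r c hr h7 =>
    o.eq_zero_of_xf h2 hs0 hs1 hH hd0 hX hZ (W_d r) (W_not_mem hf hr)
      ((h r (by simpa using hr)).resolve_left fun h3 =>
        hZ (o.zf_of_zf hs0 hs1 hH hX (W_d r) (W_not_mem hf hr) h3))
      ((al_left (a := 1)).2 (by simpa using h7))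
  obtain ⟨r, r', hr⟩ := o.exists_W hf hn
  obtain ⟨c, -, h3⟩ := hX r (W_d r)
  obtain ⟨c', -, h4⟩ := hX r' (W_d r')
  have h5 := key (r + r') _ (fun e => by
    have : (r : V) = -r' := eq_neg_of_add_eq_zero_left (congrArg Subtype.val e)
    rw [this] at hr
    simp [o.alt] at hr) (has_eu_add (o.mem _) (W_d r) (W_d r') h3 h4)
  rw [key r c (fun e => by simp [e] at hr) h3, key r' c' (fun e => by simp [e] at hr) h4, hr] at h5
  simp at h5

/-- The final step in the presence of a regular point. -/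
theorem le_stab (o : Symp P) {s : F} (hs0 : s ≠ 0) (hs1 : s ≠ 1) (hH : H ≤ P.Isom) (hne : ¬ EG P ≤ H)
    (h : Pair P d f) (hZ : ∀ r, P.B d r = 0 → P.B f r = 0 → ZF P H r) {r : V} (hr0 : r ≠ 0)
    (hdr : P.B d r = 0) (hfr : P.B f r = 0) (hr : ∀ a : F, Has H (H97.eu P f (a • r) 0)) :
    H ≤ stab (F ∙ f) := by
  have h' := h.symm
  have hW : ∀ w : Wp P f (P.ε • d), ZF P H w := fun w =>
    hZ w (by simpa [B_smul_left, P.ε_ne_zero] using W_f w) (W_d w)
  let r₀ : Wp P f (P.ε • d) := ⟨r, mem_Wp.2 ⟨hfr, by simp [B_smul_left, hdr]⟩⟩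
  have hr₀ : r₀ ≠ 0 := fun e => hr0 (congrArg Subtype.val e)
  have h1 : ∀ a : F, a • r₀ ∈ XS h' H := fun a => mem_XS.2 ⟨0, o.mem _, hr a⟩
  have h2 : ∀ w : Wp P f (P.ε • d), P.B w r ≠ 0 → w ∈ XS h' H := fun w hw => by
    obtain ⟨g, hg, e⟩ := hW w (P.B w r)⁻¹ (o.mem _)
    have h3 := has_eu_conj (hr 1) hg (hH hg)
    rw [e, e, eu_fix _ (W_d' w) (by simp), one_smul, o.eu] at h3
    have h4 : r₀ + w ∈ XS h' H := mem_XS.2 ⟨0, o.mem _, by simpa [inv_mul_cancel₀ hw] using h3⟩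
    simpa using (XS h' H).sub_mem h4 (h1 1)
  obtain ⟨u, hu⟩ := exists_B_eq (h'.nd o.nd) hr₀ 1
  have hX : XF P H f := h'.xf_iff.2 (eq_top_iff.2 fun w _ => by
    by_cases hw : P.B w r = 0
    · have h3 : P.B u r ≠ 0 := B_ne_zero_symm (by rw [show P.B r u = 1 from hu]; simp)
      simpa using (XS h' H).sub_mem (h2 (w + u) (by simpa [hw] using h3)) (h2 u h3)
    · exact h2 w hw)
  have hx : XLe P H f := (o.zf_of_zf hs0 hs1 hH hX hfr (W_not_mem h' hr₀) (hW r₀)).xle (o.mem _) hX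
  intro g hg
  refine mem_stab_of_maps fun v hv => ?_
  obtain ⟨a, rfl⟩ := Submodule.mem_span_singleton.1 hv
  rw [map_smul]
  refine Submodule.smul_mem _ a ?_
  have h3 := hx.apply hg (hH hg)
  have h4 : P.B f (g f) = 0 := by
    by_contra h4
    exact hne (EG_le_of_xle o.nd (o.mem _) (o.mem _) hx h3 h4)
  obtain ⟨α, β, w, e⟩ := h'.decomp' (g f)
  rw [e, h'.B_d_comb] at h4
  rw [h4, zero_smul, add_zero] at e
  by_cases hw : w = 0
  · rw [e, hw]
    simp [Submodule.smul_mem, Submodule.mem_span_singleton_self]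
  obtain ⟨t, ht⟩ := exists_B_eq (h'.nd o.nd) hw 1
  obtain ⟨k, hk, ek⟩ := hW t 1 (o.mem _)
  refine absurd (EG_le_of_xle o.nd (o.mem _) (o.mem _) h3 (h3.apply hk (hH hk)) ?_) hne
  have ht' : P.B w t = 1 := ht
  rw [ek, o.eu]
  simp [o.alt, e, W_d, W_d', B_smul_left, ht', o.skew w t]

end Symp

end H20.MD
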