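import Cfsg.Agent.Lib.MinDeg.SympA

/-! Minimal degrees of symplectic groups over fields with at least three elements. -/

set_option autoImplicit false
set_option linter.unusedSectionVars false
set_option linter.unusedSimpArgs false
set_option linter.unusedVariables false

namespace H20.MD

open Module H28 H97
open scoped Classical

variable {F V : Type*} [Field F] [AddCommGroup V] [Module F V] [FiniteDimensional F V]
  [Finite F] [Finite V]

theorem exists_ne_zero_one (hq : 3 ≤ Nat.card F) : ∃ s : F, s ≠ 0 ∧ s ≠ 1 := by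
  have := Fintype.ofFinite F
  obtain ⟨s, hs⟩ : ∃ s : F, s ∉ ({0, 1} : Finset F) := by
    by_contra h
    push Not at h
    have h1 := Finset.card_le_card (show Finset.univ ⊆ ({0, 1} : Finset F) from fun x _ => h x)
    have h2 := Finset.card_le_two (a := (0 : F)) (b := 1)
    rw [Finset.card_univ, ← Nat.card_eq_fintype_card] at h1
    omega
  exact ⟨s, by simpa using hs⟩

theorem card_le_of_meets {X : AddSubgroup V} (h : ∀ r : V, r ≠ 0 → ∃ μ : F, μ ≠ 0 ∧ μ • r ∈ X) :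
    Nat.card V ≤ (Nat.card X - 1) * (Nat.card F - 1) + 1 := by
  have := Fintype.ofFinite F
  have := Fintype.ofFinite V
  have h1 : (Finset.univ.erase (0 : V)).card ≤ (((Finset.univ.filter (· ∈ X)).erase 0) ×ˢ
      (Finset.univ.erase (0 : F))).card :=
    Finset.card_le_card_of_surjOn (fun p => p.2 • p.1) fun r hr => by
      have hr0 : r ≠ 0 := by simpa using hr
      obtain ⟨μ, h1, h2⟩ := h r hr0
      exact ⟨(μ • r, μ⁻¹), by simp [h1, h2, hr0], by simp [smul_smul, h1]⟩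
  rw [Finset.card_product, Finset.card_erase_of_mem (by simp), Finset.card_erase_of_mem (by simp),
    Finset.card_erase_of_mem (by simp), Finset.card_univ, Finset.card_univ, ← Fintype.card_subtype,
    ← Nat.card_eq_fintype_card, ← Nat.card_eq_fintype_card, ← Nat.card_eq_fintype_card] at h1
  omega

theorem eq_span_of_card {Y : AddSubgroup V} {y : V} (h : ∀ v ∈ Y, v ∈ F ∙ y)
    (hc : Nat.card F ≤ Nat.card Y) : y ≠ 0 ∧ Y = (F ∙ y).toAddSubgroup := by
  have h1 : 1 < Nat.card F := Finite.one_lt_card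
  have hy : y ≠ 0 := fun e => by
    have : Y = ⊥ := eq_bot_iff.2 fun v hv => by simpa [e] using h v hv
    rw [this, AddSubgroup.card_bot] at hc
    omega
  exact ⟨hy, AddSubgroup.eq_of_le_of_card_ge h (by
    rwa [show Nat.card (F ∙ y).toAddSubgroup = Nat.card F from card_span_singleton hy])⟩

theorem card_le_of_sub {Y : AddSubgroup V} {y : V} (h : ∀ v ∈ Y, v ∈ F ∙ y) : Nat.card Y ≤ Nat.card F :=
  (card_le_of_le h).trans (by
    simpa using Nat.pow_le_pow_right Nat.card_pos (finrank_span_singleton_le (F := F) y))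

theorem Lev.ZS_bot {σ : F →+* F} {P : PQ F V σ} {d f : V} {Ω : Type*} [MulAction (EG P) Ω]
    (hd : P.q d ∈ P.Λ) {g : EG P} {a : F} (hg : Lev d f g a) {ω : Ω} (h : ZS hd (St P ω) = ⊥) :
    ZS hd (St P (g • ω)) = ⊥ := by
  rw [← AddSubgroup.card_eq_one, hg.card_ZS, h, AddSubgroup.card_bot]

theorem Lev.YS_top {σ : F →+* F} {P : PQ F V σ} {d f : V} {Ω : Type*} [MulAction (EG P) Ω]
    {h : Pair P d f} {g : EG P} {a : F} (hg : Lev d f g a) {ω : Ω} (hY : YS h (St P ω) = ⊤) :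
    YS h (St P (g • ω)) = ⊤ := by
  rw [← AddSubgroup.card_eq_iff_eq_top, hg.card_YS, hY, AddSubgroup.card_top]

variable {P : PQ F V (RingHom.id F)} {d f : V} {H : Subgroup (V ≃ₗ[F] V)}

namespace Symp

theorem sq_le (h : Pair P d f) (hn : 4 ≤ finrank F V) : Nat.card F ^ 2 ≤ Nat.card (Wp P d f) := by
  have := h.finrank_W
  rw [card_submodule]
  exact Nat.pow_le_pow_right Nat.card_pos (by omega)

/-- In odd characteristic some point has no transvections in `H`. -/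
theorem exists_no_tr (o : Symp P) (h2 : (2 : F) ≠ 0) (hn : 4 ≤ finrank F V) (hne : ¬ EG P ≤ H) :
    ∃ e, e ≠ 0 ∧ ∀ l, Has H (H97.eu P e 0 l) → l = 0 := by
  by_contra hc
  push Not at hc
  refine hne (o.EG_le_of_zf (by omega) fun d => ?_)
  by_cases hd0 : d = 0
  · exact hd0 ▸ zf_zero
  obtain ⟨f, h⟩ := o.exists_pair hd0
  rw [h.zf_iff]
  by_contra hZ
  have h1 := h.card_XS_le (o.exists_sub h2) hZ
  have h3 := h.card_YS_mul o.nd (H := H)
  have h4 := card_le_of_meets (F := F) (X := XS h H) fun r hr => by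
    have h5 : ∀ α : F, (r : V) + α • d ≠ 0 := fun α e =>
      hr (h.smul_d_add_eq_zero (by rwa [add_comm] at e)).2
    choose l hl hl0 using fun α => hc _ (h5 α)
    obtain ⟨α, β, hαβ, e⟩ : ∃ α β, α ≠ β ∧ l α = l β := by
      by_contra h6
      push Not at h6
      obtain ⟨α, e⟩ := Finite.injective_iff_surjective.1 (show Function.Injective l from
        fun α β e => by_contra fun h7 => h6 α β h7 e) 0
      exact hl0 α e
    exact ⟨l α * (α - β), mul_ne_zero (hl0 α) (sub_ne_zero.2 hαβ), mem_XS.2 ⟨_, o.mem _,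
      has_two h.dd (o.alt _) (W_d r) (o.mem _) (hl α) (e ▸ hl β)⟩⟩
  have h5 := sq_le h hn
  have h6 : 1 < Nat.card F := Finite.one_lt_card
  have h7 : 0 < Nat.card (XS h H) := Nat.card_pos
  obtain ⟨q, hq⟩ : ∃ q, Nat.card F = q + 1 := ⟨Nat.card F - 1, by omega⟩
  obtain ⟨m, hm⟩ : ∃ m, Nat.card (XS h H) = m + 1 := ⟨Nat.card (XS h H) - 1, by omega⟩
  rw [hq, hm, Nat.add_sub_cancel, Nat.add_sub_cancel] at h4
  rw [hm] at h1 h3
  rw [hq] at h5 h6
  have h8 : (m + 1) * (m + 1) ≤ m * q + 1 := by nlinarith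
  have h9 : m ≤ q := by nlinarith
  nlinarith

variable {Ω : Type*} [MulAction (EG P) Ω] [Fintype Ω]

theorem mass (o : Symp P) (h : Pair P d f) (hn : 4 ≤ finrank F V) {S : Set Ω} (hS : Closed h S)
    {y : Wp P d f} (hy : y ≠ 0) {t : ℕ} (ht : (t : ℚ) ≤ mult h S y) {M : ℕ}
    (hM : ∀ ω ∈ S, Nat.card (YS h (St P ω)) ≤ M) (hM0 : 0 < M) :
    M * ((Nat.card (Wp P d f) - 1) * t) ≤ (M - 1) * S.ncard := by
  have h1 := class_mult_le_frac hS (zero_not_mem_lvl (P := Pw P d f) 0)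
    (fun y' hy' => o.levAut h hy ((o.pw h).mem_lvl.1 hy')) ht hM hM0
  rwa [Nat.eq_sub_of_add_eq (o.pw h).card_lvl] at h1

theorem mass' (o : Symp P) (h : Pair P d f) (hn : 4 ≤ finrank F V) {S : Set Ω} (hS : Closed h S)
    {y : Wp P d f} (hy : y ≠ 0) {t : ℕ} (ht : (t : ℚ) ≤ mult h S y) :
    Nat.card (Wp P d f) * t ≤ S.ncard := by
  have h1 := o.mass h hn hS hy ht (fun ω _ => AddSubgroup.card_le_card_addGroup _) Nat.card_pos
  have h2 := sq_le h hn
  have h3 : 1 < Nat.card F := Finite.one_lt_card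
  rw [mul_left_comm] at h1
  exact Nat.le_of_mul_le_mul_left h1 (by nlinarith [Nat.sub_add_cancel (Nat.card_pos (α := Wp P d f))])

theorem hlt' (h : Pair P d f) {q : ℕ} (hq : Nat.card F = q + 1)
    (hlt : (Nat.card Ω + 1) * q + 1 ≤ Nat.card V) :
    (Nat.card Ω + 1) * q + 1 ≤ (q + 1) ^ 2 * Nat.card (Wp P d f) := by
  rwa [h.card_W, hq] at hlt

theorem b_le (o : Symp P) (h : Pair P d f) (hn : 4 ≤ finrank F V) {q : ℕ} (hq : Nat.card F = q + 1)
    (hlt : (Nat.card Ω + 1) * q + 1 ≤ Nat.card V) {y : Wp P d f} (hy : y ≠ 0) {t : ℕ}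
    (ht : (t : ℚ) ≤ mult h (Set.univ : Set Ω) y) : t ≤ q + 2 := by
  have h1 := o.mass' h hn (closed_univ h) hy ht
  have h2 := hlt' h hq hlt
  have h3 : 1 < Nat.card F := Finite.one_lt_card
  rw [Set.ncard_univ] at h1
  by_contra h4
  have h5 : Nat.card (Wp P d f) * (q + 3) ≤ Nat.card Ω := (Nat.mul_le_mul_left _ (by omega)).trans h1
  have h6 : Nat.card (Wp P d f) ≤ Nat.card (Wp P d f) * q := Nat.le_mul_of_pos_right _ (by omega)
  nlinarith

theorem idx_bot (o : Symp P) (hd : P.q d ∈ P.Λ) (hZ : ZS hd H = ⊥) :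
    (ZS hd H).relIndex P.Λ = Nat.card F := by rw [idx_of_bot hd hZ, o.card_lam]

/-- The points without transvections. -/
theorem z_bot (o : Symp P) (h : Pair P d f) (hn : 4 ≤ finrank F V) {q : ℕ} (hq : Nat.card F = q + 1)
    (hq2 : 2 ≤ q) (hlt : (Nat.card Ω + 1) * q + 1 ≤ Nat.card V) {ω : Ω} (hZ : ZS h.hd (St P ω) = ⊥) :
    Reg P (St P ω) d ∨ XF P (St P ω) d ∨ ∃ y, y ≠ 0 ∧ YS h (St P ω) = (F ∙ y).toAddSubgroup := by
  rcases (o.pw h).sub_or_top EG_le_LevAut (Y := YS h (St P ω)) (fun y hy hy0 => by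
    have h1 := o.b_le h hn hq hlt hy0 (beta_le_mult o.nd (closed_univ h) y (ω := ω) trivial)
    rw [o.idx_bot _ hZ, hq] at h1
    by_contra h2
    nlinarith) with ⟨y, h1⟩ | h1
  · by_cases h2 : YS h (St P ω) = ⊥
    · exact Or.inr (Or.inl ((h.xf_iff' o.nd).2 h2))
    refine Or.inr (Or.inr ⟨y, eq_span_of_card h1 ?_⟩)
    by_contra h3
    obtain ⟨v, hv, hv0⟩ := (YS h (St P ω)).bot_or_exists_ne_zero.resolve_left h2
    have hS := closed_card (Ω := Ω) h fun _ b => b ≤ q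
    have h4 := o.mass h hn hS hv0 (idx_le_mult o.nd hS (ω := ω) (by change _ ≤ q; omega) hv)
      (fun _ h => h) (by omega)
    rw [o.idx_bot _ hZ, hq] at h4
    have h5 := h4.trans (Nat.mul_le_mul_left _ (Set.ncard_le_card _))
    have h6 := hlt' h hq hlt
    have h7 := sq_le h hn
    rw [hq] at h7
    obtain ⟨M, hM⟩ : ∃ M, Nat.card (Wp P d f) = M + 1 := ⟨_, (Nat.sub_add_cancel Nat.card_pos).symm⟩
    obtain ⟨q, rfl⟩ : ∃ q', q = q' + 1 := ⟨q - 1, by omega⟩
    rw [hM] at h5 h6 h7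
    simp only [Nat.add_sub_cancel] at h5
    nlinarith [Nat.mul_le_mul_left q h6, Nat.mul_le_mul_left (q + 1) h5]
  · exact Or.inl (h.reg_iff.2 ⟨(annR_eq_top_iff (h.nd o.nd)).1 h1, hZ⟩)

/-- In even characteristic intermediate groups of transvections have many conjugates. -/
theorem z_mid (o : Symp P) (h2 : (2 : F) = 0) (h : Pair P d f) (hn : 4 ≤ finrank F V) {q : ℕ}
    (hq : Nat.card F = q + 1) (hlt : (Nat.card Ω + 1) * q + 1 ≤ Nat.card V) {ω : Ω}
    (hZ : ZS h.hd (St P ω) ≠ ⊥) (hZ' : ZS h.hd (St P ω) ≠ P.Λ) : XF P (St P ω) d := by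
  rw [h.xf_iff' o.nd]
  by_contra h1
  obtain ⟨y, hy, hy0⟩ := (YS h (St P ω)).bot_or_exists_ne_zero.resolve_left h1
  have : CharP F 2 := CharTwo.of_one_ne_zero_of_two_eq_zero one_ne_zero h2
  have := Fintype.ofFinite F
  set z := Nat.card (ZS h.hd (St P ω)) with hz
  set i := (ZS h.hd (St P ω)).relIndex P.Λ with hi
  have hzi : z * i = q + 1 := by rw [← hq, ← o.card_lam]; exact card_ZS_mul _ _
  have hz2 : 2 ≤ z := (AddSubgroup.one_lt_card_iff_ne_bot _).2 hZ
  have hi2 : 2 ≤ i := two_le_idx _ hZ'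
  let S : Finset Ω := Finset.univ.filter fun ω' =>
    y ∈ YS h (St P ω') ∧ Nat.card (ZS h.hd (St P ω')) = z
  let T := S.image fun ω' => ZS h.hd (St P ω')
  have h3 : ∀ Z ∈ T, ∃ ω' ∈ S, ZS h.hd (St P ω') = Z := fun Z hZ => Finset.mem_image.1 hZ
  have : Nonempty Ω := ⟨ω⟩
  choose! p hp hp' using h3
  have hp1 : ∀ Z ∈ T, y ∈ YS h (St P (p Z)) ∧ Nat.card (ZS h.hd (St P (p Z))) = z :=
    fun Z hZ => (Finset.mem_filter.1 (hp Z hZ)).2
  have h4 := mult_ge o.nd (closed_univ h) (y := y) T p (fun Z hZ => ⟨trivial, (hp1 Z hZ).1⟩)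
    fun Z hZ Z' hZ' e => by rw [← hp' Z hZ, ← hp' Z' hZ', ZS_eq_of_Orb e]
  rw [Finset.sum_congr rfl (g := fun _ => (i : ℚ)) fun Z hZ => by
    have h5 := card_ZS_mul h.hd (St P (p Z))
    rw [(hp1 Z hZ).2, o.card_lam, hq, ← hzi] at h5
    rw [Nat.eq_of_mul_eq_mul_left (by omega) h5], Finset.sum_const, nsmul_eq_mul, ← Nat.cast_mul] at h4
  have h5 := o.b_le h hn hq hlt hy0 h4
  let A : AddSubgroup F → Finset F := fun Z =>
    (Finset.univ.filter fun b => ∀ x ∈ Z, psi F (b * x) = 1).erase 0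
  have hA : ∀ Z : AddSubgroup F, Nat.card Z = z → (A Z).card + 1 = i := fun Z e => by
    have h6 := card_annF Z
    rw [e, hq, ← hzi, mul_comm, Nat.card_eq_fintype_card, Fintype.card_subtype] at h6
    rw [← Nat.eq_of_mul_eq_mul_left (by omega) h6, Finset.card_erase_add_one (by simp)]
  obtain ⟨κ₀, hκ₀⟩ : (A (ZS h.hd (St P ω))).Nonempty := by
    rw [← Finset.card_pos]
    have := hA _ rfl
    omega
  simp only [A, Finset.mem_erase, Finset.mem_filter, Finset.mem_univ, true_and] at hκ₀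
  have h6 : Finset.univ.erase (0 : F) ⊆ T.biUnion A := fun κ hκ => by
    have hκ0 : κ ≠ 0 := by simpa using hκ
    obtain ⟨a, ha⟩ := surjective_frobenius F 2 (κ₀ / κ)
    rw [frobenius_def] at ha
    have ha0 : a ≠ 0 := fun e => by
      rw [e, zero_pow two_ne_zero, eq_comm, div_eq_zero_iff] at ha
      exact ha.elim hκ₀.1 hκ0
    obtain ⟨g, hg, e⟩ := o.exists_lev h hy0 hy0 ha0
    refine Finset.mem_biUnion.2 ⟨ZS h.hd (St P (g • ω)), Finset.mem_image.2 ⟨g • ω, Finset.mem_filter.2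
      ⟨Finset.mem_univ _, hg.mem_YS hy e, hg.card_ZS _ _⟩, rfl⟩, ?_⟩
    simp only [A, Finset.mem_erase, Finset.mem_filter, Finset.mem_univ, true_and]
    refine ⟨hκ0, fun x hx => ?_⟩
    have h7 := hg.inv.mem_ZS h.hd hx
    rw [inv_smul_smul] at h7
    rw [← hκ₀.2 _ h7]
    congr 1
    rw [RingHom.id_apply, (div_eq_iff hκ0).1 ha.symm]
    field_simp
  have h7 := (Finset.card_le_card h6).trans (Finset.card_biUnion_le_card_mul T A (i - 1) fun Z hZ => by
    have := hA Z (by rw [← hp' Z hZ]; exact (hp1 Z hZ).2)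
    omega)
  rw [Finset.card_erase_of_mem (by simp), Finset.card_univ, ← Nat.card_eq_fintype_card, hq] at h7
  clear_value i z
  obtain ⟨i, rfl⟩ : ∃ j, i = j + 1 := ⟨i - 1, by omega⟩
  simp only [Nat.add_sub_cancel] at h7
  have h8 : T.card ≤ 2 := by nlinarith
  nlinarith

end Symp

end H20.MD
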