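import Cfsg.Agent.Lib.MinDeg.SympB

/-! Minimal degrees of symplectic groups over fields with at least three elements, II. -/

set_option autoImplicit false
set_option linter.unusedSectionVars false
set_option linter.unusedSimpArgs false
set_option linter.unusedVariables false

namespace H20.MD

open Module H28 H97
open scoped Classical

variable {F V : Type*} [Field F] [AddCommGroup V] [Module F V] [FiniteDimensional F V]
  [Finite F] [Finite V]

theorem lev_tr {σ : F →+* F} {P : PQ F V σ} {d f : V} {r : Wp P d f} (hr : P.q r ∈ P.Λ) {l : F}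
    (hl : l ∈ P.Λ) : Lev d f (euG hr (map_zero _) (valid_zero hl)) 1 :=
  lev_euG (w := 0) hr (map_zero _) (valid_zero hl)

variable {P : PQ F V (RingHom.id F)} {d f : V} {H : Subgroup (V ≃ₗ[F] V)}

namespace Symp

variable {Ω : Type*} [MulAction (EG P) Ω] [Fintype Ω]

theorem line_xle (o : Symp P) (h : Pair P d f) (hn : 4 ≤ finrank F V) {q : ℕ} (hq : Nat.card F = q + 1)
    (hlt : (Nat.card Ω + 1) * q + 1 ≤ Nat.card V) {ω : Ω} (hZ : ZS h.hd (St P ω) = ⊥) {y : Wp P d f}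
    (hy : y ≠ 0) (hY : YS h (St P ω) = (F ∙ y).toAddSubgroup) (ω' : Ω) {e : V} (he : e ≠ 0)
    (hz : ZF P (St P ω') e) : XLe P (St P ω') e := by
  have h0 : 1 < Nat.card F := Finite.one_lt_card
  refine transfer o.iso o.nd (by omega) h.hd h.d_ne (φ := fun H e => ZF P H e → XLe P H e)
    (fun ω e g h1 h2 => xle_st (h1 (st_inv (fun _ _ g h => ZF.st h g) ω e g h2)) g) (fun ω' hz => ?_)
    ω' (o.mem _) he hz
  refine hz.xle h.hd ((h.xf_iff' o.nd).2 ?_)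
  by_contra h1
  obtain ⟨v, hv, hv0⟩ := (YS h (St P ω')).bot_or_exists_ne_zero.resolve_left h1
  have hS := closed_card (Ω := Ω) h fun a b => a = 1 ∧ b = q + 1
  have h2 := o.mass h hn hS hy (idx_le_mult o.nd hS (ω := ω) ⟨by rw [hZ, AddSubgroup.card_bot], by
    rw [hY, ← hq]; exact card_span_singleton hy⟩ (by
      rw [hY]; exact Submodule.mem_span_singleton_self y)) (fun _ h => h.2.le) (by omega)
  have h3 := o.mass' h hn hS.compl hv0 (idx_le_mult o.nd hS.compl (ω := ω') (fun h4 => by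
    have h5 := h4.1
    rw [h.zf_iff.1 hz, o.card_lam] at h5
    omega) hv)
  have h4 := h3.trans' (Nat.le_mul_of_pos_right _ (idx_pos _ _))
  have h5 := ncard_add_compl {ω : Ω | Nat.card (ZS h.hd (St P ω)) = 1 ∧ Nat.card (YS h (St P ω)) = q + 1}
  have h6 := hlt' h hq hlt
  have h7 := sq_le h hn
  rw [o.idx_bot _ hZ, hq] at h2
  rw [hq] at h7
  obtain ⟨M, hM⟩ : ∃ M, Nat.card (Wp P d f) = M + 1 := ⟨_, (Nat.sub_add_cancel Nat.card_pos).symm⟩
  rw [hM] at h2 h4 h6 h7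
  simp only [Nat.add_sub_cancel] at h2
  rw [← h5] at h6
  nlinarith [Nat.mul_le_mul_left q h4, Nat.mul_le_mul_left q h7]

theorem tor_fpf {t : EG P} {a : F} (ht : Lev d f t a) (hw : ∀ w : Wp P d f, t.1 w = w) (ha : a * a ≠ 1) :
    ∀ x, ht.cj x = x → x = 1 :=
  ht.fpf_of_triv hw (fun e => ha (by rw [show a = 1 from e, one_mul])) fun l _ e =>
    (mul_eq_zero.1 (show (a * a - 1) * l = 0 by linear_combination e)).resolve_left (sub_ne_zero.2 ha)

theorem line_zf (o : Symp P) (h : Pair P d f) (hn : 4 ≤ finrank F V) {q : ℕ} (hq : Nat.card F = q + 1)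
    (hq3 : 3 ≤ q) (hlt : (Nat.card Ω + 1) * q + 1 ≤ Nat.card V) {ω : Ω} (hZ : ZS h.hd (St P ω) = ⊥)
    {y : Wp P d f} (hy : y ≠ 0) (hY : YS h (St P ω) = (F ∙ y).toAddSubgroup) :
    ∃ ω' : Ω, ∀ r : Wp P d f, P.B r y = 0 → ZF P (St P ω') r := by
  have uniq : ∀ ω₁ ω₂ : Ω, ZS h.hd (St P ω₁) = ⊥ → YS h (St P ω₁) = (F ∙ y).toAddSubgroup →
      ZS h.hd (St P ω₂) = ⊥ → YS h (St P ω₂) = (F ∙ y).toAddSubgroup → ω₂ ∈ Orb h ω₁ :=
    fun ω₁ ω₂ z₁ e₁ z₂ e₂ => by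
      by_contra hne
      have h1 := o.b_le h hn hq hlt hy (two_idx_le_mult o.nd (closed_univ h) trivial
        (by rw [e₁]; exact Submodule.mem_span_singleton_self y) trivial
        (by rw [e₂]; exact Submodule.mem_span_singleton_self y) hne)
      rw [o.idx_bot _ z₁, o.idx_bot _ z₂, hq] at h1
      omega
  obtain ⟨a, ha, ha1⟩ := Orth.exists_sq_ne_one (F := F) (by omega)
  obtain ⟨t, ht, hw⟩ := o.exists_tor h ha
  have hf := tor_fpf ht hw ha1
  obtain ⟨ω', ho, hfix⟩ := ht.exists_fix h hf (uniq _ _ hZ hY (ht.ZS_bot _ hZ) (ht.YS_eq hY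
    fun u hu u' e => by rw [hw] at e; exact Subtype.ext e ▸ hu))
  have hY' : YS h (St P ω') = (F ∙ y).toAddSubgroup := by rw [YS_eq_of_Orb ho, hY]
  have hZ' : ZS h.hd (St P ω') = ⊥ := by rw [ZS_eq_of_Orb ho, hZ]
  refine ⟨ω', fun r hr l hl => has_of_tor (w := 0) h ht hw hf hfix (o.mem _) (map_zero _) (valid_zero hl)
    (uniq _ _ hZ' hY' ((lev_tr _ hl).ZS_bot _ hZ') ((lev_tr _ hl).YS_eq hY' fun u hu u' e => ?_))⟩
  obtain ⟨b, rfl⟩ := Submodule.mem_span_singleton.1 hu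
  rw [euG_apply, eu_fix _ (by simp [hr]) (by simp)] at e
  exact Subtype.ext e ▸ hu

theorem card_lvl_W (o : Symp P) (hn : finrank F V = 4) (d f : V) (h : Pair P d f) :
    (lvl (Pw P d f) 0).card = (Nat.card F + 1) * (Nat.card F - 1) := by
  have h1 := (o.pw h).card_lvl
  have h2 := h.finrank_W
  rw [card_submodule, show finrank F (Wp P d f) = 2 by omega] at h1
  obtain ⟨q, hq⟩ : ∃ q, Nat.card F = q + 1 := ⟨_, (Nat.sub_add_cancel Nat.card_pos).symm⟩
  rw [hq] at h1 ⊢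
  simp only [Nat.add_sub_cancel]
  nlinarith

theorem not_line (o : Symp P) (h : Pair P d f) (hn : finrank F V = 4 ∨ 6 ≤ finrank F V) {q : ℕ}
    (hq : Nat.card F = q + 1) (hq3 : 3 ≤ q) (hlt : (Nat.card Ω + 1) * q + 1 ≤ Nat.card V)
    (hne : ∀ ω : Ω, ¬ EG P ≤ St P ω) {ω : Ω} (hZ : ZS h.hd (St P ω) = ⊥)
    {y : Wp P d f} (hy : y ≠ 0) (hY : YS h (St P ω) = (F ∙ y).toAddSubgroup) : False := by
  obtain ⟨ω', h1⟩ := o.line_zf h (by omega) hq hq3 hlt hZ hy hY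
  have h2 : ∀ r : Wp P d f, r ≠ 0 → P.B r y = 0 → XLe P (St P ω') r := fun r hr0 hr =>
    o.line_xle h (by omega) hq hlt hZ hy hY ω' (by simpa using hr0) (h1 r hr)
  rcases hn with hn | hn
  · have h3 := o.card_lvl
    rcases card_ge_of_xle o.iso o.nd (by omega) hn (o.mem 1) one_ne_zero (o.card_lvl_W hn) (hne ω')
      (o.mem _) (show (y : V) ≠ 0 by simpa using hy) (h2 y hy (o.alt _)) with h4 | h4
    · rw [hq, Nat.add_sub_cancel] at h4
      nlinarith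
    · rw [hq, show (q + 1) ^ 2 - 1 = q * (q + 1 + 1) from Nat.sub_eq_of_eq_add (by ring), ← mul_assoc] at h4
      have := Nat.le_of_mul_le_mul_right h4 (by omega)
      nlinarith
  · have h3 := h.finrank_W
    have h4 := finrank_perp (h.nd o.nd) (F ∙ y)
    rw [finrank_span_singleton hy] at h4
    obtain ⟨r, hr, r', hr', h5⟩ := exists_B_ne_zero_of_lt (h.nd o.nd) (U := F ∙ y)
      (by rw [finrank_span_singleton hy]; omega)
    rw [mem_perp_singleton] at hr hr'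
    exact hne ω' (EG_le_of_xle o.nd (o.mem _) (o.mem _)
      (h2 r (fun e => h5 (by simp [e])) (P.eq_zero_symm hr))
      (h2 r' (fun e => h5 (by simp [e])) (P.eq_zero_symm hr')) h5)

theorem not_line_odd (o : Symp P) (h2 : (2 : F) ≠ 0) (h : Pair P d f) (hn : 6 ≤ finrank F V)
    (hZ : ZS h.hd H = ⊥) {y : Wp P d f} (hy : y ≠ 0) (hY : YS h H = (F ∙ y).toAddSubgroup) : False := by
  have h3 := h.finrank_W
  have h4 := finrank_perp (h.nd o.nd) (F ∙ y)
  rw [finrank_span_singleton hy] at h4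
  obtain ⟨r, hr, r', hr', h5⟩ := exists_B_ne_zero_of_lt (h.nd o.nd) (U := F ∙ y)
    (by rw [finrank_span_singleton hy]; omega)
  obtain ⟨c, hc, h6⟩ := mem_XS.1 (h.mem_XS_of_perp o.nd hY (mem_perp'.1 hr))
  obtain ⟨c', hc', h7⟩ := mem_XS.1 (h.mem_XS_of_perp o.nd hY (mem_perp'.1 hr'))
  have h8 := comm_mem_ZS h.hd (W_d r) (W_d r') hc hc' h6 h7
  rw [hZ, AddSubgroup.mem_bot, o.skew r r'] at h8
  exact mul_ne_zero h2 h5 (by rw [Pw_B]; linear_combination h8)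

theorem exists_reg (o : Symp P) (h : Pair P d f) (hn : finrank F V = 4 ∨ 6 ≤ finrank F V) {q : ℕ}
    (hq : Nat.card F = q + 1) (hq2 : 2 ≤ q) (h43 : finrank F V = 4 → 3 ≤ q)
    (hlt : (Nat.card Ω + 1) * q + 1 ≤ Nat.card V) [Nonempty Ω]
    (hne : ∀ ω : Ω, ¬ EG P ≤ St P ω) : ∃ ω : Ω, Reg P (St P ω) d := by
  by_contra hr
  push Not at hr
  obtain ⟨ω₀⟩ := ‹Nonempty Ω›
  by_cases h2 : (2 : F) = 0
  · have hq3 : 3 ≤ q := by
      by_contra h3
      have h4 : (3 : F) = 0 := three_eq_zero (by omega)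
      exact one_ne_zero (by linear_combination h4 - h2 : (1 : F) = 0)
    obtain ⟨s, hs0, hs1⟩ := exists_ne_zero_one (F := F) (by omega)
    refine hne ω₀ (o.EG_le_of_types h2 hs0 hs1 (by omega) (St_le_isom _) fun e he => ?_)
    refine transfer o.iso o.nd (by omega) h.hd h.d_ne (φ := fun H e => ZF P H e ∨ XF P H e)
      (fun ω e g h1 => h1.imp (·.st g) (·.st g)) (fun ω => ?_) ω₀ (o.mem _) he
    by_cases hZ : ZS h.hd (St P ω) = P.Λ
    · exact Or.inl (h.zf_iff.2 hZ)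
    by_cases hZ' : ZS h.hd (St P ω) = ⊥
    · rcases o.z_bot h (by omega) hq hq2 hlt hZ' with h1 | h1 | ⟨y, hy, h1⟩
      · exact absurd h1 (hr ω)
      · exact Or.inr h1
      · exact (o.not_line h hn hq hq3 hlt hne hZ' hy h1).elim
    · exact Or.inr (o.z_mid h2 h (by omega) hq hlt hZ' hZ)
  · obtain ⟨e, he, h1⟩ := o.exists_no_tr h2 (by omega) (hne ω₀)
    obtain ⟨ω, h3⟩ := transfer_ex o.iso o.nd (by omega) h.hd h.d_ne
      (φ := fun H e => ∀ l, Has H (H97.eu P e 0 l) → l = 0) (fun ω e g h1 l h2 => h1 l (by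
        simpa only [inv_smul_smul, EG_inv_apply, map_zero] using has_St_eu g⁻¹ h2)) (o.mem _) he h1
    have hZ : ZS h.hd (St P ω) = ⊥ := eq_bot_iff.2 fun l hl => h3 l (mem_ZS.1 hl).2
    rcases o.z_bot h (by omega) hq hq2 hlt hZ with h4 | h4 | ⟨y, hy, h4⟩
    · exact hr ω h4
    · exact one_ne_zero (h3 1 (h.zf_of_xf o.nd (by omega) (o.exists_sub h2) h4 1 (o.mem _)))
    · by_cases hq3 : 3 ≤ q
      · exact o.not_line h hn hq hq3 hlt hne hZ hy h4
      · exact o.not_line_odd h2 h (by omega) hZ hy h4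

theorem rem_le (o : Symp P) (h : Pair P d f) (hn : 4 ≤ finrank F V) {q : ℕ} (hq : Nat.card F = q + 1)
    (hq2 : 2 ≤ q) (hlt : (Nat.card Ω + 1) * q + 1 ≤ Nat.card V) {ω : Ω} (hr : Reg P (St P ω) d)
    {y : Wp P d f} (hy : y ≠ 0) {t : ℕ} (ht : (t : ℚ) ≤ mult h {ω : Ω | Reg P (St P ω) d}ᶜ y) : t ≤ 1 := by
  have h1 := o.mass' h hn (closed_reg h).compl hy ht
  have h2 := card_nonreg o.nd h hr
  have h3 := hlt' h hq hlt
  rw [o.card_lam, hq] at h2
  by_contra h4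
  have h5 := (Nat.mul_le_mul_left _ (show 2 ≤ t by omega)).trans h1
  nlinarith [Nat.mul_le_mul_left q h2, Nat.mul_le_mul_left q h5,
    Nat.mul_le_mul_left (Nat.card (Wp P d f)) hq2]

theorem nonreg (o : Symp P) (h : Pair P d f) (hn : 4 ≤ finrank F V) {q : ℕ} (hq : Nat.card F = q + 1)
    (hq2 : 2 ≤ q) (hlt : (Nat.card Ω + 1) * q + 1 ≤ Nat.card V) {ω₀ : Ω} (hr : Reg P (St P ω₀) d)
    {ω : Ω} (hω : ¬ Reg P (St P ω) d) : XF P (St P ω) d ∨ (ZF P (St P ω) d ∧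
      ((∃ y, ∀ v ∈ YS h (St P ω), v ∈ F ∙ y) ∨ YS h (St P ω) = ⊤)) := by
  by_cases h1 : YS h (St P ω) = ⊥
  · exact Or.inl ((h.xf_iff' o.nd).2 h1)
  obtain ⟨v, hv, hv0⟩ := (YS h (St P ω)).bot_or_exists_ne_zero.resolve_left h1
  refine Or.inr ⟨h.zf_iff.2 ?_, (o.pw h).sub_or_top EG_le_LevAut fun y hy hy0 => ?_⟩
  · by_contra h2
    have := o.rem_le h hn hq hq2 hlt hr hv0 (idx_le_mult o.nd (closed_reg h).compl hω hv)
    have := two_le_idx _ h2
    omega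
  · exact le_trans (Nat.le_mul_of_pos_right _ (idx_pos _ _))
      (o.rem_le h hn hq hq2 hlt hr hy0 (beta_le_mult o.nd (closed_reg h).compl y hω))

theorem al_of_cen (o : Symp P) (h : Pair P d f) {ω : Ω} {x : Heis P d f} (hx : x.w = 0) {r : Wp P d f}
    {l : F} (e : h.toG x • ω = euG (o.mem (P.q r)) (map_zero _) (valid_zero (o.mem l)) • ω) :
    ∃ c, AL P (St P ω) d r c 0 l := by
  have h1 := has_of_smul_eq h e
  simp only [Heis.inv_w, hx, neg_zero, euG_apply] at h1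
  exact ⟨_, al_of_comp (W_d r) (by simpa using h1) (o.alt _)⟩

theorem tt_of_zf (o : Symp P) (h : Pair P d f) (hn : 4 ≤ finrank F V) {q : ℕ} (hq : Nat.card F = q + 1)
    (hq2 : 2 ≤ q) (hlt : (Nat.card Ω + 1) * q + 1 ≤ Nat.card V) {ω₀ : Ω} (hr : Reg P (St P ω₀) d)
    (ω : Ω) {e : V} (he : e ≠ 0) (hz : ZF P (St P ω) e) : TT P (St P ω) e := by
  refine transfer o.iso o.nd (by omega) h.hd h.d_ne (φ := fun H e => ZF P H e → TT P H e)
    (fun ω e g h1 h2 => (h1 (st_inv (fun _ _ g h => ZF.st h g) ω e g h2)).st g) (fun ω hz => ?_)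
    ω (o.mem _) he hz
  have hω := hz.not_reg o.nd h.d_ne (o.mem 1) one_ne_zero
  rcases o.nonreg h hn hq hq2 hlt hr hω with h1 | ⟨-, ⟨y, h1⟩ | h1⟩
  · exact tt_of_xle (hz.xle h.hd h1)
  · exact h.tt_of o.nd (h.zf_iff.1 hz) h1
  exfalso
  obtain ⟨r, r', hrr⟩ := o.exists_W h (by omega)
  have hr0 : r ≠ 0 := fun e => by simp [e] at hrr
  have uniq : ∀ ω₁ ω₂ : Ω, ¬ Reg P (St P ω₁) d → YS h (St P ω₁) = ⊤ → ¬ Reg P (St P ω₂) d →
      YS h (St P ω₂) = ⊤ → ω₂ ∈ Orb h ω₁ := fun ω₁ ω₂ z₁ e₁ z₂ e₂ => by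
    by_contra hne
    have := o.rem_le h hn hq hq2 hlt hr hr0 (two_idx_le_mult o.nd (closed_reg h).compl z₁
      (by simp [e₁]) z₂ (by simp [e₂]) hne)
    have := idx_pos h.hd (St P ω₁)
    have := idx_pos h.hd (St P ω₂)
    omega
  have hlev : ∀ (ω : Ω) (g : EG P) (a : F), Lev d f g a → ¬ Reg P (St P ω) d →
      ¬ Reg P (St P (g • ω)) d := fun ω g a hg h2 => (closed_reg h).compl.lev g a hg ω h2
  obtain ⟨s, hs0, hs1⟩ := exists_ne_zero_one (F := F) (by omega)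
  obtain ⟨t, ht, hw⟩ := o.exists_tor h hs0
  have hf : ∀ w : Wp P d f, RingHom.id F s • t.1 w = w → w = 0 := fun w e => by
    rw [hw, RingHom.id_apply] at e
    exact Subtype.ext ((smul_eq_zero.1 (show (s - 1) • (w : V) = 0 by
      rw [sub_smul, e, one_smul, sub_self])).resolve_left (sub_ne_zero.2 hs1))
  obtain ⟨ω', ho, z, hz0, hfix⟩ := ht.exists_qfix h hf (uniq _ _ hω h1 (hlev _ _ _ ht hω) (ht.YS_top h1))
  have hY : YS h (St P ω') = ⊤ := by rw [YS_eq_of_Orb ho, h1]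
  have hX : XS h (St P ω') = ⊥ := (annR_eq_top_iff (h.nd o.nd)).1 hY
  have hZ : ZF P (St P ω') d := h.zf_iff.2 (by rw [ZS_eq_of_Orb ho, h.zf_iff.1 hz])
  have hω' := hZ.not_reg o.nd h.d_ne (o.mem 1) one_ne_zero
  have h2 : ∀ c l, AL P (St P ω') d r c 0 l := fun c l => by
    have hk := lev_tr (o.mem (P.q r)) (o.mem l)
    obtain ⟨x, hx⟩ := uniq _ _ hω' hY (hlev _ _ _ hk hω') (hk.YS_top hY)
    have h3 := ht.qfix_mem h hz0 hfix hk (ht.comm_of_triv h hw hk) hx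
    rw [hX, AddSubgroup.mem_bot, sub_eq_zero] at h3
    obtain ⟨c', h4⟩ := o.al_of_cen h (hf _ (by rw [← ht.cj_w, h3])) hx
    exact (h4.add h.dd (o.alt _) (W_d r) (al_left.2 (by simpa using hZ (c - c') (o.mem _)))).congr
      (by ring) (add_zero 0) (add_zero l)
  have hdr : d ∉ F ∙ ((r : V) + (1 : F) • d) := fun hm => by
    obtain ⟨b, e⟩ := Submodule.mem_span_singleton.1 hm
    have h3 := h.smul_d_add_eq_zero (a := b - 1) (w := b • r) (by
      rw [Submodule.coe_smul]; linear_combination (norm := module) e)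
    rw [sub_eq_zero.1 h3.1, one_smul] at h3
    exact hr0 h3.2
  have he0 : (r : V) + (1 : F) • d ≠ 0 := fun e => W_not_mem h hr0 (by
    rw [eq_neg_of_add_eq_zero_left e]; simp)
  have hde : P.B ((r : V) + (1 : F) • d) d = 0 := by simp [W_d', h.dd]
  have h3 : ¬ Reg P (St P ω') ((r : V) + (1 : F) • d) :=
    not_reg_of_has o.nd he0 (w := (-1 : F) • d) (c := 1) (by simp [W_d', h.dd]) (o.mem _)
      ((al_line (o.mem 1) 1 (-1)).1 ((h2 (-1) 1).congr (by simp [o.eps]) (by simp [o.eps]) rfl))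
      (by simpa using hdr)
  have h4 : ZF P (St P ω') ((r : V) + (1 : F) • d) := by
    rcases transfer o.iso o.nd (by omega) h.hd h.d_ne
      (φ := fun H e => ¬ Reg P H e → XF P H e ∨ ZF P H e)
      (fun ω e g h1 h2 => (h1 fun h3 => h2 (h3.st g)).imp (·.st g) (·.st g))
      (fun ω hω => (o.nonreg h hn hq hq2 hlt hr hω).imp id And.left) ω' (o.mem _) he0 h3 with h5 | h5
    · exact o.zf_of_zf hs0 hs1 (St_le_isom _) h5 hde hdr hZ
    · exact h5
  have h5 := al_left.1 ((((al_tr (o.mem 1) 1).2 (h4 1 (o.mem _))).sub h.dd (o.alt _) (W_d r)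
    (h2 0 1)).congr rfl rfl (sub_self _))
  have h6 : r ∈ XS h (St P ω') := mem_XS.2 ⟨_, o.mem _, by simpa using h5⟩
  rw [hX, AddSubgroup.mem_bot] at h6
  exact hr0 h6

theorem exists_levi (o : Symp P) (h : Pair P d f) (hn : finrank F V = 4 ∨ 6 ≤ finrank F V) {q : ℕ}
    (hq : Nat.card F = q + 1) (hq2 : 2 ≤ q) (h43 : finrank F V = 4 → 3 ≤ q)
    (hlt : (Nat.card Ω + 1) * q + 1 ≤ Nat.card V) {ω₀ : Ω} (hr : Reg P (St P ω₀) d) :
    ∃ ω : Ω, Reg P (St P ω) d ∧ ∀ r : Wp P d f, ZF P (St P ω) r := by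
  have uniq : ∀ ω₁ ω₂ : Ω, Reg P (St P ω₁) d → Reg P (St P ω₂) d → ω₂ ∈ Orb h ω₁ :=
    fun ω₁ ω₂ h₁ h₂ => h.mem_Orb_of_reg o.nd (by
      have h3 := hlt' h hq hlt
      rw [o.card_lam, hq]
      by_contra h4
      nlinarith [Nat.mul_le_mul_left q (not_lt.1 h4), Nat.mul_le_mul_left (Nat.card (Wp P d f)) hq2,
        Nat.mul_le_mul_left (Nat.card (Wp P d f) * q) hq2]) h₁ h₂
  by_cases hq3 : 3 ≤ q
  · obtain ⟨a, ha, ha1⟩ := Orth.exists_sq_ne_one (F := F) (by omega)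
    obtain ⟨t, ht, hw⟩ := o.exists_tor h ha
    have hf := tor_fpf ht hw ha1
    obtain ⟨ω', ho, hfix⟩ := ht.exists_fix h hf (uniq _ _ hr (hr.lev ht))
    have hr' := hr.orb h ho
    exact ⟨ω', hr', fun r l hl => has_of_tor (w := 0) h ht hw hf hfix (o.mem _) (map_zero _)
      (valid_zero hl) (uniq _ _ hr' (hr'.lev (lev_tr _ hl)))⟩
  have h3 : (3 : F) = 0 := three_eq_zero (by omega)
  have h2 : (2 : F) ≠ 0 := fun h2 => one_ne_zero (by linear_combination h3 - h2 : (1 : F) = 0)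
  obtain ⟨t, ht, hw⟩ := o.exists_tor h (a := -1) (by simp)
  have hf : ∀ w : Wp P d f, RingHom.id F (-1) • t.1 w = w → w = 0 := fun w e => by
    rw [hw, RingHom.id_apply] at e
    exact Subtype.ext ((smul_eq_zero.1 (show (2 : F) • (w : V) = 0 by
      linear_combination (norm := module) -e)).resolve_left h2)
  obtain ⟨ω', ho, z, hz0, hfix⟩ := ht.exists_qfix h hf (uniq _ _ hr (hr.lev ht))
  have hr' := hr.orb h ho
  have key : ∀ k : EG P, Lev d f k 1 → ∃ x : Heis P d f, x.w = 0 ∧ h.toG x • ω' = k • ω' := fun k hk => by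
    obtain ⟨x, hx⟩ := uniq _ _ hr' (hr'.lev hk)
    have h4 := ht.qfix_mem h hz0 hfix hk (ht.comm_of_triv h hw hk) hx
    rw [(h.reg_iff.1 hr').1, AddSubgroup.mem_bot, sub_eq_zero] at h4
    exact ⟨x, hf _ (by rw [← ht.cj_w, h4]), hx⟩
  refine ⟨ω', hr', fun r l hl => ?_⟩
  by_cases hr0 : r = 0
  · exact hr0 ▸ zf_zero l hl
  have h4 := h.finrank_W
  have h5 := finrank_perp (h.nd o.nd) (F ∙ r)
  rw [finrank_span_singleton hr0] at h5
  obtain ⟨w, hw1, w', hw', h6⟩ := exists_B_ne_zero_of_lt (h.nd o.nd) (U := F ∙ r)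
    (by rw [finrank_span_singleton hr0]; omega)
  rw [mem_perp_singleton, Pw_B] at hw1 hw'
  rw [Pw_B] at h6
  set w₂ : Wp P d f := (l / (2 * P.B w w')) • w' with hw₂
  have hw2 : P.B r w₂ = 0 := by simp [hw₂, hw']
  have h7 : P.B w w₂ = l / 2 := by simp [hw₂]; field_simp
  let k := euG (o.mem (P.q r)) hw1 (o.mem (0 - P.q w))
  let k' := euG (o.mem (P.q r)) hw2 (o.mem (0 - P.q w₂))
  obtain ⟨x, hx, ex⟩ := key k (lev_euG _ _ _)
  obtain ⟨x', hx', ex'⟩ := key k' (lev_euG _ _ _)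
  have h8 : (k * k') • ω' = (k' * k) • ω' := by
    rw [mul_smul, mul_smul, ← ex, ← ex', (lev_euG _ _ _).smul_toG h, (lev_euG _ _ _).smul_toG h,
      Lev.cj_of_w _ hx, Lev.cj_of_w _ hx', ← ex, ← ex', ← mul_smul, ← mul_smul, ← map_mul, ← map_mul,
      Heis.comm_of_w hx]
  have h9 : k * k' = k' * k * euG (o.mem (P.q r)) (map_zero _) (valid_zero hl) := EG_ext fun v => by
    simp only [EG_mul_apply, k, k', euG_apply]
    rw [eu_comp (o.alt _) hw1 hw2, eu_comp (o.alt _) hw1 (map_zero _), eu_comp (o.alt _) hw2 (by simp [hw1]),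
      add_zero (w : V), add_comm (w : V), o.skew w w₂, h7]
    congr 2
    simp only [map_zero]
    field_simp
    ring
  rw [h9, mul_smul, smul_left_cancel_iff] at h8
  exact (has_St_iff (euG_apply _ _ _)).2 h8

theorem min_big (o : Symp P) (hn : finrank F V = 4 ∨ 6 ≤ finrank F V) {q : ℕ}
    (hq : Nat.card F = q + 1) (hq2 : 2 ≤ q) (h43 : finrank F V = 4 → 3 ≤ q) [Nonempty Ω]
    (hne : ∀ ω : Ω, ¬ EG P ≤ St P ω) : Nat.card V < (Nat.card Ω + 1) * q + 1 := by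
  by_contra hlt
  rw [not_lt] at hlt
  obtain ⟨d, -, hd⟩ := exists_ne_zero_mem (X := (⊤ : Submodule F V)) (by rw [finrank_top]; omega)
  obtain ⟨f, h⟩ := o.exists_pair hd
  obtain ⟨ω₀, hr₀⟩ := o.exists_reg h hn hq hq2 h43 hlt hne
  obtain ⟨ω, hr, hZ⟩ := o.exists_levi h hn hq hq2 h43 hlt hr₀
  obtain ⟨r, r', hrr⟩ := o.exists_W h (by omega)
  have hr0 : r ≠ 0 := fun e => by simp [e] at hrr
  obtain ⟨y, hry, hy⟩ := o.tt_of_zf h (by omega) hq hq2 hlt hr ω (show (r : V) ≠ 0 by simpa using hr0) (hZ r)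
  have hd' : ¬ Has (St P ω) (H97.eu P r d 0) := fun h1 =>
    not_reg_of_has o.nd hd (w := -(P.ε • (r : V))) (c := 0) (by simp [W_d]) (o.mem _) (has_swap h1)
      (by simpa [o.eps] using W_not_mem h hr0) hr
  obtain ⟨α, β, w, rfl⟩ := h.decomp' y
  have hβ : β ≠ 0 := fun e => hd' (hy d 0 (W_d' r) (P.eq_zero_symm (by rw [h.B_d_comb, e])) (o.mem _))
  have hw : w ∈ F ∙ r := by
    by_contra hw
    obtain ⟨u, h1, h2⟩ := exists_perp_ne (h.nd o.nd) hw β
    have h3 : P.B r u = 0 := h1 r (Submodule.mem_span_singleton_self r)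
    have h4 : P.B w u = β := h2
    have h5 := hy (d + u) 0 (by simp [W_d', h3]) (by
      simp [B_smul_left, h.dd, h.fd, o.eps, W_d, W_f, W_d', h4]) (o.mem _)
    obtain ⟨c, -, h6⟩ : ∃ c, c - P.q (-(u : V)) ∈ P.Λ ∧ Has (St P ω) (H97.eu P r (-(u : V)) c) := by
      have := has_two (o.alt r) (o.alt u) h3 (o.mem 1) (by simpa using hZ u 1 (o.mem _))
        (by simpa using hZ (u + r) 1 (o.mem _)) (α := 0) (β := 1)
      exact ⟨_, o.mem _, by simpa using this⟩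
    have h7 := has_eu_add (o.mem _) (by simp [W_d', h3]) (by simp [h3]) h5 h6
    rw [add_neg_cancel_right] at h7
    exact hd' (has_eu_valid (o.mem _) (W_d' r) h7 (hZ r _ (o.mem _)))
  obtain ⟨s, rfl⟩ := Submodule.mem_span_singleton.1 hw
  have hu : XRel P (St P ω) r (α • d + β • f) := by
    simpa using hy.add_smul (-s)
  have h' : Pair P d (β⁻¹ • (α • d + β • f)) := ⟨h.hd, o.mem _, by simp [h.dd, h.hdf, hβ]⟩
  obtain ⟨s, hs0, hs1⟩ := exists_ne_zero_one (F := F) (by omega)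
  have h1 := o.le_stab hs0 hs1 (St_le_isom ω) (hne ω) h' (fun v hv hv' => hZ ⟨v, mem_Wp.2 ⟨hv, by
      simpa [B_smul_left, hv, hβ] using hv'⟩⟩) (show (r : V) ≠ 0 by simpa using hr0) (W_d r)
    (by simp [B_smul_left, W_d, W_f]) (has_swap' fun a => hu _ _ (by simp [W_d', W_f'])
      (by simp only [map_smul, o.alt, smul_zero]) (o.mem _))
  have h2 := card_lvl_le_of_stab o.iso o.nd (by omega) h'.f_ne (o.mem _) h1
  have h3 := o.card_lvl
  rw [hq, Nat.add_sub_cancel] at h2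
  nlinarith

end Symp

end H20.MD
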