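import Cfsg.Agent.Lib.MinDeg.SympC
import Cfsg.Agent.Lib.Forms.Bridge

/-! Minimal degrees of symplectic groups: the field with two elements and the final statements. -/

set_option autoImplicit false
set_option linter.unusedSectionVars false
set_option linter.unusedSimpArgs false
set_option linter.unusedVariables false

namespace H20.MD

open Module H28 H97
open scoped Classical

universe u v

section Two

variable {F V : Type*} [Field F] [AddCommGroup V] [Module F V] [FiniteDimensional F V]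
  [Finite F] [Finite V] {P : PQ F V (RingHom.id F)} {d f : V} {H : Subgroup (V ≃ₗ[F] V)}

theorem two_eq_zero (hq : Nat.card F = 2) : (2 : F) = 0 := by
  have := Orth.cast_card_eq_zero (F := F)
  rw [hq] at this
  exact_mod_cast this

theorem zero_or_one (hq : Nat.card F = 2) (x : F) : x = 0 ∨ x = 1 :=
  (em (x = 0)).imp id (Orth.eq_one_of_card_two hq x)

/-- Quadratic forms over the field with two elements have many zeros. -/
theorem Symp.card_zero_ge (o : Symp P) (hq : Nat.card F = 2) {k : ℕ} (hk : finrank F V = 2 * (k + 1))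
    {θ : V → F} (hθ : ∀ x y, θ (x + y) = θ x + θ y + P.B x y) :
    2 ^ (2 * k + 1) ≤ Nat.card {x // θ x = 0} + 2 ^ k := by
  have h0 : θ 0 = 0 := by simpa using hθ 0 0
  let Q : QuadraticForm F V :=
    { toFun := θ
      toFun_smul := fun a x => by rcases zero_or_one hq a with rfl | rfl <;> simp [h0]
      exists_companion' := ⟨P.B, hθ⟩ }
  have hQ : H12.Nondeg Q := fun v hv => o.nd v fun w => by
    have := hv w
    rw [QuadraticMap.polar] at this
    change θ (v + w) - θ v - θ w = 0 at this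
    rw [hθ] at this
    linear_combination this
  have h1 := (orth_ofQuad hQ).cnt_ge (j := k) (t := k + 1) (by omega) (by omega) 0
  rw [← card_lvl_of_mem (zero_mem _), card_lvl_ofQuad, hq, if_pos rfl,
    show k + (k + 1) = 2 * k + 1 by ring, pow_succ 2 k] at h1
  change _ ≤ Nat.card {x // θ x = 0} + _ at h1
  omega

theorem Symp.has_apply (o : Symp P) (h2 : (2 : F) = 0) (h : Pair P d f) {Ω : Type*} [MulAction (EG P) Ω]
    {ω ω' : Ω} (ho : ω' ∈ Orb h ω) {w : V} {c : F} (hw : P.B d w = 0)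
    (h1 : Has (St P ω) (H97.eu P d w c)) : Has (St P ω') (H97.eu P d w c) := by
  obtain ⟨x, rfl⟩ := ho
  have h3 := has_St_eu (h.toG x) h1
  rw [h.toG_apply, h.toG_apply, eu_fix _ h.dd (W_d' _), o.eu, hw, zero_smul, add_zero] at h3
  refine h3.congr fun v => ?_
  rw [eu_add_smul, o.eps, RingHom.id_apply]
  congr 2
  linear_combination (P.B x.w w) * h2

theorem Symp.mem_span_of_has (o : Symp P) (hq : Nat.card F = 2) (hH : H ≤ P.Isom) (hX : XF P H d) {r : V}
    (hdr : P.B d r = 0) (hr : ¬ Has H (H97.eu P d r 0)) {w : V} {c : F} (hrw : P.B r w = 0)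
    (hdw : P.B d w = 0) (h : Has H (H97.eu P r w c)) : w ∈ Submodule.span F {d, r} := by
  by_contra hw
  obtain ⟨x, h1, h2⟩ := exists_perp_ne o.nd hw 1
  have h3 : P.B d x = 0 := h1 d (Submodule.subset_span (by simp))
  have h4 : P.B r x = 0 := h1 r (Submodule.subset_span (by simp))
  obtain ⟨c₀, -, h5⟩ := hX x h3
  obtain ⟨g, hg, e⟩ := h
  have h6 := has_eu_conj h5 hg (hH hg)
  rw [e, e, eu_fix _ (P.eq_zero_symm hdr) (P.eq_zero_symm hdw), o.eu, h2, h4] at h6
  have h7 := has_eu_add (o.mem _) (by simp [h3, hdr]) (by simp [h3]) h6 (has_eu_neg (o.mem _) h3 h5)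
  simp [o.alt, h4] at h7
  exact hr h7

theorem Symp.min_two (o : Symp P) (hq : Nat.card F = 2) {k : ℕ} (hk : finrank F V = 2 * (k + 3))
    {Ω : Type*} [MulAction (EG P) Ω] [Fintype Ω] [Nonempty Ω] (hne : ∀ ω : Ω, ¬ EG P ≤ St P ω) :
    2 ^ (2 * k + 5) ≤ Nat.card Ω + 2 ^ (k + 2) := by
  by_contra hlt
  rw [not_le] at hlt
  have h2 := two_eq_zero hq
  obtain ⟨d, -, hd⟩ := exists_ne_zero_mem (X := (⊤ : Submodule F V)) (by rw [finrank_top]; omega)
  obtain ⟨f, h⟩ := o.exists_pair hd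
  have hW := h.finrank_W
  have hM : Nat.card (Wp P d f) = 2 ^ (2 * k + 4) := by
    rw [card_submodule, hq]
    congr 1
    omega
  have hb : ∀ y : Wp P d f, y ≠ 0 → ∀ t : ℕ, (t : ℚ) ≤ mult h (Set.univ : Set Ω) y → t ≤ 1 :=
    fun y hy t ht => by
      have h1 := o.mass' h (by omega) (closed_univ h) hy ht
      rw [Set.ncard_univ, hM] at h1
      by_contra h3
      have := (Nat.mul_le_mul_left _ (show 2 ≤ t by omega)).trans h1
      rw [show 2 * k + 5 = 2 * k + 4 + 1 from rfl, pow_succ 2 (2 * k + 4)] at hlt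
      exact absurd ((Nat.le_add_right _ _).trans_lt hlt) (not_lt.2 this)
  have hA : ∀ (ω : Ω) e, e ≠ 0 → (∃ y, ∀ w, P.B e w = 0 → P.B y w = 0 → ∃ c, Has (St P ω) (H97.eu P e w c))
      ∨ ∀ w c, P.B e w = 0 → Has (St P ω) (H97.eu P e w c) → w ∈ F ∙ e := fun ω e he => by
    refine transfer o.iso o.nd (by omega) h.hd h.d_ne (φ := fun H e =>
      (∃ y, ∀ w, P.B e w = 0 → P.B y w = 0 → ∃ c, Has H (H97.eu P e w c)) ∨
        ∀ w c, P.B e w = 0 → Has H (H97.eu P e w c) → w ∈ F ∙ e) ?_ (fun ω => ?_) ω (o.mem _) he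
    · rintro ω e g (⟨y, h1⟩ | h1)
      · refine Or.inl ⟨g.1 y, fun w h3 h4 => ?_⟩
        obtain ⟨c, h5⟩ := h1 ((g⁻¹).1 w) (by rw [← EG_B g, EG_apply_inv, h3])
          (by rw [← EG_B g, EG_apply_inv, h4])
        exact ⟨c, by simpa only [EG_apply_inv] using has_St_eu g h5⟩
      · refine Or.inr fun w c h3 h4 => ?_
        obtain ⟨a, ha⟩ := Submodule.mem_span_singleton.1 (h1 ((g⁻¹).1 w) c
          (by rw [← EG_B g, EG_apply_inv, h3])
          (by simpa only [inv_smul_smul, EG_inv_apply] using has_St_eu g⁻¹ h4))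
        exact Submodule.mem_span_singleton.2 ⟨a, by rw [← map_smul, ha, EG_apply_inv]⟩
    by_cases h1 : YS h (St P ω) = ⊥
    · exact Or.inl ⟨0, fun w hw _ => ((h.xf_iff' o.nd).2 h1 w hw).imp fun c h => h.2⟩
    obtain ⟨v, hv, hv0⟩ := (YS h (St P ω)).bot_or_exists_ne_zero.resolve_left h1
    rcases (o.pw h).sub_or_top EG_le_LevAut (Y := YS h (St P ω)) (fun y hy hy0 =>
      le_trans (Nat.le_mul_of_pos_right _ (idx_pos _ _))
        (hb y hy0 _ (beta_le_mult o.nd (closed_univ h) y trivial))) with ⟨y, h3⟩ | h3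
    · obtain ⟨y', -, h4⟩ := h.tt_of o.nd (H := St P ω) (by
        by_contra h4
        have := hb v hv0 _ (idx_le_mult o.nd (closed_univ h) trivial hv)
        have := two_le_idx _ h4
        omega) h3
      exact Or.inl ⟨y', fun w h5 h6 => ⟨0, h4 w 0 h5 h6 (o.mem _)⟩⟩
    · refine Or.inr fun w c hw h4 => ?_
      obtain ⟨w', c', a, e1, -, e2⟩ := h.exists_W hw (o.mem (c - P.q w))
      have h5 : w' ∈ XS h (St P ω) := mem_XS.2 ⟨c', o.mem _, h4.congr e2⟩
      rw [(annR_eq_top_iff (h.nd o.nd)).1 h3, AddSubgroup.mem_bot] at h5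
      rw [e1, h5]
      simp [Submodule.smul_mem, Submodule.mem_span_singleton_self]
  obtain ⟨ω₀⟩ := ‹Nonempty Ω›
  obtain ⟨e, he⟩ : ∃ e, ¬ ZF P (St P ω₀) e := by
    by_contra h1
    push Not at h1
    exact hne ω₀ (o.EG_le_of_zf (by omega) h1)
  obtain ⟨ω, hZ⟩ := transfer_ex o.iso o.nd (by omega) h.hd h.d_ne (φ := fun H e => ¬ ZF P H e)
    (fun ω e g h1 h3 => h1 (st_inv (fun _ _ g h => ZF.st h g) ω e g h3)) (o.mem _)
    (fun e0 => he (by rw [e0]; exact zf_zero)) he
  have hZ' : ZS h.hd (St P ω) = ⊥ := eq_bot_iff.2 fun l hl => by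
    rcases zero_or_one hq l with rfl | rfl
    · exact zero_mem _
    · refine absurd (fun l' _ => ?_) hZ
      rcases zero_or_one hq l' with rfl | rfl
      · exact has_id.congr fun x => (eu_zero _ _).symm
      · exact (mem_ZS.1 hl).2
  have hY : YS h (St P ω) = ⊥ := by
    by_contra h1
    obtain ⟨v, hv, hv0⟩ := (YS h (St P ω)).bot_or_exists_ne_zero.resolve_left h1
    have := hb v hv0 _ (idx_le_mult o.nd (closed_univ h) trivial hv)
    rw [o.idx_bot _ hZ'] at this
    omega
  have hX := (h.xf_iff' o.nd).2 hY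
  have uniq : ∀ ω' : Ω, ZS h.hd (St P ω') = ⊥ → ∀ (w : Wp P d f) c c', Has (St P ω') (H97.eu P d w c) →
      Has (St P ω') (H97.eu P d w c') → c = c' := fun ω' hz w c c' h3 h4 => by
    have := sub_mem_ZS h.hd (W_d w) (o.mem _) (o.mem _) h3 h4
    rwa [hz, AddSubgroup.mem_bot, sub_eq_zero] at this
  choose θ hθ using fun w : Wp P d f => (hX w (W_d w)).imp fun c h => h.2
  have hadd : ∀ x y, θ (x + y) = θ x + θ y + (Pw P d f).B x y := fun x y =>
    uniq ω hZ' _ _ _ (hθ _) (has_eu_add (o.mem _) (W_d x) (W_d y) (hθ x) (hθ y))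
  obtain ⟨r, hr⟩ : ∃ r, θ r ≠ 0 := by
    by_contra h1
    push Not at h1
    obtain ⟨r, r', hrr⟩ := o.exists_W h (by omega)
    have := hadd r r'
    simp [h1, Pw_B, hrr] at this
  have hr0 : r ≠ 0 := fun e => hr (by simpa [e] using hadd 0 0)
  have hV : ∀ w c, P.B r w = 0 → Has (St P ω) (H97.eu P r w c) → w ∈ F ∙ (r : V) := by
    refine (hA ω r (by simpa using hr0)).resolve_left ?_
    rintro ⟨y, h1⟩
    have h3 := finrank_le_perp (P := P) (Submodule.span F ({(r : V), y, d} : Set V))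
    have h4 := finrank_span_triple_le (F := F) (r : V) y d
    have h5 := finrank_span_pair_le (F := F) d (r : V)
    obtain ⟨w, hw, hw'⟩ := exists_notMem_of_lt (X := perp P (Submodule.span F ({(r : V), y, d} : Set V)))
      (U := Submodule.span F {d, (r : V)}) (by omega)
    rw [mem_perp_span] at hw
    obtain ⟨c, h6⟩ := h1 w (hw _ (by simp)) (hw _ (by simp))
    exact hw' (o.mem_span_of_has hq (St_le_isom ω) hX (W_d r) (fun h7 => hr (uniq ω hZ' _ _ _ (hθ r) h7))
      (hw _ (by simp)) (hw _ (by simp)) h6)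
  obtain ⟨ω₂, hV₂⟩ := transfer_ex o.iso o.nd (by omega) h.hd h.d_ne
    (φ := fun H e => ∀ w c, P.B e w = 0 → Has H (H97.eu P e w c) → w ∈ F ∙ e) (fun ω e g h1 w c h3 h4 => by
      obtain ⟨a, ha⟩ := Submodule.mem_span_singleton.1 (h1 ((g⁻¹).1 w) c
        (by rw [← EG_B g, EG_apply_inv, h3])
        (by simpa only [inv_smul_smul, EG_inv_apply] using has_St_eu g⁻¹ h4))
      exact Submodule.mem_span_singleton.2 ⟨a, by rw [← map_smul, ha, EG_apply_inv]⟩) (o.mem _)
    (show (r : V) ≠ 0 by simpa using hr0) hV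
  have hY₂ : YS h (St P ω₂) = ⊤ := (annR_eq_top_iff (h.nd o.nd)).2 (eq_bot_iff.2 fun w hw => by
    obtain ⟨c, -, h1⟩ := mem_XS.1 hw
    by_contra hw0
    exact Symp.W_not_mem h hw0 (hV₂ w c (W_d w) h1))
  have hS := closed_card (Ω := Ω) h fun _ b => b = 1
  have h3 := card_Orb_le hS.compl (ω := ω₂) (by
    change ¬ Nat.card (YS h (St P ω₂)) = 1
    rw [hY₂, AddSubgroup.card_top, hM]
    exact (Nat.one_lt_pow (by omega) (by norm_num)).ne')
  rw [card_Orb o.nd, hY₂, AddSubgroup.card_top, hM] at h3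
  have h4 := (Nat.le_mul_of_pos_right _ (idx_pos _ _)).trans h3
  have := Fintype.ofFinite (Wp P d f)
  let p : Wp P d f → Ω := fun r => euG (o.mem (P.q r)) (map_zero _) (valid_zero (o.mem 1)) • ω
  have hp : ∀ r : Wp P d f, ZS h.hd (St P (p r)) = ⊥ := fun r =>
    (lev_tr (o.mem (P.q r)) (o.mem 1)).ZS_bot _ hZ'
  have hp' : ∀ r : Wp P d f, θ r = 0 → ∀ w : Wp P d f, Has (St P (p r)) (H97.eu P d w (θ w + P.B r w)) :=
    fun r hr w => by
      have h5 := has_St_eu (euG (o.mem (P.q r)) (map_zero _) (valid_zero (o.mem 1))) (hθ (w + P.B r w • r))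
      rw [euG_apply, euG_apply, eu_fix _ (W_d' r) (by simp), o.eu, hadd, Pw_B] at h5
      convert h5 using 3
      · simp only [Submodule.coe_add, Submodule.coe_smul, map_add, map_smul, o.alt, map_zero,
          LinearMap.zero_apply, smul_zero]
        linear_combination (norm := module) (-P.B r w * h2) • (r : V)
      · rcases zero_or_one hq (P.B r w) with h6 | h6
        · simp [h6, show θ 0 = 0 by simpa using hadd 0 0]
        · simp only [h6, one_smul, hr, o.skew r w]
          linear_combination h2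
  have h5 := mult_ge o.nd hS (y := 0) (Finset.univ.filter fun r => θ r = 0) p (fun r _ => ⟨by
    change Nat.card (YS h (St P (p r))) = 1
    rw [(lev_tr (o.mem (P.q r)) (o.mem 1)).card_YS, hY, AddSubgroup.card_bot], zero_mem _⟩) fun r hr r' hr' ho => by
      refine sub_eq_zero.1 (h.nd o.nd _ fun w => ?_)
      have := uniq _ (hp r') w _ _ (o.has_apply h2 h ho (W_d w) (hp' r (by simpa using hr) w))
        (hp' r' (by simpa using hr') w)
      rw [map_sub, LinearMap.sub_apply, Pw_B, Pw_B]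
      linear_combination this
  rw [Finset.sum_congr rfl (g := fun _ => (2 : ℚ)) fun r _ => by rw [o.idx_bot _ (hp r), hq]; rfl,
    Finset.sum_const, nsmul_eq_mul] at h5
  have h6 := sum_mult_le h {ω : Ω | Nat.card (YS h (St P ω)) = 1} {0}
  rw [Finset.sum_singleton] at h6
  have h7 : (Finset.univ.filter fun r => θ r = 0).card * 2 ≤
    {ω : Ω | Nat.card (YS h (St P ω)) = 1}.ncard := by exact_mod_cast h5.trans h6
  have h8 := (o.pw h).card_zero_ge hq (k := k + 1) (by omega) hadd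
  rw [Nat.card_eq_fintype_card, Fintype.card_subtype] at h8
  have h9 := ncard_add_compl {ω : Ω | Nat.card (YS h (St P ω)) = 1}
  rw [show 2 * (k + 1) + 1 = 2 * k + 3 by ring] at h8
  simp only [pow_succ] at *
  omega

theorem Symp.exists_index_two (o : Symp P) (hq : Nat.card F = 2) (hn : 4 ≤ finrank F V)
    {θ : V → F} (hθ : ∀ x y, θ (x + y) = θ x + θ y + P.B x y)
    (hne : 2 * Nat.card {x // θ x = 0} ≠ Nat.card V) :
    ∃ H : Subgroup (EG P), Subgroup.center (EG P) ≤ H ∧ H.index = Nat.card {x // θ x = 0} := by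
  have h2 := two_eq_zero hq
  have h0 : θ 0 = 0 := by simpa using hθ 0 0
  let _ : MulAction (EG P) (V → F) :=
    { smul := fun g φ x => φ ((g⁻¹).1 x)
      one_smul := fun _ => rfl
      mul_smul := fun g k φ => funext fun x => by
        change φ (((g * k)⁻¹).1 x) = φ ((k⁻¹).1 ((g⁻¹).1 x))
        rw [mul_inv_rev, EG_mul_apply] }
  have hs : ∀ (g : EG P) (φ : V → F) x, (g • φ) x = φ ((g⁻¹).1 x) := fun _ _ _ => rfl
  refine ⟨MulAction.stabilizer (EG P) θ, fun z hz => funext fun x => ?_, ?_⟩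
  · obtain ⟨a, ha⟩ := Submodule.mem_span_singleton.1
      (center_smul o.iso o.nd (by omega) hn ((Subgroup.center _).inv_mem hz) x)
    rw [hs]
    rcases zero_or_one hq a with rfl | rfl
    · rw [zero_smul, eq_comm, map_eq_zero_iff _ (z⁻¹).1.injective] at ha
      rw [ha, map_zero]
    · rw [← ha, one_smul]
  rw [MulAction.index_stabilizer, ← Nat.card_coe_set_eq]
  refine (Nat.card_congr (Equiv.ofBijective (fun r : {x // θ x = 0} =>
    (⟨fun x => θ x + P.B r.1 x, (euG (o.mem (P.q r.1)) (map_zero _) (valid_zero (o.mem 1)))⁻¹, ?_⟩ :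
      MulAction.orbit (EG P) θ)) ⟨fun r r' e => ?_, ?_⟩)).symm
  · funext x
    change θ _ = _
    rw [inv_inv, euG_apply, o.eu, smul_zero, add_zero, hθ]
    rcases zero_or_one hq (P.B r.1 x) with h6 | h6
    · simp [h6, h0]
    · simp only [h6, map_zero, LinearMap.zero_apply, zero_add, mul_one, one_smul, r.2, o.skew r.1 x]
      linear_combination -h2
  · refine Subtype.ext (sub_eq_zero.1 (o.nd _ fun w => ?_))
    have := congrFun (congrArg Subtype.val e) w
    rw [map_sub, LinearMap.sub_apply]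
    linear_combination this
  · rintro ⟨_, g, rfl⟩
    let φ : V →ₗ[F] F :=
      { toFun := fun x => θ ((g⁻¹).1 x) - θ x
        map_add' := fun x y => by rw [map_add, hθ, hθ, EG_B]; ring
        map_smul' := fun a x => by rcases zero_or_one hq a with rfl | rfl <;> simp [h0] }
    obtain ⟨r, hr⟩ := exists_repr_dual P.σσ P.B o.nd φ
    have h3 : ∀ x, θ ((g⁻¹).1 x) = θ x + P.B r x := fun x => by
      rw [hr]
      exact (add_sub_cancel _ _).symm
    refine ⟨⟨r, ?_⟩, Subtype.ext (funext fun x => (h3 x).symm)⟩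
    refine (zero_or_one hq _).resolve_right fun h4 => hne ?_
    have h5 : Nat.card {x // θ x = 0} = Nat.card {x // ¬ θ x = 0} :=
      Nat.card_congr (Equiv.subtypeEquiv ((g.1.toEquiv).trans (Equiv.addLeft r)) fun x => by
        have h6 := h3 (g.1 x)
        rw [EG_inv_apply] at h6
        change θ x = 0 ↔ ¬ θ (r + g.1 x) = 0
        rw [hθ, h4, add_assoc, ← h6]
        rcases zero_or_one hq (θ x) with h7 | h7 <;> simp [h7, one_add_one_eq_two, h2])
    have := Fintype.ofFinite V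
    simp only [Nat.card_eq_fintype_card, Fintype.card_subtype_compl] at h5 ⊢
    have := Fintype.card_subtype_le fun x => θ x = 0
    omega

end Two

variable {F : Type u} [Field F] [Fintype F]

theorem symp_spPQ (m : ℕ) : Symp (spPQ m F) := ⟨rfl, spPQ_sep, rfl⟩

/-- The symplectic group is generated by its Eichler elements. -/
noncomputable def spEG (m : ℕ) : Matrix.symplecticGroup (Fin m) F ≃* EG (spPQ m F) :=
  spEquiv.trans (MulEquiv.subgroupCongr (le_antisymm (symp_spPQ m).isom_le EG_le_isom))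

theorem min_sp {q : ℕ} (hF : Fintype.card F = q) (m : ℕ) (hm : 2 ≤ m) (hq : 3 ≤ q)
    (hexc : ¬ (m = 2 ∧ q = 3)) :
    (∀ H : Subgroup (Cfsg.PSp m F), H ≠ ⊤ → (q ^ (2 * m) - 1) / (q - 1) ≤ H.index) ∧
      ∃ H : Subgroup (Cfsg.PSp m F), H.index = (q ^ (2 * m) - 1) / (q - 1) := by
  have o := symp_spPQ (F := F) m
  have hn := finrank_sp (F := F) m
  rw [← Nat.card_eq_fintype_card] at hF
  have h1 := o.card_lvl
  rw [card_space (F := F), hF, hn] at h1
  obtain ⟨d, -, hd⟩ := exists_ne_zero_mem (X := (⊤ : Submodule F (Fin m ⊕ Fin m → F)))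
    (by rw [finrank_top]; omega)
  refine finish (spEG m) (fun Ω _ _ _ hne => ?_) (hF ▸ exists_index_point o.iso o.nd (by omega) (by omega)
    (c := 0) (by rw [cls_eq_lvl_of_mem (zero_mem _), hF]; omega) (Finset.card_pos.2 ⟨d, o.mem_lvl.2 hd⟩))
  have h2 := o.min_big (Ω := Ω) (q := q - 1) (by omega) (by omega) (by omega) (by omega) hne
  rw [card_space (F := F), hF, hn] at h2
  exact Nat.lt_add_one_iff.1 ((Nat.div_lt_iff_lt_mul (by omega)).2 (by omega))

theorem min_sp_two (hF : Fintype.card F = 2) (m : ℕ) (hm : 3 ≤ m) :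
    (∀ H : Subgroup (Cfsg.PSp m F), H ≠ ⊤ → 2 ^ (m - 1) * (2 ^ m - 1) ≤ H.index) ∧
      ∃ H : Subgroup (Cfsg.PSp m F), H.index = 2 ^ (m - 1) * (2 ^ m - 1) := by
  obtain ⟨k, rfl⟩ : ∃ k, m = k + 3 := ⟨m - 3, by omega⟩
  have o := symp_spPQ (F := F) (k + 3)
  have hn := finrank_sp (F := F) (k + 3)
  rw [← Nat.card_eq_fintype_card] at hF
  have h2 := two_eq_zero hF
  have e0 : 2 ^ (k + 3 - 1) * (2 ^ (k + 3) - 1) + 2 ^ (k + 2) = 2 ^ (2 * k + 5) := by
    have : 1 ≤ 2 ^ (k + 3) := Nat.one_le_two_pow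
    rw [show k + 3 - 1 = k + 2 from rfl]
    zify [this]
    ring
  refine finish (spEG _) (fun Ω _ _ _ hne => ?_) ?_
  · have := o.min_two hF hn hne
    omega
  let r : Fin (k + 3) ⊕ Fin (k + 3) → F := Pi.single (Sum.inl 0) 1 + Pi.single (Sum.inr 0) 1
  have h3 : ∀ x y, H12.QPlus F (k + 3) (x + y) =
      H12.QPlus F (k + 3) x + H12.QPlus F (k + 3) y + (spPQ (k + 3) F).B x y := fun x y => by
    simp only [H12.QPlus_apply, Cfsg.quadFormPlus, spPQ_B, H11.Sp.form_eq_sum, Pi.add_apply,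
      ← Finset.sum_add_distrib]
    exact Finset.sum_congr rfl fun i _ => by linear_combination (x (.inl i) * y (.inr i)) * h2
  have h4 : H12.QPlus F (k + 3) r = 1 := by
    simp [H12.QPlus_apply, Cfsg.quadFormPlus, r, Pi.single_apply]
  have h5 : Nat.card {x // H12.QPlus F (k + 3) x + (spPQ (k + 3) F).B r x = 0} =
      Nat.card {x // ¬ H12.QPlus F (k + 3) x = 0} :=
    Nat.card_congr (Equiv.subtypeEquiv (Equiv.addLeft r) fun x => by
      change _ ↔ ¬ H12.QPlus F (k + 3) (r + x) = 0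
      rw [h3, h4, add_assoc]
      rcases zero_or_one hF (H12.QPlus F (k + 3) x + (spPQ (k + 3) F).B r x) with h7 | h7 <;>
        simp [h7, one_add_one_eq_two, h2])
  have h6 := H12.card_zero_QPlus (F := F) (k + 2)
  have h7 := card_space (F := F) (V := Fin (k + 3) ⊕ Fin (k + 3) → F)
  rw [hF, hn] at h7
  rw [hF] at h6
  have h8 : Nat.card {x // H12.QPlus F (k + 3) x = 0} + Nat.card {x // ¬ H12.QPlus F (k + 3) x = 0} =
      2 ^ (2 * (k + 3)) := by
    rw [← h7, ← Nat.card_sum]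
    exact Nat.card_congr (Equiv.sumCompl _)
  have h9 : Nat.card {x // H12.QPlus F (k + 3) x + (spPQ (k + 3) F).B r x = 0} + 2 ^ (k + 2) =
      2 ^ (2 * k + 5) := by
    rw [h5]
    zify at h8 ⊢
    push_cast at h6
    linear_combination h8 - h6
  obtain ⟨H, h10, h11⟩ := o.exists_index_two hF (by omega)
    (θ := fun x => H12.QPlus F (k + 3) x + (spPQ (k + 3) F).B r x) (fun x y => by
      simp only [h3, map_add]; ring) (by
      have : 0 < 2 ^ (k + 2) := by positivity
      rw [h7, show 2 * (k + 3) = 2 * k + 5 + 1 by ring, pow_succ]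
      omega)
  exact ⟨H, h10, by omega⟩

theorem force_eq_sympD : True := by
  have := @spEG.eq_1.{0}
  have := @spEG.eq_def.{0}
  trivial

end H20.MD
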