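import Cfsg.Agent.Lib.MinDeg.Mass
import Cfsg.Agent.Lib.MinDeg.Fin

/-! Transport, counting of images, fixed points of torus elements. -/

set_option autoImplicit false
set_option linter.unusedSectionVars false

namespace H20.MD

open Module H28 H97
open scoped Classical

variable {F V : Type*} [Field F] [AddCommGroup V] [Module F V] {σ : F →+* F}
  {P : PQ F V σ} {d f : V} [FiniteDimensional F V]

section Transport

variable {Ω : Type*} [MulAction (EG P) Ω] {ω : Ω}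

theorem EG_valid (g : EG P) {w : V} {c : F} (hc : c - P.q w ∈ P.Λ) : c - P.q (g.1 w) ∈ P.Λ :=
  isom_valid (EG_le_isom g.2) hc

theorem EG_sing (g : EG P) {w : V} (hc : P.q w ∈ P.Λ) : P.q (g.1 w) ∈ P.Λ :=
  isom_q (EG_le_isom g.2) hc

theorem XRel.st {e y : V} (h : XRel P (St P ω) e y) (g : EG P) :
    XRel P (St P (g • ω)) (g.1 e) (g.1 y) := by
  intro w c hw hy hc
  have := has_St_eu g (h ((g⁻¹).1 w) c (by rw [← EG_B g, EG_apply_inv, hw])
    (by rw [← EG_B g, EG_apply_inv, hy]) (EG_valid _ hc))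
  rwa [EG_apply_inv] at this

theorem xle_st {e : V} (h : XLe P (St P ω) e) (g : EG P) : XLe P (St P (g • ω)) (g.1 e) := by
  have := (xrel_of_xle h 0).st g
  rw [map_zero] at this
  exact this.xle

theorem TT.st {e : V} (h : TT P (St P ω) e) (g : EG P) : TT P (St P (g • ω)) (g.1 e) := by
  obtain ⟨y, h1, h2⟩ := h
  exact ⟨g.1 y, by rw [EG_B, h1], h2.st g⟩

theorem Reg.st {e : V} (h : Reg P (St P ω) e) (g : EG P) : Reg P (St P (g • ω)) (g.1 e) := by
  intro w c hw hc hh x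
  have h1 := has_St_eu g⁻¹ hh
  rw [inv_smul_smul, EG_inv_apply] at h1
  have h2 := h _ c (by rw [← EG_B g, EG_apply_inv, hw]) (EG_valid _ hc) h1 ((g⁻¹).1 x)
  have h3 := eu_conj (EG_le_isom g.2) e ((g⁻¹).1 w) c x
  rw [EG_apply_inv] at h3
  rw [← h3]
  exact (congrArg g.1 h2).trans (EG_apply_inv g x)

theorem not_le_St_smul (h : ¬ EG P ≤ St P ω) (g : EG P) : ¬ EG P ≤ St P (g • ω) := by
  intro h1
  refine h fun k hk => ?_
  have h2 : (g * ⟨k, hk⟩ * g⁻¹) • g • ω = g • ω := coe_mem_St.1 (h1 (g * ⟨k, hk⟩ * g⁻¹).2)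
  rw [mul_smul, mul_smul, inv_smul_smul, smul_left_cancel_iff] at h2
  exact (coe_mem_St (g := ⟨k, hk⟩)).2 h2

/-- The dichotomy at one point for all stabilisers gives the dichotomy at all points. -/
theorem dich_of_point {k : ℕ} (hK : IsoK P k) (hP : P.B.SeparatingLeft) (hn : k + 2 ≤ finrank F V)
    (hd : P.q d ∈ P.Λ) (hd0 : d ≠ 0) (h : ∀ ω : Ω, ¬ Reg P (St P ω) d → TT P (St P ω) d) (ω : Ω) :
    Dich P (St P ω) := by
  intro e he he0 hr
  obtain ⟨g, hg, e1⟩ := hK.exists_EG_apply_eq hP hn he0 hd0 (P.Λ.sub_mem he hd)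
  have e2 : ((⟨g, hg⟩ : EG P)⁻¹).1 d = e := by rw [← e1]; exact EG_inv_apply ⟨g, hg⟩ e
  have h1 := (h ((⟨g, hg⟩ : EG P) • ω) fun h2 => hr (by
    have := h2.st (⟨g, hg⟩ : EG P)⁻¹
    rwa [inv_smul_smul, e2] at this)).st (⟨g, hg⟩ : EG P)⁻¹
  rwa [inv_smul_smul, e2] at h1

end Transport

section Img

variable {W : Type*} [AddCommGroup W] [Module F W] {γ : W ≃ₗ[F] W} {Y : AddSubgroup W}
  {Γ : Subgroup (W ≃ₗ[F] W)} {y : W}

theorem img_pow_succ (n : ℕ) : img (γ ^ (n + 1)) Y = img γ (img (γ ^ n) Y) := by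
  rw [pow_succ', img_mul]

theorem iterate_img (n : ℕ) : (img γ)^[n] Y = img (γ ^ n) Y := by
  induction n with
  | zero => simp [img_one]
  | succ n ih => rw [Function.iterate_succ_apply', ih, img_pow_succ]

theorem pow_apply_eq (e : γ y = y) (n : ℕ) : (γ ^ n) y = y := by
  induction n with
  | zero => rfl
  | succ n ih => rw [pow_succ, le_mul_apply, e, ih]

/-- A `p`-element fixing `y` stabilises `Y` if there are fewer than `p` images through `y`. -/
theorem img_eq_of_lt [Finite W] {p k : ℕ} (hp : p.Prime) (hγ : γ ∈ Γ) (e : γ y = y) (hy : y ∈ Y)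
    (hk : γ ^ p ^ k = 1) (hlt : (Im Γ Y y).ncard < p) : img γ Y = Y := by
  have h1 : Function.IsPeriodicPt (img γ) (p ^ k) Y := by
    rw [Function.IsPeriodicPt, Function.IsFixedPt, iterate_img, hk, img_one]
  have h2 := h1.minimalPeriod_dvd
  obtain ⟨j, -, hj⟩ := (Nat.dvd_prime_pow hp).1 h2
  have h3 : Function.minimalPeriod (img γ) Y ≤ (Im Γ Y y).ncard := by
    have h4 := Set.ncard_le_ncard_of_injOn (s := Set.Iio (Function.minimalPeriod (img γ) Y))
      (t := Im Γ Y y) (fun n => (img γ)^[n] Y) (fun n _ => by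
        rw [iterate_img]
        exact img_mem_Im hy (Γ.pow_mem hγ n) (pow_apply_eq e n))
      Function.iterate_injOn_Iio_minimalPeriod
    rwa [← Finset.coe_range, Set.ncard_coe_finset, Finset.card_range] at h4
  rcases j with _ | j
  · rw [pow_zero, Function.minimalPeriod_eq_one_iff_isFixedPt] at hj
    exact hj
  · have : p ≤ p ^ (j + 1) := Nat.le_self_pow (by omega) p
    omega

theorem img_eq_of_le_one [Finite W] (hγ : γ ∈ Γ) (e : γ y = y) (hy : y ∈ Y)
    (hlt : (Im Γ Y y).ncard ≤ 1) : img γ Y = Y :=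
  (Set.ncard_le_one (Set.toFinite _)).1 hlt _ (img_mem_Im hy hγ e) _ (self_mem_Im hy)

theorem img_injective (γ : W ≃ₗ[F] W) : Function.Injective (img γ : AddSubgroup W → _) := by
  intro Y Y' h
  ext x
  rw [← apply_mem_img (γ := γ), h, apply_mem_img]

theorem img_mem_Im' {Y' : AddSubgroup W} (h : Y' ∈ Im Γ Y y) (hγ : γ ∈ Γ) :
    img γ Y' ∈ Im Γ Y (γ y) := by
  obtain ⟨⟨γ', h1, rfl⟩, h2⟩ := h
  exact ⟨⟨γ * γ', Γ.mul_mem hγ h1, img_mul⟩, apply_mem_img.2 h2⟩

theorem ncard_Im_apply [Finite W] (hγ : γ ∈ Γ) : (Im Γ Y (γ y)).ncard = (Im Γ Y y).ncard := by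
  have key : ∀ {γ : W ≃ₗ[F] W} {y : W}, γ ∈ Γ → (Im Γ Y y).ncard ≤ (Im Γ Y (γ y)).ncard :=
    fun {γ y} hγ => Set.ncard_le_ncard_of_injOn (img γ) (fun _ h => img_mem_Im' h hγ)
      (img_injective γ).injOn
  refine le_antisymm ?_ (key hγ)
  simpa using key (y := γ y) (Γ.inv_mem hγ)

theorem Im_img (hγ : γ ∈ Γ) : Im Γ (img γ Y) y = Im Γ Y y := by
  ext Y'
  constructor
  · rintro ⟨⟨γ', h1, rfl⟩, h2⟩
    exact ⟨⟨γ' * γ, Γ.mul_mem h1 hγ, img_mul⟩, h2⟩
  · rintro ⟨⟨γ', h1, rfl⟩, h2⟩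
    exact ⟨⟨γ' * γ⁻¹, Γ.mul_mem h1 (Γ.inv_mem hγ), by rw [← img_mul, inv_mul_cancel_right]⟩, h2⟩

theorem card_of_mem_Im {Y' : AddSubgroup W} (h : Y' ∈ Im Γ Y y) : Nat.card Y' = Nat.card Y := by
  obtain ⟨⟨γ', -, rfl⟩, -⟩ := h
  exact card_img

theorem sum_Im [Finite W] (Γ : Subgroup (W ≃ₗ[F] W)) (Y : AddSubgroup W) (C : Finset W) :
    ∑ y ∈ C, (Im Γ Y y).ncard =
      ∑ Y' ∈ (Set.toFinite (Im Γ Y 0)).toFinset, (C.filter (· ∈ Y')).card := by
  have h1 : ∀ y, (Im Γ Y y).ncard =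
      ((Set.toFinite (Im Γ Y 0)).toFinset.filter (y ∈ ·)).card := fun y => by
    rw [← Set.ncard_coe_finset]
    congr 1
    ext Y'
    simp only [Finset.coe_filter, Set.Finite.mem_toFinset, mem_Im, Set.mem_ofPred_eq, zero_mem,
      and_true]
  simp only [h1, Finset.card_filter]
  exact Finset.sum_comm

theorem card_filter_succ_le [Finite W] (C : Finset W) (h0 : (0 : W) ∉ C) (Y : AddSubgroup W) :
    (C.filter (· ∈ Y)).card + 1 ≤ Nat.card Y := by
  have h2 := card_filter_le (insert 0 C) Y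
  rwa [Finset.filter_insert, if_pos (zero_mem _), Finset.card_insert_of_notMem (by simp [h0])] at h2

/-- Double counting of the images of `Y`. -/
theorem mul_le_ncard_Im [Finite W] (C : Finset W) (h0 : (0 : W) ∉ C) {t : ℕ}
    (h : ∀ y ∈ C, t ≤ (Im Γ Y y).ncard) :
    C.card * t ≤ (Im Γ Y 0).ncard * (Nat.card Y - 1) := by
  calc C.card * t = ∑ _y ∈ C, t := by simp
    _ ≤ ∑ y ∈ C, (Im Γ Y y).ncard := Finset.sum_le_sum h
    _ = _ := sum_Im Γ Y C
    _ ≤ ∑ _Y' ∈ (Set.toFinite (Im Γ Y 0)).toFinset, (Nat.card Y - 1) :=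
        Finset.sum_le_sum fun Y' hY' => by
          have h1 := card_filter_succ_le C h0 Y'
          rw [card_of_mem_Im ((Set.Finite.mem_toFinset _).1 hY')] at h1
          omega
    _ = _ := by rw [Finset.sum_const, smul_eq_mul, ← Set.ncard_eq_toFinset_card]

/-- The action on additive subgroups. -/
@[reducible] def imgAct (Γ : Subgroup (W ≃ₗ[F] W)) : MulAction Γ (AddSubgroup W) where
  smul γ Y := img γ.1 Y
  one_smul _ := img_one
  mul_smul _ _ _ := img_mul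

/-- The stabiliser of an additive subgroup. -/
def stabA (Γ : Subgroup (W ≃ₗ[F] W)) (Y : AddSubgroup W) : Subgroup Γ :=
  @MulAction.stabilizer Γ _ _ (imgAct Γ) Y

theorem mem_stabA {g : Γ} : g ∈ stabA Γ Y ↔ img g.1 Y = Y := Iff.rfl

theorem index_stabA : (stabA Γ Y).index = (Im Γ Y 0).ncard := by
  let _ := imgAct Γ
  rw [stabA, MulAction.index_stabilizer]
  congr 1
  ext Y'
  constructor
  · rintro ⟨g, rfl⟩
    exact ⟨⟨g.1, g.2, rfl⟩, zero_mem _⟩
  · rintro ⟨⟨g, hg, rfl⟩, -⟩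
    exact ⟨⟨g, hg⟩, rfl⟩

theorem img_span_singleton (γ : W ≃ₗ[F] W) (v : W) :
    img γ (F ∙ v).toAddSubgroup = (F ∙ γ v).toAddSubgroup := by
  ext x
  rw [mem_img]
  constructor
  · rintro ⟨y, hy, rfl⟩
    obtain ⟨a, rfl⟩ := Submodule.mem_span_singleton.1 hy
    exact Submodule.mem_span_singleton.2 ⟨a, by rw [map_smul]⟩
  · intro hx
    obtain ⟨a, rfl⟩ := Submodule.mem_span_singleton.1 hx
    exact ⟨a • v, Submodule.mem_span_singleton.2 ⟨a, rfl⟩, by rw [map_smul]⟩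

theorem card_span_singleton [Finite F] {v : W} (hv : v ≠ 0) : Nat.card (F ∙ v) = Nat.card F :=
  (Nat.card_congr (LinearEquiv.toSpanNonzeroSingleton F W v hv).toEquiv).symm

/-- The number of points in an orbit. -/
theorem ncard_Im_point [Finite F] [Finite W] {v : W} (hv : v ≠ 0) (C : Finset W)
    (hC : ∀ y, y ∈ C ↔ ∃ a : F, a ≠ 0 ∧ ∃ γ ∈ Γ, y = a • γ v) :
    (Im Γ (F ∙ v).toAddSubgroup 0).ncard * (Nat.card F - 1) = C.card := by
  have h1 := sum_Im Γ (F ∙ v).toAddSubgroup C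
  rw [Finset.sum_congr (s₁ := C) rfl (g := fun _ => 1),
    Finset.sum_congr (s₁ := Set.Finite.toFinset _) rfl (g := fun _ => Nat.card F - 1)] at h1
  · simpa [← Set.ncard_eq_toFinset_card] using h1.symm
  · intro Y' hY'
    obtain ⟨⟨γ, hγ, rfl⟩, -⟩ := (Set.Finite.mem_toFinset _).1 hY'
    have h2 : γ v ≠ 0 := by simpa using hv
    rw [img_span_singleton, ← card_span_singleton h2, ← Set.ncard_coe_finset]
    have h3 : ((C.filter (· ∈ (F ∙ γ v).toAddSubgroup) : Finset W) : Set W) =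
        ((F ∙ γ v : Submodule F W) : Set W) \ {0} := by
      ext x
      simp only [Finset.coe_filter, Submodule.mem_toAddSubgroup, Set.mem_ofPred_eq, Set.mem_diff,
        SetLike.mem_coe, Set.mem_singleton_iff, hC]
      constructor
      · rintro ⟨⟨a, ha, γ', -, rfl⟩, h⟩
        exact ⟨h, smul_ne_zero ha (by simpa using hv)⟩
      · rintro ⟨h, h0⟩
        obtain ⟨a, rfl⟩ := Submodule.mem_span_singleton.1 h
        exact ⟨⟨a, fun e => h0 (by simp [e]), γ, hγ, rfl⟩, h⟩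
    rw [h3, Set.ncard_diff_singleton_of_mem (by simp)]
    rfl
  · intro y hy
    obtain ⟨a, ha, γ, hγ, rfl⟩ := (hC y).1 hy
    rw [Set.ncard_eq_one]
    refine ⟨(F ∙ γ v).toAddSubgroup, Set.eq_singleton_iff_unique_mem.2 ⟨⟨⟨γ, hγ, img_span_singleton _ _⟩,
      Submodule.mem_span_singleton.2 ⟨a, rfl⟩⟩, ?_⟩⟩
    rintro Y' ⟨⟨γ', -, rfl⟩, h⟩
    rw [img_span_singleton] at h ⊢
    obtain ⟨b, hb⟩ := Submodule.mem_span_singleton.1 h
    have hb0 : b ≠ 0 := by
      rintro rfl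
      exact smul_ne_zero ha (by simpa using hv : γ v ≠ 0) (by simpa using hb.symm)
    rw [← Submodule.span_singleton_smul_eq (IsUnit.mk0 b hb0), hb,
      Submodule.span_singleton_smul_eq (IsUnit.mk0 a ha)]

theorem le_ncard_Im_point [Finite F] [Finite W] {v : W} (hv : v ≠ 0) (C : Finset W)
    (hC : ∀ y ∈ C, ∃ a : F, a ≠ 0 ∧ ∃ γ ∈ Γ, y = a • γ v) :
    C.card ≤ (Im Γ (F ∙ v).toAddSubgroup 0).ncard * (Nat.card F - 1) := by
  have := mul_le_ncard_Im (Γ := Γ) (Y := (F ∙ v).toAddSubgroup) C (t := 1) (fun h => by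
    obtain ⟨a, ha, γ, -, e⟩ := hC 0 h
    exact smul_ne_zero ha (by simpa using hv : γ v ≠ 0) e.symm) fun y hy => by
      obtain ⟨a, ha, γ, hγ, rfl⟩ := hC y hy
      rw [← map_smul, ncard_Im_apply hγ]
      exact one_le_ncard_Im (Submodule.mem_span_singleton.2 ⟨a, rfl⟩)
  rw [mul_one] at this
  exact this.trans_eq (by rw [← card_span_singleton (F := F) hv]; rfl)

end Img

theorem ncard_Im_le_card {Ω : Type*} [MulAction (EG P) Ω] [Finite Ω] [Finite V] {ω : Ω}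
    {L : AddSubgroup V} (h : ∀ g ∈ St P ω, ∀ v ∈ L, g v ∈ L) :
    (Im (EG P) L 0).ncard ≤ Nat.card Ω := by
  have h1 : MulAction.stabilizer (EG P) ω ≤ stabA (EG P) L := fun g hg =>
    img_eq_of_maps (h g.1 (coe_mem_St.2 hg))
  have h2 : (MulAction.stabilizer (EG P) ω).index ≤ Nat.card Ω := by
    rw [MulAction.index_stabilizer, ← Set.ncard_univ]
    exact Set.ncard_le_ncard (Set.subset_univ _)
  have h3 : (MulAction.stabilizer (EG P) ω).index ≠ 0 := by
    rw [MulAction.index_stabilizer]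
    exact ((Set.ncard_pos (Set.toFinite _)).2 ⟨ω, MulAction.mem_orbit_self ω⟩).ne'
  rw [← index_stabA]
  exact (Nat.le_of_dvd (Nat.pos_of_ne_zero h3) (Subgroup.index_dvd_of_le h1)).trans h2

theorem le_card_of_le_stab {Ω : Type*} [MulAction (EG P) Ω] [Finite Ω] [Finite F] [Finite V] {ω : Ω}
    {v : V} (hv : v ≠ 0) (h : St P ω ≤ stab (F ∙ v)) (C : Finset V)
    (hC : ∀ y ∈ C, ∃ a : F, a ≠ 0 ∧ ∃ γ ∈ EG P, y = a • γ v) :
    C.card ≤ Nat.card Ω * (Nat.card F - 1) :=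
  (le_ncard_Im_point hv C hC).trans (Nat.mul_le_mul_right _
    (ncard_Im_le_card fun g hg v hv => (mem_stab.1 (h hg) v).1 hv))

section Family

variable [Finite F] [Finite V]

theorem exists_isom_eu {r w : V} {c : F} (hr : P.q r ∈ P.Λ) (hw : P.B r w = 0)
    (hc : c - P.q w ∈ P.Λ) : ∃ γ ∈ EG P, ∀ x, γ x = eu P r w c x := has_eu_EG hr hw hc

theorem mem_sup_of_eu {r w x : V} {c : F} {U : Submodule F V} (hx : x ∈ U) (h : eu P r w c x ∈ U)
    (hrx : P.B r x ≠ 0) : w ∈ U ⊔ F ∙ r := by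
  have h1 : P.ε * P.B r x ≠ 0 := mul_ne_zero P.ε_ne_zero hrx
  have e : w = (P.ε * P.B r x)⁻¹ • ((x - eu P r w c x) + (P.B w x - P.ε * c * P.B r x) • r) := by
    apply smul_right_injective V h1
    simp only [smul_smul, mul_inv_cancel₀ h1, one_smul, eu_apply]
    module
  rw [e]
  exact Submodule.smul_mem _ _ (Submodule.add_mem_sup (U.sub_mem hx h)
    (Submodule.mem_span_singleton.2 ⟨_, rfl⟩))

theorem card_submodule (D : Submodule F V) : Nat.card D = Nat.card F ^ finrank F D := by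
  have := Fintype.ofFinite F
  have := Fintype.ofFinite D
  rw [Nat.card_eq_fintype_card, Nat.card_eq_fintype_card, Module.card_eq_pow_finrank (K := F)]

theorem card_space : Nat.card V = Nat.card F ^ finrank F V := by
  have := Fintype.ofFinite F
  have := Fintype.ofFinite V
  rw [Nat.card_eq_fintype_card, Nat.card_eq_fintype_card, Module.card_eq_pow_finrank (K := F)]

theorem exists_compl_family {U : Submodule F V} {r y x : V} (hr : P.B r r = 0) (hx : x ∈ U)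
    (hrx : P.B r x ≠ 0) : ∃ D : Submodule F V, finrank F V ≤ finrank F D + 2 + finrank F U ∧
      (∀ w ∈ D, P.B r w = 0 ∧ P.B y w = 0) ∧ ∀ w ∈ D, w ∈ U ⊔ F ∙ r → w = 0 := by
  let A : Submodule F V := perp P (Submodule.span F {r, y})
  have hA : finrank F V ≤ finrank F A + 2 := by
    have h1 : finrank F V ≤ finrank F A + _ := finrank_le_perp (P := P) (Submodule.span F ({r, y} : Set V))
    have h2 : finrank F (Submodule.span F ({r, y} : Set V)) ≤ 2 := by
      rw [Submodule.span_insert]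
      have := finrank_sup_le' (F ∙ r) (F ∙ y)
      have := finrank_span_singleton_le (F := F) r
      have := finrank_span_singleton_le (F := F) y
      omega
    omega
  let E : Submodule F V := A ⊓ (U ⊔ F ∙ r)
  have hE : finrank F E ≤ finrank F U := by
    have h1 : E < U ⊔ F ∙ r := lt_of_le_of_ne inf_le_right fun e => by
      have : x ∈ E := e ▸ Submodule.mem_sup_left hx
      exact hrx (mem_perp_span.1 this.1 r (by simp))
    have h2 := Submodule.finrank_lt_finrank_of_lt h1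
    have := finrank_sup_le' U (F ∙ r)
    have := finrank_span_singleton_le (F := F) r
    omega
  obtain ⟨D', hD'⟩ := (E.comap A.subtype).exists_isCompl
  refine ⟨D'.map A.subtype, ?_, ?_, ?_⟩
  · have h1 := Submodule.finrank_add_eq_of_isCompl hD'
    have h2 : finrank F (E.comap A.subtype) = finrank F E :=
      (Submodule.comapSubtypeEquivOfLe inf_le_left).finrank_eq
    rw [Submodule.finrank_map_subtype_eq]
    omega
  · rintro _ ⟨w, -, rfl⟩
    exact ⟨mem_perp_span.1 w.2 r (by simp), mem_perp_span.1 w.2 y (by simp)⟩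
  · rintro _ ⟨w, hw, rfl⟩ h
    have h1 : w ∈ E.comap A.subtype := ⟨w.2, h⟩
    have := (Submodule.disjoint_def.1 hD'.disjoint) w h1 hw
    simp [this]

/-- Many images of subgroups of `U` through `y` avoiding `r`. -/
theorem family_le {Γ : Subgroup (V ≃ₗ[F] V)} (hΓ : EG P ≤ Γ) {U : Submodule F V} {Y : AddSubgroup V}
    {r y : V} (hr : P.q r ∈ P.Λ) (hry : P.B r y = 0) (T : Finset (AddSubgroup V))
    (hT : ∀ Y' ∈ T, Y' ∈ Im Γ Y y ∧ (∀ v ∈ Y', v ∈ U) ∧ ∃ x ∈ Y', P.B r x ≠ 0) :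
    Nat.card F ^ (finrank F V - 2 - finrank F U) * T.card ≤
      {Y' ∈ Im Γ Y y | r ∈ Y' → r ∈ U}.ncard := by
  rcases T.eq_empty_or_nonempty with rfl | ⟨Y₀, hY₀⟩
  · simp
  obtain ⟨-, h0, x₀, hx₀, hrx₀⟩ := hT Y₀ hY₀
  have hrr := P.self_eq_zero hr
  obtain ⟨D, hD1, hD2, hD3⟩ := exists_compl_family (y := y) hrr (h0 x₀ hx₀) hrx₀
  have hγ : ∀ w : D, ∃ γ ∈ EG P, ∀ x, γ x = eu P r w (P.q w) x := fun w =>
    has_eu_EG hr (hD2 w w.2).1 (by simp)
  choose γ hγ1 hγ2 using hγ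
  have hr' : ∀ w : D, γ w r = r := fun w => by
    rw [hγ2, eu_fix _ hrr (P.eq_zero_symm (hD2 w w.2).1)]
  have hy' : ∀ w : D, γ w y = y := fun w => by
    rw [hγ2, eu_fix _ hry (P.eq_zero_symm (hD2 w w.2).2)]
  have h1 := Set.ncard_le_ncard_of_injOn (s := (Set.univ : Set D) ×ˢ (T : Set (AddSubgroup V)))
    (t := {Y' ∈ Im Γ Y y | r ∈ Y' → r ∈ U}) (fun z => img (γ z.1) z.2) (by
      rintro ⟨w, Y'⟩ ⟨-, h⟩
      obtain ⟨h1, h2, -⟩ := hT Y' h
      refine ⟨?_, fun h3 => h2 r ?_⟩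
      · simpa [hy'] using img_mem_Im' h1 (hΓ (hγ1 w))
      · rwa [← hr' w, apply_mem_img] at h3) (by
      rintro ⟨w, Y₁⟩ ⟨-, h₁⟩ ⟨w', Y₂⟩ ⟨-, h₂⟩ (e : img (γ w) Y₁ = img (γ w') Y₂)
      obtain ⟨-, h1, x, hx, hrx⟩ := hT Y₁ h₁
      obtain ⟨-, h2, -⟩ := hT Y₂ h₂
      have h3 : γ w x ∈ img (γ w') Y₂ := e ▸ apply_mem_img.2 hx
      obtain ⟨x', hx', e'⟩ := h3
      have h4 : eu P r (-w' + w) (P.B w' w' - P.q w' + P.q w + P.B (-w') w) x = x' := by
        rw [← eu_comp hrr (by simp [(hD2 w' w'.2).1]) (hD2 w w.2).1, ← hγ2, ← e']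
        change eu P r (-w') _ (γ w' x') = x'
        rw [hγ2, eu_comp hrr (by simp [(hD2 w' w'.2).1]) (hD2 w' w'.2).1]
        simp [eu_zero]
      have h5 := hD3 _ (D.add_mem (D.neg_mem w'.2) w.2)
        (mem_sup_of_eu (h1 x hx) (h4 ▸ h2 x' hx') hrx)
      have h6 : w = w' := Subtype.ext (neg_add_eq_zero.1 h5).symm
      subst h6
      exact Prod.ext rfl (img_injective _ e))
  rw [Set.ncard_prod, Set.ncard_univ, Set.ncard_coe_finset, card_submodule] at h1
  refine le_trans (Nat.mul_le_mul_right _ (Nat.pow_le_pow_right Nat.card_pos ?_)) h1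
  omega

end Family

section Torus

variable {Ω : Type*} [MulAction (EG P) Ω] [Finite F] [Finite V] {g : EG P} {a : F}

instance : Finite (Heis P d f) := Finite.of_equiv _ (Heis.equiv P d f).symm

theorem Pair.toG_injective (h : Pair P d f) : Function.Injective h.toG := by
  intro x y e
  have h1 : eu P d x.w x.c f = eu P d y.w y.c f := by rw [← h.toG_apply, ← h.toG_apply, e]
  obtain ⟨h2, h3⟩ := h.eu_inj h1
  exact Heis.ext h2 h3

theorem Lev.cj_mul (h : Pair P d f) (hg : Lev d f g a) (x y : Heis P d f) :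
    hg.cj (x * y) = hg.cj x * hg.cj y := by
  apply h.toG_injective
  simp only [map_mul, hg.toG_cj h]
  group

theorem Lev.cj_inv (h : Pair P d f) (hg : Lev d f g a) (x : Heis P d f) :
    hg.cj x⁻¹ = (hg.cj x)⁻¹ := by
  apply h.toG_injective
  simp only [map_inv, hg.toG_cj h]
  group

theorem Lev.comm_inj (h : Pair P d f) (hg : Lev d f g a) (hf : ∀ x, hg.cj x = x → x = 1) :
    Function.Injective fun x => x⁻¹ * hg.cj x := by
  intro x y (e : x⁻¹ * hg.cj x = y⁻¹ * hg.cj y)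
  have h1 : hg.cj (x * y⁻¹) = x * y⁻¹ := by
    rw [hg.cj_mul h, hg.cj_inv h, mul_inv_eq_iff_eq_mul, mul_assoc, ← e, mul_inv_cancel_left]
  exact mul_inv_eq_one.1 (hf _ h1)

theorem Lev.smul_toG (h : Pair P d f) (hg : Lev d f g a) (x : Heis P d f) (ω : Ω) :
    g • h.toG x • ω = h.toG (hg.cj x) • g • ω := by
  rw [hg.toG_cj h, mul_smul, mul_smul, inv_smul_smul]

/-- A fixed point free torus element has a fixed point on each invariant orbit. -/
theorem Lev.exists_fix (h : Pair P d f) (hg : Lev d f g a) (hf : ∀ x, hg.cj x = x → x = 1) {ω : Ω}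
    (hω : g • ω ∈ Orb h ω) : ∃ ω' ∈ Orb h ω, g • ω' = ω' := by
  obtain ⟨x₀, e⟩ := hω
  obtain ⟨x, hx⟩ := Finite.injective_iff_surjective.1 (hg.comm_inj h hf) x₀⁻¹
  refine ⟨h.toG x • ω, ⟨x, rfl⟩, ?_⟩
  have h1 : hg.cj x * x₀ = x := by
    have : x⁻¹ * hg.cj x = x₀⁻¹ := hx
    rw [← mul_inv_cancel_left x (hg.cj x), this, inv_mul_cancel_right]
  rw [hg.smul_toG h, ← e, ← mul_smul, ← map_mul, h1]

theorem Lev.fix_unique (h : Pair P d f) (hg : Lev d f g a) (hf : ∀ x, hg.cj x = x → x = 1)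
    {ω ω' : Ω} (ho : ω' ∈ Orb h ω) (h1 : g • ω = ω) (h2 : g • ω' = ω') : ω' = ω := by
  obtain ⟨x, rfl⟩ := ho
  let S : Subgroup (Heis P d f) := (MulAction.stabilizer (EG P) ω).comap h.toG
  have hS : ∀ s, s ∈ S ↔ h.toG s • ω = ω := fun s => Iff.rfl
  have hc : ∀ s ∈ S, hg.cj s ∈ S := fun s hs => by
    rw [hS] at hs ⊢
    conv_lhs => rw [← h1, ← hg.smul_toG h, hs, h1]
  let φ : S → S := fun s => ⟨s.1⁻¹ * hg.cj s.1, S.mul_mem (S.inv_mem s.2) (hc _ s.2)⟩
  have hφ : Function.Injective φ := fun s t e =>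
    Subtype.ext (hg.comm_inj h hf (congrArg Subtype.val e))
  have h3 : x⁻¹ * hg.cj x ∈ S := by
    rw [hg.smul_toG h, h1] at h2
    rw [hS, map_mul, mul_smul, h2, map_inv, inv_smul_smul]
  obtain ⟨s, hs⟩ := Finite.injective_iff_surjective.1 hφ ⟨_, h3⟩
  have h4 : s.1 = x := hg.comm_inj h hf (congrArg Subtype.val hs)
  exact (hS x).1 (h4 ▸ s.2)

/-- Elements commuting with the torus element fix its fixed point. -/
theorem Lev.fix_of_comm (h : Pair P d f) (hg : Lev d f g a) (hf : ∀ x, hg.cj x = x → x = 1)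
    {ω : Ω} (h1 : g • ω = ω) {k : EG P} (hk : g * k = k * g) (ho : k • ω ∈ Orb h ω) : k • ω = ω :=
  hg.fix_unique h hf ho h1 (by rw [← mul_smul, hk, mul_smul, h1])

end Torus

theorem force_eq_tools : True := by
  have := @imgAct.eq_1.{0,0}
  have := @imgAct.eq_def.{0,0}
  have := @stabA.eq_1.{0,0}
  have := @stabA.eq_def.{0,0}
  trivial

end H20.MD
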