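import Cfsg.Agent.Lib.MinDeg.OrthF

/-! Transvections, commutators and masses in spaces with non-trivial `Λ`. -/

set_option autoImplicit false
set_option linter.unusedSectionVars false
set_option linter.unusedSimpArgs false
set_option linter.unusedVariables false

namespace H20.MD

open Module H28 H97
open scoped Classical

variable {F V : Type*} [Field F] [AddCommGroup V] [Module F V] [FiniteDimensional F V]
  {σ : F →+* F} {P : PQ F V σ} {d f : V} {H : Subgroup (V ≃ₗ[F] V)}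

theorem sigma_lam {l : F} (hl : l ∈ P.Λ) : σ l = -(P.ε * l) := by
  have h1 := P.tr_mem l hl
  linear_combination P.ε * h1 - σ l * P.εε

theorem inv_sigma_mem {l : F} (hl : l ∈ P.Λ) : (σ l)⁻¹ ∈ P.Λ := by
  by_cases h0 : l = 0
  · simp [h0]
  have := P.norm_mem l⁻¹ l hl
  rwa [mul_assoc, inv_mul_cancel₀ h0, mul_one, map_inv₀] at this

theorem eu_tr (r : V) (l : F) (x : V) : eu P r 0 l x = x - (P.ε * l * P.B r x) • r := by
  rw [eu_apply]
  simp only [map_zero, LinearMap.zero_apply, smul_zero]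
  module

theorem has_tr_neg {r : V} (hr : P.q r ∈ P.Λ) {l : F} (h : Has H (eu P r 0 l)) : Has H (eu P r 0 (-l)) := by
  simpa using has_eu_neg hr (map_zero _) h

section Line

variable (P H) in
/-- An element of the centre of the unipotent radical of the line through `d` and `r` lies in `H`. -/
def AL (d r : V) (c a l : F) : Prop :=
  Has H fun x => x + (σ a * P.B r x - P.ε * c * P.B d x) • d - (P.ε * l * P.B r x + P.ε * a * P.B d x) • r

variable {r : V} {c a l c' a' l' : F}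

theorem AL.congr (h : AL P H d r c a l) (hc : c = c') (ha : a = a') (hl : l = l') : AL P H d r c' a' l' :=
  hc ▸ ha ▸ hl ▸ h

theorem AL.add (hd : P.B d d = 0) (hr : P.B r r = 0) (hdr : P.B d r = 0) (h : AL P H d r c a l)
    (h' : AL P H d r c' a' l') : AL P H d r (c + c') (a + a') (l + l') := by
  refine (Has.comp h h').congr fun x => ?_
  simp only [map_add, map_sub, map_smul, hd, hr, hdr, P.eq_zero_symm hdr, smul_eq_mul, mul_zero,
    add_zero, sub_zero]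
  module

theorem AL.neg (hd : P.B d d = 0) (hr : P.B r r = 0) (hdr : P.B d r = 0) (h : AL P H d r c a l) :
    AL P H d r (-c) (-a) (-l) := by
  refine Has.inv h fun x => ?_
  simp only [map_add, map_sub, map_smul, hd, hr, hdr, P.eq_zero_symm hdr, smul_eq_mul, mul_zero,
    add_zero, sub_zero, map_neg]
  module

theorem AL.sub (hd : P.B d d = 0) (hr : P.B r r = 0) (hdr : P.B d r = 0) (h : AL P H d r c a l)
    (h' : AL P H d r c' a' l') : AL P H d r (c - c') (a - a') (l - l') :=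
  (h.add hd hr hdr (h'.neg hd hr hdr)).congr (by ring) (by ring) (by ring)

theorem al_left : AL P H d r c a 0 ↔ Has H (eu P d (a • r) c) := by
  have : ∀ x, x + (σ a * P.B r x - P.ε * c * P.B d x) • d - (P.ε * 0 * P.B r x + P.ε * a * P.B d x) • r =
      eu P d (a • r) c x := fun x => by
    rw [eu_apply, B_smul_left]
    module
  exact ⟨fun h => Has.congr h this, fun h => h.congr fun x => (this x).symm⟩

theorem al_line (hl : l ∈ P.Λ) (α μ : F) :
    AL P H d r (l * α * σ α + μ * σ α - P.ε * α * σ μ) (l * σ α - P.ε * σ μ) l ↔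
      Has H (eu P (r + α • d) (μ • d) l) := by
  have : ∀ x, x + (σ (l * σ α - P.ε * σ μ) * P.B r x -
      P.ε * (l * α * σ α + μ * σ α - P.ε * α * σ μ) * P.B d x) • d -
      (P.ε * l * P.B r x + P.ε * (l * σ α - P.ε * σ μ) * P.B d x) • r =
      eu P (r + α • d) (μ • d) l x := fun x => by
    rw [eu_apply]
    simp only [map_add, map_sub, map_mul, P.σσ, P.σε, sigma_lam hl, LinearMap.add_apply, B_smul_left]
    match_scalars
    · ring
    · linear_combination (α * σ μ * P.B d x) * P.εε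
    · linear_combination (σ μ * P.B d x) * P.εε
  exact ⟨fun h => Has.congr h this, fun h => h.congr fun x => (this x).symm⟩

theorem al_tr (hl : l ∈ P.Λ) (α : F) :
    AL P H d r (l * α * σ α) (l * σ α) l ↔ Has H (eu P (r + α • d) 0 l) := by
  have := al_line (H := H) (d := d) (r := r) hl α 0
  simpa using this

theorem al_right (hl : l ∈ P.Λ) (μ : F) :
    AL P H d r 0 (-(P.ε * σ μ)) l ↔ Has H (eu P r (μ • d) l) := by
  have := al_line (H := H) (d := d) (r := r) hl 0 μ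
  simpa using this

theorem al_of_comp (hdr : P.B d r = 0) (h : Has H fun x => eu P d (a • r) c (eu P r 0 l x))
    (hr : P.B r r = 0) : AL P H d r c a l := by
  refine h.congr fun x => ?_
  rw [eu_tr, eu_apply]
  simp only [map_sub, map_smul, B_smul_left, hr, hdr, smul_eq_mul, mul_zero, sub_zero]
  module

/-- Two transvections with the same parameter on a totally singular line. -/
theorem has_two (hd : P.B d d = 0) (hr : P.B r r = 0) (hdr : P.B d r = 0) (hl : l ∈ P.Λ) {α β : F}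
    (h1 : Has H (eu P (r + α • d) 0 l)) (h2 : Has H (eu P (r + β • d) 0 l)) :
    Has H (eu P d ((l * σ (α - β)) • r) (l * α * σ α - l * β * σ β)) :=
  al_left.1 ((((al_tr hl α).2 h1).sub hd hr hdr ((al_tr hl β).2 h2)).congr rfl (by rw [map_sub]; ring)
    (by ring))

end Line

section Types

variable (P H) in
/-- `H` contains all transvections with centre `e`. -/
def ZF (e : V) : Prop := ∀ l ∈ P.Λ, Has H (eu P e 0 l)

variable (P H) in
/-- `H ∩ X_e` covers `X_e` modulo the transvections. -/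
def XF (e : V) : Prop := ∀ w, P.B e w = 0 → ∃ c, c - P.q w ∈ P.Λ ∧ Has H (eu P e w c)

theorem Pair.zf_iff (h : Pair P d f) : ZF P H d ↔ ZS h.hd H = P.Λ :=
  ⟨fun h1 => le_antisymm (ZS_le _ _) fun l hl => mem_ZS.2 ⟨hl, h1 l hl⟩,
    fun h1 l hl => (mem_ZS.1 (h1.ge hl)).2⟩

theorem Pair.xf_iff (h : Pair P d f) : XF P H d ↔ XS h H = ⊤ := by
  refine ⟨fun h1 => eq_top_iff.2 fun w _ => mem_XS.2 (h1 w (W_d w)), fun h1 w hw => ?_⟩
  obtain ⟨w', c', a, e1, -, -⟩ := h.exists_W hw (c := P.q w) (by simp)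
  obtain ⟨c, hc, h2⟩ := mem_XS.1 (h1.ge (AddSubgroup.mem_top w'))
  refine ⟨c - a + P.ε * σ a, ?_, h2.congr fun x => ?_⟩
  · have h3 := q_add_sing (P := P) (x := (w' : V)) (P.q_smul_mem h.hd a) (by simp [W_d'])
    have := P.Λ.sub_mem (P.Λ.sub_mem hc h3) (P.sub_mem a)
    rw [e1]
    convert this using 1
    ring
  · rw [e1, eu_add_smul]
    congr 1
    ring

theorem Pair.xf_iff' [Finite F] [Finite V] (hP : P.B.SeparatingLeft) (h : Pair P d f) :
    XF P H d ↔ YS h H = ⊥ := by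
  rw [h.xf_iff, YS_def, annR_eq_bot_iff (h.nd hP)]

theorem ZF.xle {e : V} (he : P.q e ∈ P.Λ) (h1 : ZF P H e) (h2 : XF P H e) : XLe P H e :=
  xle_of_parts he h1 h2

theorem zf_of_xle {e : V} (h : XLe P H e) : ZF P H e := fun l hl =>
  h 0 l (map_zero _) (valid_zero hl)

theorem xf_of_xle {e : V} (h : XLe P H e) : XF P H e := fun w hw => ⟨P.q w, by simp, h w _ hw (by simp)⟩

theorem ZF.smul {e : V} (h : ZF P H e) (a : F) : ZF P H (a • e) := fun l hl =>
  (h _ (P.norm_mem a l hl)).congr fun x => by rw [eu_smul, smul_zero]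

theorem ZF.not_reg (hP : P.B.SeparatingLeft) {e : V} (he : e ≠ 0) (h : ZF P H e) {l : F} (hl : l ∈ P.Λ)
    (hl0 : l ≠ 0) : ¬ Reg P H e := fun hr =>
  hl0 (eq_zero_of_eu_eq hP he (hr 0 l (map_zero _) (valid_zero hl) (h l hl)))

variable {Ω : Type*} [MulAction (EG P) Ω] {ω : Ω}

theorem ZF.st {e : V} (h : ZF P (St P ω) e) (g : EG P) : ZF P (St P (g • ω)) (g.1 e) := fun l hl => by
  simpa using has_St_eu g (h l hl)

theorem XF.st {e : V} (h : XF P (St P ω) e) (g : EG P) : XF P (St P (g • ω)) (g.1 e) := fun w hw => by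
  obtain ⟨c, hc, h1⟩ := h ((g⁻¹).1 w) (by rw [← EG_B g, EG_apply_inv, hw])
  refine ⟨c, by simpa only [EG_apply_inv] using EG_valid g hc, ?_⟩
  simpa only [EG_apply_inv] using has_St_eu g h1

/-- Transfer of a property from one singular point to all of them. -/
theorem transfer {k : ℕ} (hK : IsoK P k) (hP : P.B.SeparatingLeft) (hn : k + 2 ≤ finrank F V)
    (hd : P.q d ∈ P.Λ) (hd0 : d ≠ 0) {φ : Subgroup (V ≃ₗ[F] V) → V → Prop}
    (hφ : ∀ (ω : Ω) (e : V) (g : EG P), φ (St P ω) e → φ (St P (g • ω)) (g.1 e))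
    (h : ∀ ω : Ω, φ (St P ω) d) (ω : Ω) {e : V} (he : P.q e ∈ P.Λ) (he0 : e ≠ 0) : φ (St P ω) e := by
  obtain ⟨g, hg, eg⟩ := hK.exists_EG_apply_eq hP hn hd0 he0 (P.Λ.sub_mem hd he)
  have := hφ _ _ ⟨g, hg⟩ (h ((⟨g, hg⟩ : EG P)⁻¹ • ω))
  rwa [smul_inv_smul, show (⟨g, hg⟩ : EG P).1 d = e from eg] at this

theorem transfer_ex {k : ℕ} (hK : IsoK P k) (hP : P.B.SeparatingLeft) (hn : k + 2 ≤ finrank F V)
    (hd : P.q d ∈ P.Λ) (hd0 : d ≠ 0) {φ : Subgroup (V ≃ₗ[F] V) → V → Prop}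
    (hφ : ∀ (ω : Ω) (e : V) (g : EG P), φ (St P ω) e → φ (St P (g • ω)) (g.1 e))
    {e : V} (he : P.q e ∈ P.Λ) (he0 : e ≠ 0) (h : φ (St P ω) e) : ∃ ω' : Ω, φ (St P ω') d := by
  obtain ⟨g, hg, eg⟩ := hK.exists_EG_apply_eq hP hn he0 hd0 (P.Λ.sub_mem he hd)
  have := hφ _ _ ⟨g, hg⟩ h
  exact ⟨_, by rwa [show (⟨g, hg⟩ : EG P).1 e = d from eg] at this⟩

theorem st_inv {φ : Subgroup (V ≃ₗ[F] V) → V → Prop}
    (hφ : ∀ (ω : Ω) (e : V) (g : EG P), φ (St P ω) e → φ (St P (g • ω)) (g.1 e))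
    (ω : Ω) (e : V) (g : EG P) (h : φ (St P (g • ω)) (g.1 e)) : φ (St P ω) e := by
  have := hφ _ _ g⁻¹ h
  rwa [inv_smul_smul, EG_inv_apply] at this

end Types

section QFix

variable {Ω : Type*} [MulAction (EG P) Ω] [Finite F] [Finite V] {g : EG P} {a : F}

theorem Heis.comm_of_w {z : Heis P d f} (hz : z.w = 0) (x : Heis P d f) : x * z = z * x :=
  Heis.ext (by simp [Heis.mul_w, hz]) (by simp [Heis.mul_c, hz, add_comm])

theorem Lev.cj_of_w {k : EG P} (hk : Lev d f k 1) {z : Heis P d f} (hz : z.w = 0) : hk.cj z = z :=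
  Heis.ext (Subtype.ext (by simp [hk.cj_w, hz])) (by simp [hk.cj_c])

/-- An element acting without fixed points modulo the centre fixes a point modulo the centre. -/
theorem Lev.exists_qfix (h : Pair P d f) (hg : Lev d f g a)
    (hf : ∀ w : Wp P d f, σ a • g.1 w = w → w = 0) {ω : Ω} (hω : g • ω ∈ Orb h ω) :
    ∃ ω' ∈ Orb h ω, ∃ z : Heis P d f, z.w = 0 ∧ g • ω' = h.toG z • ω' := by
  obtain ⟨x₀, e⟩ := hω
  let φ : Wp P d f → Wp P d f := fun w => w - (hg.cj ⟨w, P.q w, by simp⟩).w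
  have hφ : Function.Injective φ := fun w w' e1 => by
    have h1 := congrArg Subtype.val e1
    simp only [φ, Submodule.coe_sub, hg.cj_w] at h1
    refine sub_eq_zero.1 (hf _ ?_)
    rw [Submodule.coe_sub, map_sub, smul_sub]
    linear_combination (norm := module) -h1
  obtain ⟨w, hw⟩ := Finite.injective_iff_surjective.1 hφ x₀.w
  let x : Heis P d f := ⟨w, P.q w, by simp⟩
  refine ⟨h.toG x • ω, ⟨x, rfl⟩, hg.cj x * x₀ * x⁻¹, ?_, ?_⟩
  · rw [Heis.mul_w, Heis.mul_w, Heis.inv_w, ← hw]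
    simp [φ, x]
  · rw [hg.smul_toG h, ← e, ← mul_smul, ← mul_smul, ← map_mul, ← map_mul, inv_mul_cancel_right]

theorem Lev.qfix_mem (h : Pair P d f) (hg : Lev d f g a) {ω : Ω} {z : Heis P d f} (hz : z.w = 0)
    (h1 : g • ω = h.toG z • ω) {k : EG P} (hk : Lev d f k 1) (hc : g * k = k * g) {x : Heis P d f}
    (hx : h.toG x • ω = k • ω) : (hg.cj x).w - x.w ∈ XS h (St P ω) := by
  have h2 : h.toG (x⁻¹ * hg.cj x) • ω = ω := by
    have h3 : h.toG (hg.cj x * z) • ω = h.toG (z * x) • ω := by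
      rw [map_mul, mul_smul, ← h1, ← hg.smul_toG h, hx, ← mul_smul, hc, mul_smul, h1, hk.smul_toG h,
        hk.cj_of_w hz, ← hx, ← mul_smul, map_mul]
    rw [Heis.comm_of_w hz, map_mul, map_mul, mul_smul, mul_smul, smul_left_cancel_iff] at h3
    rw [map_mul, mul_smul, h3, map_inv, inv_smul_smul]
  have h4 := (h.has_St_iff _).2 h2
  refine H20.MD.mem_XS.2 ⟨_, ?_, by simpa only [Heis.mul_w, Heis.inv_w, neg_add_eq_sub] using h4⟩
  simpa only [Heis.mul_w, Heis.inv_w, neg_add_eq_sub] using (x⁻¹ * hg.cj x).valid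

theorem Lev.qfix_XS (h : Pair P d f) (hg : Lev d f g a) {ω : Ω} {z : Heis P d f} (hz : z.w = 0)
    (h1 : g • ω = h.toG z • ω) {w : Wp P d f} {c : F} (hc : c - P.q w ∈ P.Λ)
    (h2 : Has (St P ω) (eu P d w c)) : Has (St P ω) (eu P d (σ a • g.1 w) (σ a * a * c)) := by
  let x : Heis P d f := ⟨w, c, hc⟩
  have h3 : h.toG x • ω = ω := (h.has_St_iff x).1 h2
  have h4 : h.toG (hg.cj x) • ω = ω := by
    have h5 := hg.smul_toG h x ω
    rw [h3, h1, ← mul_smul, ← map_mul, Heis.comm_of_w hz, map_mul, mul_smul,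
      smul_left_cancel_iff] at h5
    exact h5.symm
  have := (h.has_St_iff _).2 h4
  rwa [hg.cj_w, hg.cj_c] at this

/-- The element `x⁻¹ k` of the stabiliser. -/
theorem has_of_smul_eq (h : Pair P d f) {ω : Ω} {x : Heis P d f} {k : EG P}
    (hx : h.toG x • ω = k • ω) : Has (St P ω) fun v => eu P d (x⁻¹).w (x⁻¹).c (k.1 v) := by
  refine (has_St_iff (g := h.toG x⁻¹ * k) fun v => by rw [EG_mul_apply, h.toG_apply]).2 ?_
  rw [mul_smul, ← hx, map_inv, inv_smul_smul]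

end QFix

section Mass

variable [Finite F] [Finite V]

/-- If `Z ≠ Λ` then `X` is isotropic for a character of the form. -/
theorem Pair.exists_kappa (h : Pair P d f) (hΛ : ∀ l ∈ P.Λ, ∃ t, l = t - P.ε * σ t)
    (hZ : ZS h.hd H ≠ P.Λ) : ∃ κ : F, κ ≠ 0 ∧ ∀ x ∈ XS h H, κ • x ∈ YS h H := by
  obtain ⟨l, hl, hl'⟩ : ∃ l ∈ P.Λ, l ∉ ZS h.hd H := by
    by_contra hc
    push Not at hc
    exact hZ (le_antisymm (ZS_le _ _) hc)
  obtain ⟨κ₀, h1, h2⟩ := exists_psi_sep _ hl'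
  let φ : F →+ F := AddMonoidHom.mk' (fun t => κ₀ * (t - P.ε * σ t)) fun s t => by
    rw [map_add]; ring
  obtain ⟨κ, hκ⟩ := exists_eq_psi ((psi F).compAddMonoidHom φ)
  have hκ' : ∀ t, psi F (κ₀ * (t - P.ε * σ t)) = psi F (κ * t) := hκ
  obtain ⟨t, rfl⟩ := hΛ l hl
  refine ⟨κ, fun e => h2 (by rw [hκ', e, zero_mul, AddChar.map_zero_eq_one]), fun x hx => mem_YS.2
    fun x' hx' => ?_⟩
  obtain ⟨c, hc, h3⟩ := mem_XS.1 hx
  obtain ⟨c', hc', h4⟩ := mem_XS.1 hx'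
  have h5 := h1 _ (comm_mem_ZS h.hd (W_d x') (W_d x) hc' hc h4 h3)
  rw [P.symm x' x, hκ'] at h5
  simpa using h5

theorem card_le_of_kappa {W : Type*} [AddCommGroup W] [Module F W] [Finite W] {X Y : AddSubgroup W}
    {κ : F} (hκ : κ ≠ 0) (h : ∀ x ∈ X, κ • x ∈ Y) : Nat.card X ≤ Nat.card Y :=
  Nat.card_le_card_of_injective (fun x : X => (⟨κ • x.1, h x.1 x.2⟩ : Y)) fun x y e =>
    Subtype.ext (smul_right_injective W hκ (congrArg Subtype.val e))

theorem Pair.card_YS_mul (hP : P.B.SeparatingLeft) (h : Pair P d f) :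
    Nat.card (YS h H) * Nat.card (XS h H) = Nat.card (Wp P d f) := card_annR (h.nd hP) _

theorem Pair.card_XS_le (h : Pair P d f) (hΛ : ∀ l ∈ P.Λ, ∃ t, l = t - P.ε * σ t)
    (hZ : ZS h.hd H ≠ P.Λ) : Nat.card (XS h H) ≤ Nat.card (YS h H) := by
  obtain ⟨κ, hκ, h1⟩ := h.exists_kappa hΛ hZ
  exact card_le_of_kappa hκ h1

theorem Pair.zf_of_xf (hP : P.B.SeparatingLeft) (h : Pair P d f) (hn : 3 ≤ finrank F V)
    (hΛ : ∀ l ∈ P.Λ, ∃ t, l = t - P.ε * σ t) (hX : XF P H d) : ZF P H d := by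
  rw [h.zf_iff]
  by_contra hZ
  have h1 := h.card_XS_le hΛ hZ
  rw [h.xf_iff.1 hX, (h.xf_iff' hP).1 hX, AddSubgroup.card_top, AddSubgroup.card_bot, card_submodule] at h1
  have h2 := h.finrank_W
  have h3 : 1 < Nat.card F := Finite.one_lt_card
  have := Nat.one_lt_pow (n := finrank F (Wp P d f)) (by omega) h3
  omega

variable {Ω : Type*} [MulAction (EG P) Ω]

theorem Reg.orb (h : Pair P d f) {ω ω' : Ω} (hr : Reg P (St P ω) d) (e : ω' ∈ Orb h ω) :
    Reg P (St P ω') d := by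
  rw [h.reg_iff] at hr ⊢
  rwa [XS_eq_of_Orb e, ZS_eq_of_Orb e]

theorem closed_reg (h : Pair P d f) : Closed h {ω : Ω | Reg P (St P ω) d} :=
  ⟨fun _ hω _ e => Reg.orb h hω e, fun _ _ hg _ hω => Reg.lev hω hg⟩

theorem ncard_add_compl [Finite Ω] (S : Set Ω) : S.ncard + Sᶜ.ncard = Nat.card Ω :=
  Set.ncard_add_ncard_compl S

theorem card_nonreg [Finite Ω] (hP : P.B.SeparatingLeft) (h : Pair P d f) {ω : Ω}
    (hr : Reg P (St P ω) d) : Nat.card (Wp P d f) * Nat.card P.Λ +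
      {ω : Ω | Reg P (St P ω) d}ᶜ.ncard ≤ Nat.card Ω := by
  rw [← ncard_add_compl {ω : Ω | Reg P (St P ω) d}, ← h.card_Orb_reg hP hr, Nat.card_coe_set_eq]
  exact Nat.add_le_add_right (Set.ncard_le_ncard ((closed_reg h).orb ω hr)) _

theorem card_Orb_le [Finite Ω] {h : Pair P d f} {S : Set Ω} (hS : Closed h S) {ω : Ω} (hω : ω ∈ S) :
    Nat.card (Orb h ω) ≤ S.ncard := by
  rw [Nat.card_coe_set_eq]
  exact Set.ncard_le_ncard (hS.orb ω hω)

variable [Fintype Ω]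

theorem class_mult_le {h : Pair P d f} {S : Set Ω} (hS : Closed h S) {C : Finset (Wp P d f)}
    {y : Wp P d f} (hC : ∀ y' ∈ C, ∃ γ ∈ LevAut P d f, γ y = y') {t : ℕ} (ht : (t : ℚ) ≤ mult h S y) :
    C.card * t ≤ S.ncard := by
  have h1 := sum_mult_le h S C
  rw [sum_mult_class hS hC] at h1
  exact_mod_cast (mul_le_mul_of_nonneg_left ht (Nat.cast_nonneg _)).trans h1

theorem class_mult_le_frac {h : Pair P d f} {S : Set Ω} (hS : Closed h S) {C : Finset (Wp P d f)}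
    (h0 : 0 ∉ C) {y : Wp P d f} (hC : ∀ y' ∈ C, ∃ γ ∈ LevAut P d f, γ y = y') {t : ℕ}
    (ht : (t : ℚ) ≤ mult h S y) {M : ℕ} (hM : ∀ ω ∈ S, Nat.card (YS h (St P ω)) ≤ M) (hM0 : 0 < M) :
    M * (C.card * t) ≤ (M - 1) * S.ncard := by
  have h1 := sum_mult_le_frac h S C h0 hM hM0
  rw [sum_mult_class hS hC, ← Nat.cast_one, ← Nat.cast_sub hM0] at h1
  exact_mod_cast (mul_le_mul_of_nonneg_left (mul_le_mul_of_nonneg_left ht (Nat.cast_nonneg _))
    (Nat.cast_nonneg _)).trans h1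

theorem two_class_le {h : Pair P d f} {S : Set Ω} (hS : Closed h S) {C C' : Finset (Wp P d f)}
    (hd : Disjoint C C') {y y' : Wp P d f} (hC : ∀ v ∈ C, ∃ γ ∈ LevAut P d f, γ y = v)
    (hC' : ∀ v ∈ C', ∃ γ ∈ LevAut P d f, γ y' = v) {t t' : ℕ} (ht : (t : ℚ) ≤ mult h S y)
    (ht' : (t' : ℚ) ≤ mult h S y') : C.card * t + C'.card * t' ≤ S.ncard := by
  have h1 := sum_mult_le h S (C ∪ C')
  rw [Finset.sum_union hd, sum_mult_class hS hC, sum_mult_class hS hC'] at h1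
  exact_mod_cast (add_le_add (mul_le_mul_of_nonneg_left ht (Nat.cast_nonneg _))
    (mul_le_mul_of_nonneg_left ht' (Nat.cast_nonneg _))).trans h1

theorem beta_le_mult (hP : P.B.SeparatingLeft) {h : Pair P d f} {S : Set Ω} (hS : Closed h S)
    (y : Wp P d f) {ω : Ω} (hω : ω ∈ S) :
    (((Im (LevAut P d f) (YS h (St P ω)) y).ncard * (ZS h.hd (St P ω)).relIndex P.Λ : ℕ) : ℚ) ≤
      mult h S y := by
  exact_mod_cast mult_ge_Im hP hS y hω

theorem idx_le_mult (hP : P.B.SeparatingLeft) {h : Pair P d f} {S : Set Ω} (hS : Closed h S)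
    {y : Wp P d f} {ω : Ω} (hω : ω ∈ S) (hy : y ∈ YS h (St P ω)) :
    (((ZS h.hd (St P ω)).relIndex P.Λ : ℕ) : ℚ) ≤ mult h S y :=
  le_trans (by exact_mod_cast Nat.le_mul_of_pos_left _ (one_le_ncard_Im hy)) (beta_le_mult hP hS y hω)

theorem two_idx_le_mult (hP : P.B.SeparatingLeft) {h : Pair P d f} {S : Set Ω} (hS : Closed h S)
    {y : Wp P d f} {ω ω' : Ω} (hω : ω ∈ S) (hy : y ∈ YS h (St P ω)) (hω' : ω' ∈ S)
    (hy' : y ∈ YS h (St P ω')) (hne : ω' ∉ Orb h ω) :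
    (((ZS h.hd (St P ω)).relIndex P.Λ + (ZS h.hd (St P ω')).relIndex P.Λ : ℕ) : ℚ) ≤ mult h S y := by
  have := mult_ge hP hS (y := y) (Finset.univ : Finset Bool) (fun b => if b then ω else ω')
    (fun b _ => by cases b <;> simp [*]) (fun b _ b' _ e => by
      cases b <;> cases b' <;> simp at e ⊢
      · exact hne (Orb_symm e)
      · exact hne e)
  simpa using this

end Mass

section Points

/-- Two opposite singular points are conjugate under a transvection. -/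
theorem exists_EG_opp {l : F} (hl : l ∈ P.Λ) (hl0 : l ≠ 0) {v y : V} (hv : P.q v ∈ P.Λ)
    (hy : P.q y ∈ P.Λ) (h : P.B v y ≠ 0) : ∃ a : F, a ≠ 0 ∧ ∃ γ ∈ EG P, y = a • γ v := by
  have h1 := pair_of_ne hv hy h
  set y' := (P.B v y)⁻¹ • y with hy'
  obtain ⟨γ, hγ, e⟩ := has_eu_EG (d := v + l • y') (w := 0) (c := (σ l)⁻¹)
    (by simpa using P.Λ.add_mem (q_pair hv h1.hf h1.hdf l) hl) (map_zero _) (valid_zero (inv_sigma_mem hl))
  have hσ := sigma_ne (σ := σ) hl0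
  refine ⟨-(P.B v y * l⁻¹), by simp [h, hl0], γ, hγ, ?_⟩
  rw [e, eu_tr, map_add, LinearMap.add_apply, B_smul_left, h1.dd, h1.fd,
    show P.ε * (σ l)⁻¹ * (0 + σ l * P.ε) = 1 by
      linear_combination P.ε * P.ε * inv_mul_cancel₀ hσ + P.εε, hy']
  match_scalars
  · field_simp
  · simp

theorem mem_span_of_perp_two (hP : P.B.SeparatingLeft) (hn : finrank F V = 2) {v y : V} (hv : v ≠ 0)
    (hvv : P.B v v = 0) (h : P.B v y = 0) : y ∈ F ∙ v := by
  have h1 := finrank_perp hP (F ∙ v)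
  rw [finrank_span_singleton hv] at h1
  have h2 : F ∙ v = perp P (F ∙ v) := Submodule.eq_of_le_of_finrank_eq
    ((Submodule.span_singleton_le_iff_mem _ _).2 (mem_perp_singleton.2 hvv))
    (by rw [finrank_span_singleton hv]; omega)
  rw [h2]
  exact mem_perp_singleton.2 h

theorem exists_EG_two (hP : P.B.SeparatingLeft) (hn : finrank F V = 2) {l : F} (hl : l ∈ P.Λ)
    (hl0 : l ≠ 0) {v y : V} (hv : P.q v ∈ P.Λ) (hv0 : v ≠ 0) (hy : P.q y ∈ P.Λ) (hy0 : y ≠ 0) :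
    ∃ a : F, a ≠ 0 ∧ ∃ γ ∈ EG P, y = a • γ v := by
  by_cases h : P.B v y = 0
  · obtain ⟨a, rfl⟩ := Submodule.mem_span_singleton.1 (mem_span_of_perp_two hP hn hv0 (P.self_eq_zero hv) h)
    exact ⟨a, fun e => hy0 (by simp [e]), 1, (EG P).one_mem, rfl⟩
  · exact exists_EG_opp hl hl0 hv hy h

variable [Finite F] [Finite V]

theorem TS.decomp (h : Pair P d f) {L : Submodule F V} (hL : TS P L) (hf : f ∈ L) {x : V} (hx : x ∈ L) :
    ∃ (b : F) (w : Wp P d f), x = b • f + w ∧ (w : V) ∈ L := by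
  obtain ⟨a, b, w, rfl⟩ := h.decomp' x
  have h1 := hL.2 f hf _ hx
  rw [h.B_f_comb, mul_eq_zero] at h1
  rw [h1.resolve_left P.ε_ne_zero, zero_smul, zero_add] at hx ⊢
  exact ⟨b, w, rfl, by simpa using L.sub_mem hx (L.smul_mem b hf)⟩

theorem TS.comap_eq (hP : P.B.SeparatingLeft) (h : Pair P d f) (hn : finrank F V = 4)
    {L : Submodule F V} (hL : TS P L) (hf : f ∈ L) (h2 : 2 ≤ finrank F L) :
    ∃ v : Wp P d f, v ≠ 0 ∧ P.q v ∈ P.Λ ∧
      L.toAddSubgroup.comap (Wp P d f).subtype.toAddMonoidHom = (F ∙ v).toAddSubgroup := by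
  have h3 := finrank_span_singleton_le (F := F) f
  obtain ⟨x, hx, hxf⟩ := exists_notMem_of_lt (X := L) (U := F ∙ f) (by omega)
  obtain ⟨b, v, rfl, hv⟩ := hL.decomp h hf hx
  have hv0 : v ≠ 0 := fun e => hxf (by simp [e, Submodule.smul_mem, Submodule.mem_span_singleton_self])
  have hW := h.finrank_W
  refine ⟨v, hv0, hL.1 _ hv, le_antisymm (fun u hu => ?_) fun u hu => ?_⟩
  · exact mem_span_of_perp_two (h.nd hP) (by omega) hv0 (hL.2 _ hv _ hv) (hL.2 _ hv _ hu)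
  · obtain ⟨a, rfl⟩ := Submodule.mem_span_singleton.1 hu
    exact L.smul_mem a hv

theorem TS.map {L : Submodule F V} (hL : TS P L) {γ : V ≃ₗ[F] V} (hγ : γ ∈ P.Isom) :
    TS P (L.map (γ : V →ₗ[F] V)) := by
  refine ⟨?_, ?_⟩
  · rintro _ ⟨u, hu, rfl⟩
    exact isom_q hγ (hL.1 u hu)
  · rintro _ ⟨u, hu, rfl⟩ _ ⟨u', hu', rfl⟩
    exact (hγ.1 u u').trans (hL.2 u hu u' hu')

/-- The number of totally singular lines through a point. -/
theorem line_eq {k : ℕ} (hK : IsoK P k) (hP : P.B.SeparatingLeft) (hk : k ≤ 2) (hn : finrank F V = 4)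
    {l : F} (hl : l ∈ P.Λ) (hl0 : l ≠ 0) {L : Submodule F V} (hL : TS P L) (h2 : 2 ≤ finrank F L)
    {s : ℕ} (hs : ∀ d f, Pair P d f → (lvl (Pw P d f) 0).card = s) {y : V} (hy : y ∈ lvl P 0) :
    (Im (EG P) L.toAddSubgroup y).ncard * (Nat.card F - 1) = s := by
  obtain ⟨f₀, hf₀, hf0⟩ := exists_ne_zero_mem (X := L) (by omega)
  obtain ⟨d, h'⟩ := exists_pair hP (hL.1 f₀ hf₀) hf0
  have h := h'.symm
  have hf := L.smul_mem P.ε hf₀
  generalize P.ε • f₀ = f at h hf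
  obtain ⟨γ, hγ, rfl⟩ := hK.exists_EG_apply_eq hP (by omega) h.f_ne (mem_lvl.1 hy).1
    (P.Λ.sub_mem h.hf (by simpa using (mem_lvl.1 hy).2))
  have hW := h.finrank_W
  obtain ⟨v, hv0, hv, e⟩ := hL.comap_eq hP h hn hf h2
  have h3 := ncard_Im_point (Γ := EG (Pw P d f)) hv0 (lvl (Pw P d f) 0) fun y => by
    rw [mem_lvl, sub_zero]
    refine ⟨fun h4 => exists_EG_two (h.nd hP) (by omega) hl hl0 hv hv0 h4.2 h4.1, ?_⟩
    rintro ⟨a, ha, γ, hγ, rfl⟩
    exact ⟨by simp [ha, hv0], (Pw P d f).q_smul_mem (isom_q (EG_le_isom hγ) hv) a⟩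
  rw [ncard_Im_apply hγ, ← hs d f h, ← h3]
  congr 1
  refine le_antisymm ?_ (e ▸ ncard_Im_comap_le h hf)
  have key : ∀ L' ∈ Im (EG P) L.toAddSubgroup f, ∃ U : Submodule F V, TS P U ∧ f ∈ U ∧
      2 ≤ finrank F U ∧ L' = U.toAddSubgroup := by
    rintro _ ⟨⟨γ, hγ, rfl⟩, h4⟩
    exact ⟨L.map (γ : V →ₗ[F] V), hL.map (EG_le_isom hγ), h4, by rwa [LinearEquiv.finrank_map_eq],
      rfl⟩
  refine Set.ncard_le_ncard_of_injOn
    (fun L' : AddSubgroup V => L'.comap (Wp P d f).subtype.toAddMonoidHom) (fun L' hL' => ?_) ?_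
  · obtain ⟨U, hU, hfU, h2U, rfl⟩ := key L' hL'
    obtain ⟨v', hv0', hv', e'⟩ := hU.comap_eq hP h hn hfU h2U
    obtain ⟨a, ha, γ, hγ, rfl⟩ := exists_EG_two (h.nd hP) (by omega) hl hl0 hv hv0 hv' hv0'
    refine ⟨⟨γ, hγ, ?_⟩, zero_mem _⟩
    rw [e', img_span_singleton, Submodule.span_singleton_smul_eq (IsUnit.mk0 a ha)]
  · have aux : ∀ U U' : Submodule F V, TS P U → f ∈ U → f ∈ U' →
        U.toAddSubgroup.comap (Wp P d f).subtype.toAddMonoidHom =
          U'.toAddSubgroup.comap (Wp P d f).subtype.toAddMonoidHom → U ≤ U' :=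
      fun U U' hU hfU hfU' e x hx => by
        obtain ⟨b, w, rfl, hw⟩ := hU.decomp h hfU hx
        exact U'.add_mem (U'.smul_mem b hfU') (e.le hw)
    intro L₁ h₁ L₂ h₂ e
    obtain ⟨U, hU, hfU, -, rfl⟩ := key L₁ h₁
    obtain ⟨U', hU', hfU', -, rfl⟩ := key L₂ h₂
    rw [le_antisymm (aux U U' hU hfU hfU' e) (aux U' U hU' hfU' hfU e.symm)]

theorem TS.finrank_le (hP : P.B.SeparatingLeft) {L : Submodule F V} (hL : TS P L) :
    2 * finrank F L ≤ finrank F V := by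
  have h1 := finrank_perp hP L
  have h2 := Submodule.finrank_mono (show L ≤ perp P L from fun x hx u hu => hL.2 u hu x hx)
  omega

/-- The number of totally singular lines. -/
theorem line_count {k : ℕ} (hK : IsoK P k) (hP : P.B.SeparatingLeft) (hk : k ≤ 2) (hn : finrank F V = 4)
    {l : F} (hl : l ∈ P.Λ) (hl0 : l ≠ 0) {L : Submodule F V} (hL : TS P L) (h2 : 2 ≤ finrank F L)
    {t : ℕ} (hs : ∀ d f, Pair P d f → (lvl (Pw P d f) 0).card = t * (Nat.card F - 1)) :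
    (Im (EG P) L.toAddSubgroup 0).ncard * (Nat.card F ^ 2 - 1) = (lvl P 0).card * t := by
  have h1 : 1 < Nat.card F := Finite.one_lt_card
  have h3 := sum_Im (EG P) L.toAddSubgroup (lvl P 0)
  rw [Finset.sum_congr rfl (g := fun _ => t) fun y hy => Nat.eq_of_mul_eq_mul_right (by omega)
    (line_eq hK hP hk hn hl hl0 hL h2 hs hy), Finset.sum_const, smul_eq_mul,
    Finset.sum_congr rfl (g := fun _ => Nat.card F ^ 2 - 1), Finset.sum_const, smul_eq_mul,
    ← Set.ncard_eq_toFinset_card] at h3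
  · exact h3.symm
  · intro L' hL'
    rw [Set.Finite.mem_toFinset] at hL'
    have h4 := card_of_mem_Im hL'
    obtain ⟨⟨γ, hγ, rfl⟩, -⟩ := hL'
    have h5 := hL.finrank_le hP
    have h6 : Nat.card L.toAddSubgroup = Nat.card F ^ 2 := by
      rw [show 2 = finrank F L by omega]
      exact card_submodule L
    have := Fintype.ofFinite V
    rw [← h6, ← h4, show (lvl P 0).filter (· ∈ img γ L.toAddSubgroup) =
      (Finset.univ.filter (· ∈ img γ L.toAddSubgroup)).erase 0 from ?_, Finset.card_erase_of_mem (by simp),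
      Nat.card_eq_fintype_card, Fintype.card_subtype]
    ext x
    simp only [Finset.mem_filter, mem_lvl, Finset.mem_erase, Finset.mem_univ, true_and, sub_zero]
    refine ⟨fun h => ⟨h.1.1, h.2⟩, fun h => ⟨⟨h.1, ?_⟩, h.2⟩⟩
    obtain ⟨u, hu, rfl⟩ := mem_img.1 h.2
    exact isom_q (EG_le_isom hγ) (hL.1 u hu)

/-- In dimension four a full unipotent radical forces a fixed point or line. -/
theorem card_ge_of_xle {k : ℕ} (hK : IsoK P k) (hP : P.B.SeparatingLeft) (hk : k ≤ 2)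
    (hn : finrank F V = 4) {l : F} (hl : l ∈ P.Λ) (hl0 : l ≠ 0)
    {t : ℕ} (hs : ∀ d f, Pair P d f → (lvl (Pw P d f) 0).card = t * (Nat.card F - 1))
    {Ω : Type*} [MulAction (EG P) Ω] [Finite Ω] {ω : Ω} (hne : ¬ EG P ≤ St P ω) {e : V}
    (he : P.q e ∈ P.Λ) (he0 : e ≠ 0) (hx : XLe P (St P ω) e) :
    (lvl P 0).card ≤ Nat.card Ω * (Nat.card F - 1) ∨
      (lvl P 0).card * t ≤ Nat.card Ω * (Nat.card F ^ 2 - 1) := by
  have hL := XSpan_ts hP hne
  have h1 := mem_XSpan he hx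
  by_cases h2 : 2 ≤ finrank F (XSpan P (St P ω))
  · rw [← line_count hK hP hk hn hl hl0 hL h2 hs]
    exact Or.inr (Nat.mul_le_mul_right _ (ncard_Im_le_card fun g hg => XSpan_maps (St_le_isom ω) hg))
  · refine Or.inl (card_lvl_le_of_stab hK hP (by omega) he0 he (ω := ω) fun g hg => mem_stab_of_maps ?_)
    rw [Submodule.eq_of_le_of_finrank_le ((Submodule.span_singleton_le_iff_mem _ _).2 h1)
      (by rw [finrank_span_singleton he0]; omega)]
    exact XSpan_maps (St_le_isom ω) hg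

end Points

theorem force_eq_trans : True := by
  have := @AL.eq_1.{0,0}
  have := @AL.eq_def.{0,0}
  have := @ZF.eq_1.{0,0}
  have := @ZF.eq_def.{0,0}
  have := @XF.eq_1.{0,0}
  have := @XF.eq_def.{0,0}
  trivial

end H20.MD
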